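import Cfsg.Agent.H610.RealOdd
import Cfsg.Agent.H610.ChevRegular
import Cfsg.Agent.S1025
import Cfsg.Prelude.Def_LieTwisted

/-!
# `³D₄(q)`, `q` odd, has a real element with centralizer of odd order
-/

set_option autoImplicit false

namespace Cfsg.Agent.H610.Table3D4

open Cfsg Cfsg.Lie Cfsg.Agent.ChevalleyStructure.Elts Cfsg.Agent.H610.ChevRegular
  Cfsg.Agent.ChevalleyStructure.RootVec

variable {K : Type*} [Field K]

theorem inList : InList chevD4 := by simp

theorem comm_of_terms {D : ChevalleyDatum} (hD : InList D) {r s : ℕ} (hr : r < D.nroots)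
    (hs : s < D.nroots) (hrs : s ≠ r) (hneg : s ≠ D.neg r) (h : D.commTerms r s = []) (t u : K) :
    Commute (xG hD s u) (xG hD r t) := by
  have h1 := Cfsg.Agent.S1025.result (F := K) D hD r s hr hs hrs hneg t u
  have h2 : D.commWord K r s t u = [] := by
    unfold ChevalleyDatum.commWord
    rw [h]
    rfl
  rw [h2, wordMat_nil, mul_one] at h1
  exact Units.ext h1

/-- The signed outer roots of type `D₄`. -/
theorem comm_outer : ∀ r ∈ [18, 13, 12, 5, 10, 11], ∀ s ∈ [18, 13, 12, 5, 10, 11],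
    s = r ∨ s = chevD4.neg r ∨ (r < chevD4.nroots ∧ s < chevD4.nroots ∧ s ≠ r ∧
      s ≠ chevD4.neg r ∧ chevD4.commTerms r s = []) := by
  decide +kernel

theorem commute_outer {r s : ℕ} (hr : r ∈ [18, 13, 12, 5, 10, 11]) (hs : s ∈ [18, 13, 12, 5, 10, 11])
    (h1 : s ≠ r) (h2 : s ≠ chevD4.neg r) (t u : K) :
    Commute (xG inList s u) (xG (F := K) inList r t) := by
  rcases comm_outer r hr s hs with h | h | ⟨h3, h4, h5, h6, h7⟩
  · exact absurd h h1
  · exact absurd h h2
  · exact comm_of_terms inList h3 h4 h5 h6 h7 t u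

section
variable {G : Type*} [Group G]

theorem shuffle {a b c a' b' c' : G} (h1 : Commute b a') (h2 : Commute c a') (h3 : Commute c b') :
    a * b * c * (a' * b' * c') = (a * a') * (b * b') * (c * c') := by
  have h4 : Commute c (a' * b') := h2.mul_right h3
  rw [h4.mul_mul_mul_comm, h1.mul_mul_mul_comm]

theorem shuffle3 {a b c a' b' c' : G} (h1 : Commute b a') (h2 : Commute c a') (h3 : Commute c b')
    (h4 : Commute b a) (h5 : Commute b' a) (h6 : Commute c a) (h7 : Commute c' a)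
    (h8 : Commute c b) (h9 : Commute c' b) :
    a * b * c * (a' * b' * c') * (a * b * c) =
      (a * (a' * a)) * (b * (b' * b)) * (c * (c' * c)) := by
  rw [shuffle h1 h2 h3, shuffle (h4.mul_left h5) (h6.mul_left h7) (h8.mul_left h9),
    mul_assoc a, mul_assoc b, mul_assoc c]

end

/-- The product of the three outer root elements. -/
def X (K : Type*) [Field K] (t : K) : GL chevD4.Idx K :=
  xG inList 18 t * xG inList 13 t * xG inList 12 t

/-- The product of the three negative outer root elements. -/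
def Y (K : Type*) [Field K] (t : K) : GL chevD4.Idx K :=
  xG inList 5 t * xG inList 10 t * xG inList 11 t

theorem neg_vals : chevD4.neg 18 = 5 ∧ chevD4.neg 13 = 10 ∧ chevD4.neg 12 = 11 ∧
    chevD4.neg 5 = 18 ∧ chevD4.neg 10 = 13 ∧ chevD4.neg 11 = 12 := by
  decide +kernel

theorem nProd : X K (-1) * Y K 1 * X K (-1) =
    nG inList 18 (-1) * nG inList 13 (-1) * nG (F := K) inList 12 (-1) := by
  obtain ⟨n1, n2, n3, n4, n5, n6⟩ := neg_vals
  have e : (-(-1 : K)⁻¹) = 1 := by norm_num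
  rw [nG_def, nG_def, nG_def, n1, n2, n3, e]
  exact shuffle3 (commute_outer (by simp) (by simp) (by decide) (by rw [n4]; decide) _ _)
    (commute_outer (by simp) (by simp) (by decide) (by rw [n4]; decide) _ _)
    (commute_outer (by simp) (by simp) (by decide) (by rw [n5]; decide) _ _)
    (commute_outer (by simp) (by simp) (by decide) (by rw [n1]; decide) _ _)
    (commute_outer (by simp) (by simp) (by decide) (by rw [n1]; decide) _ _)
    (commute_outer (by simp) (by simp) (by decide) (by rw [n1]; decide) _ _)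
    (commute_outer (by simp) (by simp) (by decide) (by rw [n1]; decide) _ _)
    (commute_outer (by simp) (by simp) (by decide) (by rw [n2]; decide) _ _)
    (commute_outer (by simp) (by simp) (by decide) (by rw [n2]; decide) _ _)

theorem commute_nG {r s : ℕ} (hr : r ∈ [18, 13, 12]) (hs : s ∈ [18, 13, 12])
    (h1 : s ≠ r) (t u : K) : Commute (nG inList s u) (nG (F := K) inList r t) := by
  obtain ⟨n1, n2, n3, n4, n5, n6⟩ := neg_vals
  rw [nG_def, nG_def]
  have key : ∀ r ∈ [18, 13, 12], ∀ s ∈ [18, 13, 12], s ≠ r → ∀ t u : K,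
      Commute (xG inList s u) (xG (F := K) inList r t) ∧
      Commute (xG inList (chevD4.neg s) u) (xG (F := K) inList r t) ∧
      Commute (xG inList s u) (xG (F := K) inList (chevD4.neg r) t) ∧
      Commute (xG inList (chevD4.neg s) u) (xG (F := K) inList (chevD4.neg r) t) := by
    intro r hr s hs hsr t u
    have hall : ∀ r ∈ [18, 13, 12], chevD4.neg r ∈ [5, 10, 11] ∧ chevD4.neg (chevD4.neg r) = r := by
      decide +kernel
    have hr' := hall r hr
    have hs' := hall s hs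
    have hne : ∀ r ∈ [18, 13, 12], ∀ s ∈ [18, 13, 12], s ≠ chevD4.neg r ∧ chevD4.neg s ≠ r := by
      decide +kernel
    have hinj : ∀ r ∈ [18, 13, 12], ∀ s ∈ [18, 13, 12], s ≠ r → chevD4.neg s ≠ chevD4.neg r := by
      decide +kernel
    have m1 : ∀ {x : ℕ}, x ∈ [18, 13, 12] → x ∈ [18, 13, 12, 5, 10, 11] := by
      intro x hx; simp only [List.mem_cons, List.mem_nil_iff, or_false] at hx ⊢; omega
    have m2 : ∀ {x : ℕ}, x ∈ [5, 10, 11] → x ∈ [18, 13, 12, 5, 10, 11] := by
      intro x hx; simp only [List.mem_cons, List.mem_nil_iff, or_false] at hx ⊢; omega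
    refine ⟨commute_outer (m1 hr) (m1 hs) hsr (hne r hr s hs).1 _ _,
      commute_outer (m1 hr) (m2 hs'.1) (hne r hr s hs).2 (hinj r hr s hs hsr) _ _,
      commute_outer (m2 hr'.1) (m1 hs) (hne r hr s hs).1 (by rw [hr'.2]; exact hsr) _ _,
      commute_outer (m2 hr'.1) (m2 hs'.1) (hinj r hr s hs hsr) (by
        rw [hr'.2]; exact (hne r hr s hs).2) _ _⟩
  have k1 := fun t u => (key r hr s hs h1 t u).1
  have k2 := fun t u => (key r hr s hs h1 t u).2.1
  have k3 := fun t u => (key r hr s hs h1 t u).2.2.1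
  have k4 := fun t u => (key r hr s hs h1 t u).2.2.2
  exact ((k1 _ _).mul_left ((k2 _ _).mul_left (k1 _ _))).mul_right
    (((k3 _ _).mul_left ((k4 _ _).mul_left (k3 _ _))).mul_right
      ((k1 _ _).mul_left ((k2 _ _).mul_left (k1 _ _))))

theorem hProd : (X K (-1) * Y K 1 * X K (-1)) * (X K (-1) * Y K 1 * X K (-1)) =
    hG inList 18 (-1) * hG inList 13 (-1) * hG (F := K) inList 12 (-1) := by
  rw [nProd, hG_def, hG_def, hG_def]
  exact shuffle (commute_nG (by simp) (by simp) (by decide) _ _)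
    (commute_nG (by simp) (by simp) (by decide) _ _)
    (commute_nG (by simp) (by simp) (by decide) _ _)

theorem simple_vals : chevD4.simple 0 = 18 ∧ chevD4.simple 1 = 14 ∧ chevD4.simple 2 = 13 ∧
    chevD4.simple 3 = 12 := by
  decide +kernel

theorem cartan_vals :
    (chevD4.cartan 1 18 = -1 ∧ chevD4.cartan 0 18 = 2 ∧ chevD4.cartan 2 18 = 0 ∧
      chevD4.cartan 3 18 = 0) ∧
    (chevD4.cartan 1 13 = -1 ∧ chevD4.cartan 0 13 = 0 ∧ chevD4.cartan 2 13 = 2 ∧
      chevD4.cartan 3 13 = 0) ∧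
    (chevD4.cartan 1 12 = -1 ∧ chevD4.cartan 0 12 = 0 ∧ chevD4.cartan 2 12 = 0 ∧
      chevD4.cartan 3 12 = 2) ∧
    (chevD4.cartan 1 14 = 2 ∧ chevD4.cartan 0 14 = -1 ∧ chevD4.cartan 2 14 = -1 ∧
      chevD4.cartan 3 14 = -1) := by
  decide +kernel

theorem wordG_mem {q : ℕ} {w : List (ℕ × K)} (hw : w ∈ d4Words K q) :
    wordG inList w ∈ twistedD4 K q :=
  Subgroup.subset_closure ⟨w, hw, coe_wordG inList w⟩

theorem twisted_le (q : ℕ) : twistedD4 K q ≤ chevD4.group K := by
  unfold twistedD4 ChevalleyDatum.genSubgroup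
  rw [Subgroup.closure_le]
  rintro g ⟨w, -, hg⟩
  rw [(eq_wordG_iff inList g w).2 hg]
  exact wordG_mem_group inList w

theorem X_mem {q : ℕ} {t : K} (ht : t ^ q = t) : X K t ∈ twistedD4 K q := by
  have h2 : t ^ (q ^ 2) = t := by rw [pow_two, pow_mul, ht, ht]
  have h1 := wordG_mem (K := K) (q := q) (w := [(d4p1, t), (d4p3, t ^ q), (d4p4, t ^ (q ^ 2))])
    (Or.inr ⟨t, (d4p1, d4p3, d4p4), by simp, rfl⟩)
  rw [ht, h2] at h1
  simpa [wordG, X, d4p1, d4p3, d4p4, mul_assoc] using h1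

theorem Y_mem {q : ℕ} {t : K} (ht : t ^ q = t) : Y K t ∈ twistedD4 K q := by
  have h2 : t ^ (q ^ 2) = t := by rw [pow_two, pow_mul, ht, ht]
  have h1 := wordG_mem (K := K) (q := q) (w := [(d4m1, t), (d4m3, t ^ q), (d4m4, t ^ (q ^ 2))])
    (Or.inr ⟨t, (d4m1, d4m3, d4m4), by simp, rfl⟩)
  rw [ht, h2] at h1
  simpa [wordG, Y, d4m1, d4m3, d4m4, mul_assoc] using h1

theorem x14_mem {q : ℕ} {t : K} (ht : t ^ q = t) : xG inList 14 t ∈ twistedD4 K q := by
  have h1 := wordG_mem (K := K) (q := q) (w := [(d4p2, t)])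
    (Or.inl ⟨t, ht, d4p2, by simp, rfl⟩)
  simpa [wordG, d4p2] using h1

theorem x9_mem {q : ℕ} {t : K} (ht : t ^ q = t) : xG inList 9 t ∈ twistedD4 K q := by
  have h1 := wordG_mem (K := K) (q := q) (w := [(d4m2, t)])
    (Or.inl ⟨t, ht, d4m2, by simp, rfl⟩)
  simpa [wordG, d4m2] using h1

theorem d4 [Fintype K] {q : ℕ} (hK : Odd (Fintype.card K)) (hq : Odd q) :
    RealOdd (twistedD4 K q) := by
  have hD := inList
  obtain ⟨s0, s1, s2, s3⟩ := simple_vals
  obtain ⟨⟨a1, a2, a3, a4⟩, ⟨b1, b2, b3, b4⟩, ⟨c1, c2, c3, c4⟩, ⟨d1, d2, d3, d4⟩⟩ := cartan_vals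
  have r0 : 0 < chevD4.rank := by decide
  have r1 : 1 < chevD4.rank := by decide
  have r2 : 2 < chevD4.rank := by decide
  have r3 : 3 < chevD4.rank := by decide
  have hlt : ∀ i < chevD4.rank, i = 0 ∨ i = 1 ∨ i = 2 ∨ i = 3 := by
    intro i hi
    have : chevD4.rank = 4 := rfl
    omega
  have t1 : (1 : K) ^ q = 1 := one_pow q
  have t2 : (-1 : K) ^ q = -1 := hq.neg_one_pow
  have hn : (-1 : K) ≠ 0 := neg_ne_zero.2 one_ne_zero
  let a : GL chevD4.Idx K := X K 1
  let b : GL chevD4.Idx K := xG hD 14 1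
  let h : GL chevD4.Idx K := hG hD 14 (-1) *
    ((X K (-1) * Y K 1 * X K (-1)) * (X K (-1) * Y K 1 * X K (-1)))
  have ha : a ∈ twistedD4 K q := X_mem t1
  have hb : b ∈ twistedD4 K q := x14_mem t1
  have hh : h ∈ twistedD4 K q := by
    have hN := mul_mem (mul_mem (X_mem (K := K) t2) (Y_mem t1)) (X_mem (K := K) t2)
    refine mul_mem ?_ (mul_mem hN hN)
    have n9 : chevD4.neg 14 = 9 := by decide +kernel
    have e : (-(-1 : K)⁻¹) = 1 := by norm_num
    rw [hG_def, nG_def, n9, e]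
    have h1 := mul_mem (x14_mem (K := K) t2) (mul_mem (x9_mem (K := K) t1) (x14_mem (K := K) t2))
    exact mul_mem h1 h1
  have hχ := chi_mul hD (chi_hG hD r1 hn) (chi_mul hD (chi_mul hD (chi_hG hD r0 hn)
    (chi_hG hD r2 hn)) (chi_hG hD r3 hn))
  rw [s0, s1, s2, s3, ← hProd] at hχ
  have e18 : h * xG hD 18 1 * h⁻¹ = xG hD 18 (-1) := by
    rw [hχ.conj _ (by decide), a1, a2, a3, a4]
    norm_num
  have e13 : h * xG hD 13 1 * h⁻¹ = xG hD 13 (-1) := by
    rw [hχ.conj _ (by decide), b1, b2, b3, b4]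
    norm_num
  have e12 : h * xG hD 12 1 * h⁻¹ = xG hD 12 (-1) := by
    rw [hχ.conj _ (by decide), c1, c2, c3, c4]
    norm_num
  have e14 : h * xG hD 14 1 * h⁻¹ = xG hD 14 (-1) := by
    rw [hχ.conj _ (by decide), d1, d2, d3, d4]
    norm_num
  obtain ⟨n1, n2, n3, n4, n5, n6⟩ := neg_vals
  have hya : h * a * h⁻¹ = a⁻¹ := by
    have h1 : h * a * h⁻¹ = (h * xG hD 18 1 * h⁻¹) * (h * xG hD 13 1 * h⁻¹) *
        (h * xG hD 12 1 * h⁻¹) := by
      show h * (xG hD 18 1 * xG hD 13 1 * xG hD 12 1) * h⁻¹ = _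
      group
    rw [h1, e18, e13, e12]
    show _ = (xG hD 18 1 * xG hD 13 1 * xG hD 12 1)⁻¹
    rw [mul_inv_rev, mul_inv_rev, xG_inv, xG_inv, xG_inv]
    have k1 : Commute (xG hD 13 (-1 : K)) (xG hD 18 (-1)) :=
      commute_outer (by simp) (by simp) (by decide) (by rw [n1]; decide) _ _
    have k2 : Commute (xG hD 12 (-1 : K)) (xG hD 18 (-1)) :=
      commute_outer (by simp) (by simp) (by decide) (by rw [n1]; decide) _ _
    have k3 : Commute (xG hD 12 (-1 : K)) (xG hD 13 (-1)) :=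
      commute_outer (by simp) (by simp) (by decide) (by rw [n2]; decide) _ _
    rw [k1.eq, (k2.mul_right k3).eq]
  have hyb : h * b * h⁻¹ = b⁻¹ := by
    rw [e14, ← xG_inv]
  have hpos := fun {i : ℕ} (hi : i < chevD4.rank) =>
    simple_pos (checked hD) hi
  have hy : Reg hD (a * b) := by
    have haE : a = xG hD (chevD4.simple 0) 1 * xG hD (chevD4.simple 2) 1 *
        xG hD (chevD4.simple 3) 1 := by rw [s0, s2, s3]; rfl
    have hbE : b = xG hD (chevD4.simple 1) 1 := by rw [s1]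
    rw [haE, hbE]
    refine ⟨mul_mem (mul_mem (mul_mem (xG_mem_posUnipotent hD (hpos r0) _)
      (xG_mem_posUnipotent hD (hpos r2) _)) (xG_mem_posUnipotent hD (hpos r3) _))
      (xG_mem_posUnipotent hD (hpos r1) _), fun i hi => ⟨1, one_ne_zero, ?_⟩⟩
    rcases hlt i hi with rfl | rfl | rfl | rfl
    · have := comp_mul hD hi (comp_mul hD hi (comp_mul hD hi (comp_simple hD 0 (1 : K))
        (comp_simple_ne hD hi r2 (by decide) 1)) (comp_simple_ne hD hi r3 (by decide) 1))
        (comp_simple_ne hD hi r1 (by decide) 1)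
      simpa using this
    · have := comp_mul hD hi (comp_mul hD hi (comp_mul hD hi (comp_simple_ne hD hi r0 (by decide)
        (1 : K)) (comp_simple_ne hD hi r2 (by decide) 1)) (comp_simple_ne hD hi r3 (by decide) 1))
        (comp_simple hD 1 1)
      simpa using this
    · have := comp_mul hD hi (comp_mul hD hi (comp_mul hD hi (comp_simple_ne hD hi r0 (by decide)
        (1 : K)) (comp_simple hD 2 1)) (comp_simple_ne hD hi r3 (by decide) 1))
        (comp_simple_ne hD hi r1 (by decide) 1)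
      simpa using this
    · have := comp_mul hD hi (comp_mul hD hi (comp_mul hD hi (comp_simple_ne hD hi r0 (by decide)
        (1 : K)) (comp_simple_ne hD hi r2 (by decide) 1)) (comp_simple hD 3 1))
        (comp_simple_ne hD hi r1 (by decide) 1)
      simpa using this
  refine ⟨⟨a * b, mul_mem ha hb⟩, ?_, ?_, odd_centralizer hK hD (twisted_le q) _ hy⟩
  · intro h
    have h2 : a * b = 1 := congrArg Subtype.val h
    obtain ⟨t, ht, h3⟩ := hy.2 0 r0
    rw [h2] at h3
    exact ht (comp_unique hD r0 h3 (comp_one hD 0))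
  · exact isConj_inv (G := twistedD4 K q) (a := ⟨a, ha⟩) (b := ⟨b, hb⟩) (h := ⟨h, hh⟩)
      (Subtype.ext hya) (Subtype.ext hyb)

end Cfsg.Agent.H610.Table3D4
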