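import Cfsg.Agent.H610.Singer
import Cfsg.Agent.Lib.Zsigmondy
import Cfsg.Agent.S2430

/-!
# `SL(2, q^m)` in `Sp(2m, q)` and real elements of primitive prime order

* `SpField.emb b : SL(2, E) →* Sp(2m, F)` for a basis `b` of `E` over `F` (trace form);
* `SpField.exists_elt`: for `q` odd, `m ≥ 2` there are a prime `r ≠ 2` with `q` of order `2m` modulo `r`
  and `y ∈ Sp(2m, q)` with `y ^ r = 1`, `y ≠ 1` conjugate to `y⁻¹`.
-/

set_option autoImplicit false

namespace Cfsg.Agent.H610.SpField

open Polynomial Matrix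

section Real

variable {E : Type*} [Field E] [Fintype E]

/-- Elements of `SL(2, E)` with irreducible characteristic polynomial are real. -/
theorem sl_two_real (h2 : (2 : E) ≠ 0) (y : SpecialLinearGroup (Fin 2) E)
    (hy : ∀ x : E, x ^ 2 - (y.1 0 0 + y.1 1 1) * x + 1 ≠ 0) : IsConj y y⁻¹ := by
  have hdet : y.1 0 0 * y.1 1 1 - y.1 0 1 * y.1 1 0 = 1 := by
    rw [← Matrix.det_fin_two]; exact y.2
  set a := y.1 0 0 with ha
  set b := y.1 0 1 with hb
  set c := y.1 1 0 with hc
  set d := y.1 1 1 with hd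
  have hb0 : b ≠ 0 := by
    intro h
    apply hy a
    rw [h] at hdet
    linear_combination -hdet
  have h4 : (4 : E) ≠ 0 := by
    have : (4 : E) = 2 * 2 := by norm_num
    rw [this]
    exact mul_ne_zero h2 h2
  have hD : (a - d) ^ 2 + 4 * (b * c) ≠ 0 := by
    intro h
    apply hy ((a + d) / 2)
    field_simp
    linear_combination (-1) * h + 4 * (-1) * hdet
  set D : E := (a - d) ^ 2 / 4 + b * c with hDdef
  have hD0 : D ≠ 0 := by
    intro h
    apply hD
    rw [hDdef] at h
    field_simp at h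
    linear_combination h
  have hcard : Fintype.card E % 2 = 1 := by
    rcases Nat.mod_two_eq_zero_or_one (Fintype.card E) with h | h
    · exfalso
      apply h2
      have hchar := FiniteField.even_card_iff_char_two.2 h
      have : CharP E 2 := hchar ▸ ringChar.charP E
      exact_mod_cast CharP.cast_eq_zero E 2
    · exact h
  obtain ⟨U, v, hUv⟩ := FiniteField.exists_root_sum_quadratic (R := E) (f := X ^ 2)
    (g := C (-D) * X ^ 2 + C 0 * X + C (b ^ 2)) (by simp) (by
      rw [degree_quadratic]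
      exact neg_ne_zero.2 hD0) hcard
  simp only [eval_pow, eval_X, eval_add, eval_mul, eval_C, zero_mul, add_zero] at hUv
  set u : E := (U + (a - d) * v / 2) / b with hu
  have hubU : b * u = U + (a - d) * v / 2 := by rw [hu]; field_simp
  set w : E := -(u * (a - d) + v * c) / b with hw
  have hwb : b * w = -(u * (a - d) + v * c) := by rw [hw]; field_simp
  have hquad : b * u ^ 2 - (a - d) * u * v - c * v ^ 2 = -b := by
    apply mul_left_cancel₀ hb0
    have h1 : b * (b * u ^ 2 - (a - d) * u * v - c * v ^ 2) =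
        (b * u) ^ 2 - (a - d) * (b * u) * v - b * c * v ^ 2 := by ring
    rw [h1, hubU]
    have h5 : U ^ 2 + (-((a - d) ^ 2 / 4 + b * c) * v ^ 2 + b ^ 2) = 0 := by
      rw [← hDdef]; exact hUv
    field_simp
    field_simp at h5
    linear_combination h5
  have hgdet : (!![u, v; w, -u] : Matrix (Fin 2) (Fin 2) E).det = 1 := by
    rw [Matrix.det_fin_two_of]
    apply mul_left_cancel₀ hb0
    linear_combination (-v) * hwb - hquad
  let g : SpecialLinearGroup (Fin 2) E := ⟨!![u, v; w, -u], hgdet⟩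
  refine isConj_iff.2 ⟨g, ?_⟩
  rw [mul_inv_eq_iff_eq_mul]
  apply Subtype.ext
  show !![u, v; w, -u] * y.1 = (y⁻¹).1 * !![u, v; w, -u]
  rw [Matrix.SpecialLinearGroup.coe_inv, Matrix.adjugate_fin_two]
  rw [Matrix.eta_fin_two y.1]
  ext i j
  fin_cases i <;> fin_cases j <;>
    simp [Matrix.mul_apply, Fin.sum_univ_two, ← ha, ← hb, ← hc, ← hd]
  · linear_combination hwb
  · ring
  · ring
  · linear_combination hwb

/-- An element of `SL(2, E)` of prime order `r` with `|E|` of order `2` modulo `r`, and it is real. -/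
theorem exists_sl_two (h2 : (2 : E) ≠ 0) {r : ℕ} (hr : r.Prime)
    (hord : orderOf ((Fintype.card E : ℕ) : ZMod r) = 2) :
    ∃ y : SpecialLinearGroup (Fin 2) E, y ^ r = 1 ∧ y ≠ 1 ∧ IsConj y y⁻¹ := by
  classical
  have : Fact r.Prime := ⟨hr⟩
  have h1 : r ∣ Nat.card (SpecialLinearGroup (Fin 2) E) := by
    rw [Cfsg.Agent.S2430.card_SL]
    have h3 := (Cfsg.Agent.Lib.Zsigmondy.dvd_pow_sub_one_iff (a := Fintype.card E) (r := r)
      Fintype.card_pos 2).2 (by rw [hord])
    have h4 : Fintype.card E ^ 2 - 1 = (Fintype.card E - 1) * (Fintype.card E + 1) := by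
      have := Nat.sq_sub_sq (Fintype.card E) 1
      rw [one_pow] at this
      rw [this, mul_comm]
    rw [h4] at h3
    rw [mul_assoc]
    exact Dvd.dvd.mul_left h3 _
  obtain ⟨y, hy⟩ := exists_prime_orderOf_dvd_card' r h1
  have hyr : y ^ r = 1 := by rw [← hy, pow_orderOf_eq_one]
  have hy1 : y ≠ 1 := by
    rintro rfl
    rw [orderOf_one] at hy
    exact hr.one_lt.ne hy
  have hyM : (y.1) ^ r = 1 := by
    have := congrArg Subtype.val hyr
    simpa using this
  have hyM1 : y.1 ≠ 1 := fun h => hy1 (Subtype.ext h)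
  obtain ⟨h5, h6⟩ := Singer.irreducible_minpoly (F := E) (n := 2) le_rfl (Fintype.card_fin 2) hr
    hord hyM hyM1
  have h7 : minpoly E y.1 = y.1.charpoly := by
    refine (Polynomial.eq_of_monic_of_dvd_of_natDegree_le
      (minpoly.monic (Algebra.IsIntegral.isIntegral y.1)) (Matrix.charpoly_monic y.1)
      (Matrix.minpoly_dvd_charpoly y.1) ?_).symm
    rw [Matrix.charpoly_natDegree_eq_dim, h6, Fintype.card_fin]
  refine ⟨y, hyr, hy1, sl_two_real h2 y fun x hx => ?_⟩
  rw [h7] at h5 h6
  have h8 : y.1.charpoly.IsRoot x := by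
    rw [Matrix.charpoly_fin_two, Polynomial.IsRoot.def]
    simp only [eval_add, eval_sub, eval_pow, eval_X, eval_mul, eval_C]
    rw [y.2, Matrix.trace_fin_two]
    exact hx
  refine h5.not_isRoot_of_natDegree_ne_one ?_ h8
  rw [h6]
  norm_num

end Real

section Embed

variable {F E : Type*} [Field F] [Field E] [Algebra F E] {m : ℕ}
  (b : Module.Basis (Fin m) F E)

/-- The Gram matrix of the trace form. -/
noncomputable def T : Matrix (Fin m) (Fin m) F := Algebra.traceMatrix F b

/-- The matrix of the multiplication. -/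
noncomputable def L (a : E) : Matrix (Fin m) (Fin m) F := Algebra.leftMulMatrix b a

theorem T_transpose : (T b)ᵀ = T b := by
  ext i j
  simp only [T, Matrix.transpose_apply, Algebra.traceMatrix_apply, Algebra.traceForm_apply]
  rw [mul_comm]

theorem T_mul_L_apply (a : E) (i j : Fin m) :
    (T b * L b a) i j = Algebra.trace F E (b i * (a * b j)) := by
  simp only [T, L, Matrix.mul_apply, Algebra.traceMatrix_apply, Algebra.traceForm_apply,
    Algebra.leftMulMatrix_eq_repr_mul]
  conv_rhs => rw [← b.sum_repr (a * b j)]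
  rw [Finset.mul_sum, map_sum]
  refine Finset.sum_congr rfl fun k _ => ?_
  rw [mul_smul_comm, map_smul, smul_eq_mul, mul_comm]

theorem L_transpose_mul (a : E) : (L b a)ᵀ * T b = T b * L b a := by
  have h1 : (T b * L b a)ᵀ = T b * L b a := by
    ext i j
    rw [Matrix.transpose_apply, T_mul_L_apply, T_mul_L_apply]
    congr 1
    ring
  rw [Matrix.transpose_mul, T_transpose] at h1
  exact h1

theorem L_mul (a c : E) : L b (a * c) = L b a * L b c := map_mul _ _ _
theorem L_add (a c : E) : L b (a + c) = L b a + L b c := map_add _ _ _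
theorem L_sub (a c : E) : L b (a - c) = L b a - L b c := map_sub _ _ _
theorem L_one : L b 1 = 1 := map_one _
theorem L_zero : L b 0 = 0 := map_zero _
theorem L_injective : Function.Injective (L b) := Algebra.leftMulMatrix_injective b

variable [Finite F] [Finite E]

theorem T_isUnit : IsUnit (T b).det := by
  rw [isUnit_iff_ne_zero]
  have : FiniteDimensional F E := Module.Finite.of_finite
  have h := det_traceForm_ne_zero (K := F) (L := E) b
  have h1 : (Algebra.traceForm F E).toMatrix b = T b := by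
    rw [T, Algebra.traceMatrix_of_basis]
  rw [← h1]
  exact h

theorem T_mul_inv : T b * (T b)⁻¹ = 1 := Matrix.mul_nonsing_inv _ (T_isUnit b)

theorem T_inv_mul : (T b)⁻¹ * T b = 1 := Matrix.nonsing_inv_mul _ (T_isUnit b)

theorem T_inv_transpose : ((T b)⁻¹)ᵀ = (T b)⁻¹ := by
  rw [Matrix.transpose_nonsing_inv, T_transpose]

theorem L_transpose (a : E) : (L b a)ᵀ = T b * L b a * (T b)⁻¹ := by
  rw [← L_transpose_mul, Matrix.mul_assoc, T_mul_inv, Matrix.mul_one]

/-- The matrix over `F` of a `2 × 2` matrix over `E`. -/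
noncomputable def Ψ (A : Matrix (Fin 2) (Fin 2) E) : Matrix (Fin m ⊕ Fin m) (Fin m ⊕ Fin m) F :=
  Matrix.fromBlocks (L b (A 0 0)) (L b (A 0 1) * (T b)⁻¹) (T b * L b (A 1 0))
    (T b * L b (A 1 1) * (T b)⁻¹)

theorem Ψ_one : Ψ b 1 = 1 := by
  simp [Ψ, L_one, L_zero, T_mul_inv]

theorem Ψ_mul (A B : Matrix (Fin 2) (Fin 2) E) : Ψ b (A * B) = Ψ b A * Ψ b B := by
  have e1 : ∀ X : Matrix (Fin m) (Fin m) F, (T b)⁻¹ * (T b * X) = X := fun X => by
    rw [← Matrix.mul_assoc, T_inv_mul, Matrix.one_mul]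
  simp only [Ψ, Matrix.fromBlocks_multiply, Matrix.mul_apply, Fin.sum_univ_two, L_add, L_mul,
    Matrix.mul_add, Matrix.add_mul, Matrix.mul_assoc, e1]

theorem Ψ_injective : Function.Injective (Ψ b) := by
  intro A B h
  simp only [Ψ, Matrix.fromBlocks_inj] at h
  obtain ⟨h1, h2, h3, h4⟩ := h
  have c1 : ∀ X Y : Matrix (Fin m) (Fin m) F, X * (T b)⁻¹ = Y * (T b)⁻¹ → X = Y := by
    intro X Y h
    have := congrArg (· * T b) h
    simpa only [Matrix.mul_assoc, T_inv_mul, Matrix.mul_one] using this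
  have c2 : ∀ X Y : Matrix (Fin m) (Fin m) F, T b * X = T b * Y → X = Y := by
    intro X Y h
    have := congrArg ((T b)⁻¹ * ·) h
    simpa only [← Matrix.mul_assoc, T_inv_mul, Matrix.one_mul] using this
  ext i j
  fin_cases i <;> fin_cases j
  · exact L_injective b h1
  · exact L_injective b (c1 _ _ h2)
  · exact L_injective b (c2 _ _ h3)
  · exact L_injective b (c2 _ _ (c1 _ _ h4))

theorem Ψ_mem (A : Matrix (Fin 2) (Fin 2) E) (hA : A.det = 1) :
    Ψ b A ∈ symplecticGroup (Fin m) F := by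
  have e1 : ∀ X : Matrix (Fin m) (Fin m) F, (T b)⁻¹ * (T b * X) = X := fun X => by
    rw [← Matrix.mul_assoc, T_inv_mul, Matrix.one_mul]
  have hdet : A 0 0 * A 1 1 - A 0 1 * A 1 0 = 1 := by rw [← Matrix.det_fin_two]; exact hA
  have hL : L b (A 0 0) * L b (A 1 1) - L b (A 0 1) * L b (A 1 0) = 1 := by
    rw [← L_mul, ← L_mul, ← L_sub, hdet, L_one]
  have hL' : L b (A 1 1) * L b (A 0 0) - L b (A 1 0) * L b (A 0 1) = 1 := by
    rw [← L_mul, ← L_mul, ← L_sub, mul_comm (A 1 1), mul_comm (A 1 0), hdet, L_one]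
  have hcomm : ∀ x y : E, L b x * L b y = L b y * L b x := fun x y => by
    rw [← L_mul, ← L_mul, mul_comm]
  rw [SymplecticGroup.mem_iff, Ψ, Matrix.J, Matrix.fromBlocks_transpose, Matrix.fromBlocks_multiply,
    Matrix.fromBlocks_multiply]
  simp only [Matrix.transpose_mul, L_transpose, T_transpose, T_inv_transpose, Matrix.mul_zero,
    Matrix.mul_one, Matrix.mul_neg, Matrix.neg_mul, zero_add, add_zero, Matrix.mul_assoc, e1,
    T_inv_mul]
  rw [Matrix.fromBlocks_inj]
  refine ⟨?_, ?_, ?_, ?_⟩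
  · rw [← Matrix.mul_assoc (L b (A 0 1)), ← Matrix.mul_assoc (L b (A 0 0)), hcomm (A 0 1),
      add_neg_cancel]
  · rw [← hL]
    abel
  · have h1 : T b * (L b (A 1 1) * (L b (A 0 0) * (T b)⁻¹)) +
        -(T b * (L b (A 1 0) * (L b (A 0 1) * (T b)⁻¹))) =
        T b * (L b (A 1 1) * L b (A 0 0) - L b (A 1 0) * L b (A 0 1)) * (T b)⁻¹ := by
      simp only [Matrix.mul_sub, Matrix.sub_mul, Matrix.mul_assoc]
      rw [sub_eq_add_neg]
    rw [h1, hL', Matrix.mul_one, T_mul_inv]
  · rw [hcomm (A 1 1), add_neg_cancel]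

/-- The embedding of `SL(2, E)`. -/
noncomputable def emb : SpecialLinearGroup (Fin 2) E →* symplecticGroup (Fin m) F where
  toFun A := ⟨Ψ b A.1, Ψ_mem b A.1 A.2⟩
  map_one' := Subtype.ext (Ψ_one b)
  map_mul' A B := Subtype.ext (Ψ_mul b A.1 B.1)

theorem emb_injective : Function.Injective (emb b) := by
  intro A B h
  exact Subtype.ext (Ψ_injective b (congrArg Subtype.val h))

end Embed

/-- **Real elements of primitive prime order in `Sp(2m, q)`.** -/
theorem exists_elt (F : Type*) [Field F] [Fintype F] (h2 : (2 : F) ≠ 0) {m : ℕ} (hm : 2 ≤ m) :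
    ∃ r : ℕ, r.Prime ∧ r ≠ 2 ∧ orderOf ((Fintype.card F : ℕ) : ZMod r) = 2 * m ∧
      ∃ y : symplecticGroup (Fin m) F, y ^ r = 1 ∧ y ≠ 1 ∧ IsConj y y⁻¹ := by
  classical
  obtain ⟨p, hp⟩ := CharP.exists F
  have hpp : Fact p.Prime := ⟨(CharP.char_is_prime_or_zero F p).resolve_right fun h => by
    subst h
    have := CharP.charP_to_charZero F
    exact not_finite F⟩
  have hm0 : NeZero m := ⟨by omega⟩
  have hcardF : 2 ≤ Fintype.card F := Fintype.one_lt_card
  obtain ⟨r, hr, hord⟩ := Cfsg.Agent.Lib.Zsigmondy.exists_prime_orderOf (a := Fintype.card F)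
    (n := 2 * m) hcardF (by omega) (by omega) (by
      rintro ⟨h, -⟩
      apply h2
      have hchar := FiniteField.even_card_iff_char_two.2 (by rw [h])
      have : CharP F 2 := hchar ▸ ringChar.charP F
      exact_mod_cast CharP.cast_eq_zero F 2)
  have hr2 : r ≠ 2 := by
    rintro rfl
    have h1 : orderOf ((Fintype.card F : ℕ) : ZMod 2) ∣ 1 := by
      have h3 : ¬ 2 ∣ Fintype.card F := by
        intro h
        apply h2
        have hchar := FiniteField.even_card_iff_char_two.2 (Nat.mod_eq_zero_of_dvd h)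
        have : CharP F 2 := hchar ▸ ringChar.charP F
        exact_mod_cast CharP.cast_eq_zero F 2
      exact Cfsg.Agent.Lib.Zsigmondy.orderOf_dvd_pred Nat.prime_two h3
    rw [hord] at h1
    have := Nat.le_of_dvd one_pos h1
    omega
  let E := FiniteField.Extension F p m
  have : Fintype E := Fintype.ofFinite E
  have hE : Fintype.card E = Fintype.card F ^ m := by
    rw [← Nat.card_eq_fintype_card, ← Nat.card_eq_fintype_card]
    exact FiniteField.natCard_extension F p m
  have hE2 : (2 : E) ≠ 0 := by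
    have h3 : algebraMap F E 2 ≠ 0 := by
      rw [Ne, FaithfulSMul.algebraMap_eq_zero_iff]
      exact h2
    rwa [map_ofNat] at h3
  have hordE : orderOf ((Fintype.card E : ℕ) : ZMod r) = 2 := by
    rw [hE, Nat.cast_pow, orderOf_pow' _ (by omega), hord,
      Nat.gcd_eq_right (Dvd.intro_left 2 rfl), Nat.mul_div_cancel _ (by omega)]
  obtain ⟨y, hy, hy1, hyr⟩ := exists_sl_two hE2 hr hordE
  have hfin : Module.finrank F E = m := FiniteField.finrank_extension F p m
  let b : Module.Basis (Fin m) F E := Module.finBasisOfFinrankEq F E hfin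
  refine ⟨r, hr, hr2, hord, emb b y, ?_, ?_, ?_⟩
  · rw [← map_pow, hy, map_one]
  · intro h
    exact hy1 (emb_injective b (h.trans (map_one _).symm))
  · rw [← map_inv]
    obtain ⟨g, hg⟩ := isConj_iff.1 hyr
    exact isConj_iff.2 ⟨emb b g, by rw [← map_mul, ← map_inv, ← map_mul, hg]⟩

end Cfsg.Agent.H610.SpField
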