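import Cfsg.Agent.H610.RealOdd
import Cfsg.Agent.H611.JRReal
import Cfsg.Agent.CpAutRee.Ree
import Cfsg.Agent.S0343

/-!
# The small Ree groups have real elements with centralizer of odd order
-/

set_option autoImplicit false

namespace Cfsg.Agent.H610.TableRee

open Subgroup Cfsg Cfsg.Agent.Walter Cfsg.Agent.Walter.Types Cfsg.Agent.Walter.Main
open Cfsg.Agent.CpAutRee.Ree (exists_conj cent_conj pow_mod_eight)

universe u

theorem centThm : CentThm.{u} := fun _ _ _ _ hab _ _ _ hq t ht hC =>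
  Cfsg.Agent.S0343.result hab hq t ht hC

theorem jr {G : Type u} [Group G] [Finite G] [IsSimpleGroup G] (hna : ¬ IsMulCommutative G)
    (h : IsJR G) : RealOdd G := by
  obtain ⟨y, h1, h2, h3⟩ := Cfsg.Agent.H611.JRReal.exists_real centThm hna h
  exact ⟨y, h1, h2, h3⟩

theorem isJR {K : Type} [Field K] [Fintype K] {m : ℕ} (hm : 1 ≤ m)
    (hK : Fintype.card K = 3 ^ (2 * m + 1)) :
    IsSimpleGroup ↥(Cfsg.Lie.twistedG2 K (3 ^ m)) ∧
      ¬ IsMulCommutative ↥(Cfsg.Lie.twistedG2 K (3 ^ m)) ∧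
      IsJR ↥(Cfsg.Lie.twistedG2 K (3 ^ m)) := by
  classical
  have h2 : Fact (Nat.Prime 2) := ⟨Nat.prime_two⟩
  obtain ⟨hsimp, hc⟩ := Cfsg.Agent.S1073.result hm hK
  have hna : ∃ a b : ↥(Cfsg.Lie.twistedG2 K (3 ^ m)), a * b ≠ b * a := by
    by_contra hcon
    push Not at hcon
    exact hc ⟨⟨hcon⟩⟩
  obtain ⟨a, haH, ha1, ha2⟩ := Cfsg.Agent.S1157.exists_involution hK
  obtain ⟨⟨e⟩, hS⟩ := Cfsg.Agent.S1152.result hK a haH ha1 ha2
  have hao : orderOf a = 2 := orderOf_eq_prime (by rw [sq, ha2]) ha1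
  have hq8 := pow_mod_eight m
  have hq27 : 27 ≤ 3 ^ (2 * m + 1) := by
    calc 27 = 3 ^ 3 := by norm_num
      _ ≤ 3 ^ (2 * m + 1) := Nat.pow_le_pow_right (by norm_num) (by omega)
  refine ⟨hsimp, hc, ⟨default, hS default⟩, K, inferInstance, inferInstance,
    Or.inl (by rw [hK, hq8]), by rw [hK]; omega, ?_⟩
  intro t ht
  obtain ⟨g, rfl⟩ := exists_conj hna hS hao ht
  obtain ⟨f⟩ := cent_conj a g
  exact ⟨f.symm.trans e⟩

/-- **The small Ree groups.** -/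
theorem ree {G : Type*} [Group G] (h : Lie.IsoRee G) : RealOdd G := by
  obtain ⟨K, i1, i2, m, hm, hK, ⟨e⟩⟩ := h
  obtain ⟨h1, h2, h3⟩ := isJR hm hK
  exact (jr h2 h3).of_equiv e.symm

end Cfsg.Agent.H610.TableRee
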