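import Cfsg.Agent.H610.SpField
import Cfsg.Agent.H610.TableL3
import Cfsg.Agent.LieClassical.SympCenter

/-!
# `PSp(2m, q)`, `PSL(n, q)`, `PSU(n, q)`, `q` odd, have a real element with commutative centralizer

`m ≥ 2`, `n ≥ 4`. The elements come from `Sp(2m, q)`, see `SpField.exists_elt`.
-/

set_option autoImplicit false

namespace Cfsg.Agent.H610.TableCl

open Matrix Cfsg Cfsg.Agent.H610.Singer Cfsg.Agent.H610.SpField

theorem eq_one_of_pow {F : Type*} [Field F] [Fintype F] {r : ℕ} (hr : r.Prime)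
    (h : ¬ r ∣ Fintype.card F - 1) {c : F} (hc : c ^ r = 1) : c = 1 := by
  have hc0 : c ≠ 0 := by
    rintro rfl
    rw [zero_pow hr.ne_zero] at hc
    exact zero_ne_one hc
  have h1 := FiniteField.pow_card_sub_one_eq_one c hc0
  have h2 : orderOf c ∣ 1 := by
    rw [← Nat.Coprime.gcd_eq_one ((Nat.Prime.coprime_iff_not_dvd hr).2 h)]
    exact Nat.dvd_gcd (orderOf_dvd_of_pow_eq_one hc) (orderOf_dvd_of_pow_eq_one h1)
  exact orderOf_eq_one_iff.1 (Nat.dvd_one.1 h2)

theorem not_dvd_sub_one {q r : ℕ} (hq : 1 ≤ q) {n d : ℕ} (hn : orderOf ((q : ℕ) : ZMod r) = n)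
    (hd : ¬ n ∣ d) : ¬ r ∣ q ^ d - 1 := by
  rw [Cfsg.Agent.Lib.Zsigmondy.dvd_pow_sub_one_iff hq, hn]
  exact hd

/-- The data of the element. -/
structure Good (F : Type*) [Field F] [Fintype F] (m r : ℕ) (y : symplecticGroup (Fin m) F) :
    Prop where
  prime : r.Prime
  ne_two : r ≠ 2
  ord : orderOf ((Fintype.card F : ℕ) : ZMod r) = 2 * m
  pow : y ^ r = 1
  ne : y ≠ 1
  real : IsConj y y⁻¹
  cyc : ∃ v, Cyc y.1 v
  unit : IsUnit (y.1 - 1)

theorem exists_good (F : Type*) [Field F] [Fintype F] (h2 : (2 : F) ≠ 0) {m : ℕ} (hm : 2 ≤ m) :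
    ∃ (r : ℕ) (y : symplecticGroup (Fin m) F), Good F m r y := by
  classical
  obtain ⟨r, hr, hr2, hord, y, hy, hy1, hreal⟩ := exists_elt F h2 hm
  have hyM : (y.1) ^ r = 1 := congrArg Subtype.val hy
  have hyM1 : y.1 ≠ 1 := fun h => hy1 (Subtype.ext h)
  have hcard : Fintype.card (Fin m ⊕ Fin m) = 2 * m := by
    rw [Fintype.card_sum, Fintype.card_fin, two_mul]
  obtain ⟨h5, h6⟩ := irreducible_minpoly (n := 2 * m) (by omega) hcard hr hord hyM hyM1
  have hv : (Pi.single (Sum.inl ⟨0, by omega⟩) 1 : Fin m ⊕ Fin m → F) ≠ 0 := by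
    intro h
    have := congrFun h (Sum.inl ⟨0, by omega⟩)
    simp at this
  exact ⟨r, y, hr, hr2, hord, hy, hy1, hreal, ⟨_, cyc_of_irreducible hcard h5 h6 hv⟩,
    isUnit_sub_one (by omega) h5 h6⟩

/-- Mapping real elements. -/
theorem isConj_map_inv {G H : Type*} [Group G] [Group H] (f : G →* H) {y : G} (h : IsConj y y⁻¹) :
    IsConj (f y) (f y)⁻¹ := by
  obtain ⟨g, hg⟩ := isConj_iff.1 h
  exact isConj_iff.2 ⟨f g, by rw [← map_mul, ← map_inv, ← map_mul, hg, map_inv]⟩

/-! ### Symplectic groups -/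

theorem psp {F : Type*} [Field F] [Fintype F] (h2 : (2 : F) ≠ 0) {m : ℕ} (hm : 2 ≤ m) :
    RealClosed (PSp m F) := by
  classical
  obtain ⟨r, y, h⟩ := exists_good F h2 hm
  obtain ⟨v, hv⟩ := h.cyc
  refine realClosed_of_comm (Submonoid.subtype (symplecticGroup (Fin m) F)) Subtype.val_injective
    (fun z hz => (LieClassical.SympCenter.mem_center_iff m z).1 hz) h.prime h.ne_two ?_ y h.pow h.ne
    ?_ h.real
  · rintro c hc -
    refine eq_one_of_pow h.prime ?_ hc
    have := not_dvd_sub_one (d := 1) Fintype.card_pos h.ord (by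
      intro h
      have := Nat.le_of_dvd one_pos h
      omega)
    rwa [pow_one] at this
  · intro a b ha hb
    exact Subtype.ext (hv.cm a.1 b.1 (congrArg Subtype.val ha.eq) (congrArg Subtype.val hb.eq))

/-! ### Linear groups -/

section Linear

variable {F : Type*} [Field F] [Fintype F]

/-- `Sp(2m, F) → SL(2m, F)`. -/
def spSL (m : ℕ) : symplecticGroup (Fin m) F →* SpecialLinearGroup (Fin m ⊕ Fin m) F where
  toFun A := ⟨A.1, SymplecticGroup.det_eq_one A.2⟩
  map_one' := rfl
  map_mul' _ _ := rfl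

/-- `Sp(2m, F) → SL(2m + 1, F)`. -/
def spSL' (m : ℕ) : symplecticGroup (Fin m) F →* SpecialLinearGroup ((Fin m ⊕ Fin m) ⊕ Unit) F where
  toFun A := ⟨Matrix.fromBlocks A.1 0 0 1, by
    rw [Matrix.det_fromBlocks_zero₂₁, Matrix.det_one, mul_one, SymplecticGroup.det_eq_one A.2]⟩
  map_one' := Subtype.ext (by
    show Matrix.fromBlocks (1 : Matrix (Fin m ⊕ Fin m) (Fin m ⊕ Fin m) F) 0 0 1 = 1
    rw [Matrix.fromBlocks_one])
  map_mul' A B := Subtype.ext (by
    show Matrix.fromBlocks (A.1 * B.1) 0 0 1 =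
      Matrix.fromBlocks A.1 0 0 1 * Matrix.fromBlocks B.1 0 0 (1 : Matrix Unit Unit F)
    rw [Matrix.fromBlocks_multiply]
    simp)

theorem psl_of {ι : Type*} [Fintype ι] [DecidableEq ι] {m r : ℕ} (hm : 2 ≤ m)
    {y : symplecticGroup (Fin m) F} (h : Good F m r y)
    (f : symplecticGroup (Fin m) F →* SpecialLinearGroup ι F) (hf : Function.Injective f)
    (hcm : Cm (f y).1) : RealClosed (Matrix.ProjectiveSpecialLinearGroup ι F) := by
  classical
  refine realClosed_of_comm (G := SpecialLinearGroup ι F)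
    ⟨⟨fun A => A.1, rfl⟩, fun _ _ => rfl⟩ Subtype.val_injective ?_ h.prime h.ne_two ?_ (f y) ?_ ?_
    ?_ (isConj_map_inv f h.real)
  · intro z hz
    obtain ⟨c, -, hc⟩ := Matrix.SpecialLinearGroup.mem_center_iff.1 hz
    refine ⟨c, ?_⟩
    show z.1 = c • 1
    rw [← hc, Matrix.scalar_apply, Matrix.smul_one_eq_diagonal]
  · rintro c hc -
    refine eq_one_of_pow h.prime ?_ hc
    have := not_dvd_sub_one (d := 1) Fintype.card_pos h.ord (by
      intro h
      have := Nat.le_of_dvd one_pos h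
      omega)
    rwa [pow_one] at this
  · rw [← map_pow, h.pow, map_one]
  · intro h1
    exact h.ne (hf (h1.trans (map_one f).symm))
  · intro a b ha hb
    exact Subtype.ext (hcm a.1 b.1 (congrArg Subtype.val ha.eq) (congrArg Subtype.val hb.eq))

/-- Reindexing. -/
def slReindex {ι κ : Type*} [Fintype ι] [DecidableEq ι] [Fintype κ] [DecidableEq κ] (e : ι ≃ κ) :
    SpecialLinearGroup ι F →* SpecialLinearGroup κ F where
  toFun A := ⟨Matrix.reindexAlgEquiv F F e A.1, by rw [Matrix.det_reindexAlgEquiv]; exact A.2⟩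
  map_one' := Subtype.ext (map_one _)
  map_mul' A B := Subtype.ext (map_mul (Matrix.reindexAlgEquiv F F e) A.1 B.1)

theorem psl (h2 : (2 : F) ≠ 0) {n : ℕ} (hn : 4 ≤ n) :
    RealClosed (Matrix.ProjectiveSpecialLinearGroup (Fin n) F) := by
  classical
  obtain ⟨m, hm, hnm⟩ : ∃ m, 2 ≤ m ∧ (n = 2 * m ∨ n = 2 * m + 1) := ⟨n / 2, by omega, by omega⟩
  obtain ⟨r, y, h⟩ := exists_good F h2 hm
  obtain ⟨v, hv⟩ := h.cyc
  rcases hnm with hnm | hnm
  · let e : Fin m ⊕ Fin m ≃ Fin n := Fintype.equivFinOfCardEq (by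
      rw [Fintype.card_sum, Fintype.card_fin]
      omega)
    refine psl_of hm h ((slReindex e).comp (spSL m)) ?_ ?_
    · intro A B hAB
      exact Subtype.ext ((Matrix.reindexAlgEquiv F F e).injective (congrArg Subtype.val hAB))
    · exact Cm.of_equiv (Matrix.reindexAlgEquiv F F e).toMulEquiv hv.cm
  · let e : (Fin m ⊕ Fin m) ⊕ Unit ≃ Fin n := Fintype.equivFinOfCardEq (by
      rw [Fintype.card_sum, Fintype.card_sum, Fintype.card_fin, Fintype.card_unit]
      omega)
    refine psl_of hm h ((slReindex e).comp (spSL' m)) ?_ ?_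
    · intro A B hAB
      have h3 := (Matrix.reindexAlgEquiv F F e).injective (congrArg Subtype.val hAB)
      have h4 : Matrix.fromBlocks A.1 0 0 (1 : Matrix Unit Unit F) = Matrix.fromBlocks B.1 0 0 1 := h3
      rw [Matrix.fromBlocks_inj] at h4
      exact Subtype.ext h4.1
    · exact Cm.of_equiv (Matrix.reindexAlgEquiv F F e).toMulEquiv (Cm.fromBlocks hv.cm h.unit)

end Linear

/-! ### Unitary groups -/

section Unitary

/-- The subfield with `q` elements. -/
theorem exists_subfield {F : Type*} [Field F] [Fintype F] {q : ℕ} (hF : Fintype.card F = q ^ 2) :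
    ∃ (K : Type) (_ : Field K) (_ : Fintype K), Fintype.card K = q ∧ Nonempty (K →+* F) := by
  classical
  obtain ⟨p, hp⟩ := CharP.exists F
  obtain ⟨k, hpp, hk⟩ := FiniteField.card F p
  have : Fact p.Prime := ⟨hpp⟩
  have hdvd : q ∣ p ^ (k : ℕ) := by
    rw [← hk, hF]
    exact dvd_pow_self q two_ne_zero
  obtain ⟨j, -, rfl⟩ := (Nat.dvd_prime_pow hpp).1 hdvd
  have hkj : (k : ℕ) = j * 2 := by
    rw [hk, ← pow_mul] at hF
    exact Nat.pow_right_injective hpp.two_le hF
  have hj : j ≠ 0 := by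
    rintro rfl
    have := k.pos
    omega
  have : NeZero j := ⟨hj⟩
  let : Algebra (ZMod p) F := ZMod.algebra F p
  have hfr : Module.finrank (ZMod p) F = k := by
    have h1 := Module.card_eq_pow_finrank (K := ZMod p) (V := F)
    rw [ZMod.card, hk] at h1
    exact (Nat.pow_right_injective hpp.two_le h1).symm
  have : Fintype (GaloisField p j) := Fintype.ofFinite _
  refine ⟨GaloisField p j, inferInstance, inferInstance, ?_, ?_⟩
  · rw [← Nat.card_eq_fintype_card, GaloisField.card p j hj]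
  · obtain ⟨f⟩ := FiniteField.nonempty_algHom_of_finrank_dvd (F := ZMod p) (K := GaloisField p j)
      (L := F) (by rw [GaloisField.finrank p hj, hfr, hkj]; exact dvd_mul_right _ _)
    exact ⟨f.toRingHom⟩

variable {F : Type*} [Field F] {K : Type*} [Field K]

/-- Unitary matrices. -/
def Un {ι : Type*} [Fintype ι] [DecidableEq ι] (σ : F →+* F) (A : Matrix ι ι F) : Prop :=
  A * (A.map σ)ᵀ = 1

theorem Un.reindex {ι κ : Type*} [Fintype ι] [DecidableEq ι] [Fintype κ] [DecidableEq κ]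
    {σ : F →+* F} (e : ι ≃ κ) {A : Matrix ι ι F} (h : Un σ A) :
    Un σ (Matrix.reindexAlgEquiv F F e A) := by
  have h1 : ((Matrix.reindexAlgEquiv F F e A).map σ)ᵀ =
      Matrix.reindexAlgEquiv F F e (A.map σ)ᵀ := by
    ext i j
    rfl
  unfold Un
  rw [h1, ← map_mul, h, map_one]

theorem Un.fromBlocks {ι : Type*} [Fintype ι] [DecidableEq ι] {σ : F →+* F} {A : Matrix ι ι F}
    (h : Un σ A) : Un σ (Matrix.fromBlocks A 0 0 (1 : Matrix Unit Unit F)) := by
  unfold Un at *
  rw [Matrix.fromBlocks_map, Matrix.fromBlocks_transpose, Matrix.fromBlocks_multiply, h]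
  simp

/-- Unitary matrices of determinant one belong to `SU`. -/
theorem mem_SU {n q : ℕ} (σ : F →+* F) (hσ : ∀ x, σ x = x ^ q) (A : SpecialLinearGroup (Fin n) F)
    (h : Un σ A.1) : A ∈ SU n F q := by
  refine (LieClassical.SUBasic.mem_SU_iff A).2 fun u v => ?_
  have h0 : ∀ u v : Fin n → F, hermForm n F q u v = u ⬝ᵥ (σ ∘ v) := by
    intro u v
    rw [LieClassical.SUBasic.hermForm_apply]
    simp only [dotProduct, Function.comp, hσ]
  have h1 : A.1ᵀ * A.1.map σ = 1 := by
    have h2 : (A.1.map σ)ᵀ * A.1 = 1 := by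
      exact mul_eq_one_comm.1 h
    have h3 := congrArg Matrix.transpose h2
    rwa [Matrix.transpose_mul, Matrix.transpose_transpose, Matrix.transpose_one] at h3
  have h2 : σ ∘ (A.1 *ᵥ v) = A.1.map σ *ᵥ (σ ∘ v) := by
    ext i
    simp [Matrix.mulVec, dotProduct]
  rw [h0, h0]
  show (A.1 *ᵥ u) ⬝ᵥ (σ ∘ (A.1 *ᵥ v)) = _
  rw [h2, ← Matrix.vecMul_transpose, ← Matrix.dotProduct_mulVec, Matrix.mulVec_mulVec, h1,
    Matrix.one_mulVec]

/-- The data of the hermitian form `δ J`. -/
structure Hd (σ : F →+* F) (δ l c : F) : Prop where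
  inv : ∀ x, σ (σ x) = x
  half : 2 * c = 1
  ne : δ ≠ 0
  anti : σ δ = -δ
  norm : l * σ l = -1

variable {m : ℕ}

theorem Hd.l_ne {σ : F →+* F} {δ l c : F} (h : Hd σ δ l c) : l ≠ 0 := by
  rintro rfl
  have := h.norm
  rw [zero_mul] at this
  exact one_ne_zero (neg_eq_zero.1 this.symm)

theorem Hd.sl {σ : F →+* F} {δ l c : F} (h : Hd σ δ l c) : σ l = -l⁻¹ := by
  have hl := h.l_ne
  have := h.norm
  field_simp
  linear_combination this

theorem Hd.sc {σ : F →+* F} {δ l c : F} (h : Hd σ δ l c) : σ c = c := by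
  have hc := h.half
  have h1 : 2 * σ c = 1 := by
    have := congrArg σ hc
    rwa [map_mul, map_one, map_ofNat] at this
  linear_combination (-σ c) * hc + c * h1

/-- Scalar block matrices. -/
def bl (m : ℕ) (a b c d : F) : Matrix (Fin m ⊕ Fin m) (Fin m ⊕ Fin m) F :=
  Matrix.fromBlocks (a • 1) (b • 1) (c • 1) (d • 1)

theorem bl_mul (a b c d a' b' c' d' : F) : bl m a b c d * bl m a' b' c' d' =
    bl m (a * a' + b * c') (a * b' + b * d') (c * a' + d * c') (c * b' + d * d') := by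
  simp only [bl, Matrix.fromBlocks_multiply, smul_mul_assoc, mul_smul_comm, Matrix.mul_one,
    smul_smul, ← add_smul]
  congr 3 <;> ring

theorem bl_map (σ : F →+* F) (a b c d : F) :
    ((bl m a b c d).map σ)ᵀ = bl m (σ a) (σ c) (σ b) (σ d) := by
  have h : ∀ a : F, (((a • (1 : Matrix (Fin m) (Fin m) F)).map σ)ᵀ) = σ a • 1 := by
    intro a
    ext i j
    by_cases hij : i = j
    · subst hij; simp
    · simp [hij, Ne.symm hij]
  rw [bl, Matrix.fromBlocks_map, Matrix.fromBlocks_transpose, h, h, h, h]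
  rfl

theorem bl_one : bl m (1 : F) 0 0 1 = 1 := by simp [bl]

theorem smul_J (δ : F) : δ • Matrix.J (Fin m) F = bl m 0 (-δ) δ 0 := by
  rw [Matrix.J, bl, Matrix.fromBlocks_smul]
  simp

/-- The base change matrix. -/
def PM (m : ℕ) (δ l c : F) : Matrix (Fin m ⊕ Fin m) (Fin m ⊕ Fin m) F :=
  bl m (-(c * δ⁻¹)) 1 (l * (c * δ⁻¹)) l

/-- Its inverse. -/
def RM (m : ℕ) (δ l c : F) : Matrix (Fin m ⊕ Fin m) (Fin m ⊕ Fin m) F :=
  bl m (-δ) (l⁻¹ * δ) c (c * l⁻¹)

theorem PM_mul_RM {σ : F →+* F} {δ l c : F} (h : Hd σ δ l c) : PM m δ l c * RM m δ l c = 1 := by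
  have hl := h.l_ne
  have hδ := h.ne
  have hc := h.half
  rw [PM, RM, bl_mul, ← bl_one]
  congr 1
  · field_simp; linear_combination hc
  · field_simp; ring
  · field_simp; ring
  · field_simp; linear_combination hc

theorem RM_mul_PM {σ : F →+* F} {δ l c : F} (h : Hd σ δ l c) : RM m δ l c * PM m δ l c = 1 :=
  mul_eq_one_comm.1 (PM_mul_RM h)

theorem RM_mul {σ : F →+* F} {δ l c : F} (h : Hd σ δ l c) :
    RM m δ l c * ((RM m δ l c).map σ)ᵀ = δ • Matrix.J (Fin m) F := by
  have hl := h.l_ne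
  have hδ := h.ne
  have hc := h.half
  rw [RM, bl_map, bl_mul, smul_J]
  simp only [map_neg, map_mul, map_inv₀, h.sl, h.sc, h.anti]
  congr 1
  · field_simp; ring
  · field_simp; linear_combination -hc
  · field_simp; linear_combination hc
  · field_simp; ring

theorem PM_mul {σ : F →+* F} {δ l c : F} (h : Hd σ δ l c) :
    PM m δ l c * (δ • Matrix.J (Fin m) F) * ((PM m δ l c).map σ)ᵀ = 1 := by
  have hl := h.l_ne
  have hδ := h.ne
  have hc := h.half
  rw [PM, bl_map, smul_J, bl_mul, bl_mul, ← bl_one]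
  simp only [map_neg, map_mul, map_inv₀, h.sl, h.sc, h.anti, map_one]
  congr 1
  · field_simp; linear_combination δ ^ 2 * hc
  · field_simp; ring
  · field_simp; ring
  · field_simp; linear_combination δ ^ 2 * hc

/-- The conjugate of a symplectic matrix over the subfield is unitary. -/
theorem un_conj {σ : F →+* F} {δ l c : F} (h : Hd σ δ l c)
    {A : Matrix (Fin m ⊕ Fin m) (Fin m ⊕ Fin m) F} (hA : A ∈ symplecticGroup (Fin m) F)
    (hσ : A.map σ = A) : Un σ (PM m δ l c * A * RM m δ l c) := by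
  have h1 : ((PM m δ l c * A * RM m δ l c).map σ)ᵀ =
      ((RM m δ l c).map σ)ᵀ * (Aᵀ * ((PM m δ l c).map σ)ᵀ) := by
    have h2 : (PM m δ l c * A * RM m δ l c).map σ =
        (PM m δ l c).map σ * A.map σ * (RM m δ l c).map σ := by
      show σ.mapMatrix _ = σ.mapMatrix _ * σ.mapMatrix _ * σ.mapMatrix _
      rw [map_mul, map_mul]
    rw [h2, hσ, Matrix.transpose_mul, Matrix.transpose_mul]
  unfold Un
  rw [h1]
  calc PM m δ l c * A * RM m δ l c * (((RM m δ l c).map σ)ᵀ * (Aᵀ * ((PM m δ l c).map σ)ᵀ))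
      = PM m δ l c * (A * (RM m δ l c * ((RM m δ l c).map σ)ᵀ) * Aᵀ) *
        ((PM m δ l c).map σ)ᵀ := by simp only [Matrix.mul_assoc]
    _ = PM m δ l c * (δ • (A * Matrix.J (Fin m) F * Aᵀ)) * ((PM m δ l c).map σ)ᵀ := by
        rw [RM_mul h, mul_smul_comm, smul_mul_assoc]
    _ = 1 := by
        rw [SymplecticGroup.mem_iff.1 hA, PM_mul h]

/-- Conjugation as a multiplicative isomorphism. -/
def conjEquiv {σ : F →+* F} {δ l c : F} (h : Hd σ δ l c) :
    Matrix (Fin m ⊕ Fin m) (Fin m ⊕ Fin m) F ≃* Matrix (Fin m ⊕ Fin m) (Fin m ⊕ Fin m) F where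
  toFun A := PM m δ l c * A * RM m δ l c
  invFun A := RM m δ l c * A * PM m δ l c
  left_inv A := by
    have h1 := RM_mul_PM (m := m) h
    calc RM m δ l c * (PM m δ l c * A * RM m δ l c) * PM m δ l c =
        (RM m δ l c * PM m δ l c) * A * (RM m δ l c * PM m δ l c) := by
          simp only [Matrix.mul_assoc]
      _ = A := by rw [h1, Matrix.one_mul, Matrix.mul_one]
  right_inv A := by
    have h1 := PM_mul_RM (m := m) h
    calc PM m δ l c * (RM m δ l c * A * PM m δ l c) * RM m δ l c =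
        (PM m δ l c * RM m δ l c) * A * (PM m δ l c * RM m δ l c) := by
          simp only [Matrix.mul_assoc]
      _ = A := by rw [h1, Matrix.one_mul, Matrix.mul_one]
  map_mul' A B := by
    have h1 := RM_mul_PM (m := m) h
    calc PM m δ l c * (A * B) * RM m δ l c =
        PM m δ l c * A * 1 * B * RM m δ l c := by
          simp only [Matrix.mul_assoc, Matrix.mul_one]
      _ = _ := by rw [← h1]; simp only [Matrix.mul_assoc]

theorem conj_det {σ : F →+* F} {δ l c : F} (h : Hd σ δ l c)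
    (A : Matrix (Fin m ⊕ Fin m) (Fin m ⊕ Fin m) F) :
    (PM m δ l c * A * RM m δ l c).det = A.det := by
  have h1 := congrArg Matrix.det (PM_mul_RM (m := m) h)
  rw [Matrix.det_mul, Matrix.det_one] at h1
  rw [Matrix.det_mul, Matrix.det_mul, mul_right_comm, h1, one_mul]

theorem mem_symplectic_map (f : K →+* F) {A : Matrix (Fin m ⊕ Fin m) (Fin m ⊕ Fin m) K}
    (hA : A ∈ symplecticGroup (Fin m) K) : A.map f ∈ symplecticGroup (Fin m) F := by
  rw [SymplecticGroup.mem_iff] at hA ⊢
  have h1 : (Matrix.J (Fin m) K).map f = Matrix.J (Fin m) F := by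
    rw [Matrix.J, Matrix.fromBlocks_map, Matrix.J]
    congr 1
    · ext i j; simp
    · ext i j
      by_cases hij : i = j
      · subst hij; simp
      · simp [hij]
    · ext i j
      by_cases hij : i = j
      · subst hij; simp
      · simp [hij]
    · ext i j; simp
  have h2 := congrArg f.mapMatrix hA
  rw [map_mul, map_mul] at h2
  have h3 : f.mapMatrix Aᵀ = (A.map f)ᵀ := rfl
  rw [h3] at h2
  rw [← h1]
  exact h2

/-- `Sp(2m, K) → SL(2m, F)`, conjugated. -/
def spC {σ : F →+* F} {δ l c : F} (h : Hd σ δ l c) (f : K →+* F) (m : ℕ) :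
    symplecticGroup (Fin m) K →* SpecialLinearGroup (Fin m ⊕ Fin m) F where
  toFun A := ⟨conjEquiv h (A.1.map f), by
    show (PM m δ l c * A.1.map f * RM m δ l c).det = 1
    rw [conj_det h]
    exact SymplecticGroup.det_eq_one (mem_symplectic_map f A.2)⟩
  map_one' := Subtype.ext (by
    show conjEquiv h (f.mapMatrix 1) = 1
    rw [map_one, map_one])
  map_mul' A B := Subtype.ext (by
    show conjEquiv h (f.mapMatrix (A.1 * B.1)) =
      conjEquiv h (f.mapMatrix A.1) * conjEquiv h (f.mapMatrix B.1)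
    rw [map_mul, map_mul])

/-- Adding a summand of degree one. -/
def slAdd {ι : Type*} [Fintype ι] [DecidableEq ι] :
    SpecialLinearGroup ι F →* SpecialLinearGroup (ι ⊕ Unit) F where
  toFun A := ⟨Matrix.fromBlocks A.1 0 0 1, by
    rw [Matrix.det_fromBlocks_zero₂₁, Matrix.det_one, mul_one, A.2]⟩
  map_one' := Subtype.ext (by
    show Matrix.fromBlocks (1 : Matrix ι ι F) 0 0 1 = 1
    rw [Matrix.fromBlocks_one])
  map_mul' A B := Subtype.ext (by
    show Matrix.fromBlocks (A.1 * B.1) 0 0 1 =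
      Matrix.fromBlocks A.1 0 0 1 * Matrix.fromBlocks B.1 0 0 (1 : Matrix Unit Unit F)
    rw [Matrix.fromBlocks_multiply]
    simp)

theorem psu_of [Fintype F] [Fintype K] {n q m r : ℕ} (hF : Fintype.card F = q ^ 2)
    (hK : Fintype.card K = q) (hn : 3 ≤ n) (hm : 2 ≤ m)
    (σ : F →+* F) (hσ : ∀ x, σ x = x ^ q) {y : symplecticGroup (Fin m) K} (h : Good K m r y)
    (g : symplecticGroup (Fin m) K →* SpecialLinearGroup (Fin n) F) (hg : Function.Injective g)
    (hun : ∀ A, Un σ (g A).1) (hcm : Cm (g y).1) : RealClosed (PSU n F q) := by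
  classical
  have hmem : ∀ A, g A ∈ SU n F q := fun A => mem_SU σ hσ _ (hun A)
  let g' : symplecticGroup (Fin m) K →* SU n F q := g.codRestrict _ hmem
  refine realClosed_of_comm (TableL3.suM n q) (TableL3.suM_injective n q) ?_ h.prime h.ne_two ?_
    (g' y) ?_ ?_ ?_ (isConj_map_inv g' h.real)
  · intro z hz
    obtain ⟨c, _, _, hc⟩ := (LieClassical.SUBasic.mem_center_SU_iff hF hn z).1 hz
    refine ⟨c, ?_⟩
    show z.1.1 = c • 1
    rw [hc, LieClassical.SUBasic.coe_suScalar, Matrix.smul_one_eq_diagonal]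
  · rintro c hc -
    refine eq_one_of_pow h.prime ?_ hc
    rw [hF]
    refine not_dvd_sub_one ?_ (hK ▸ h.ord) ?_
    · rw [← hK]
      exact Fintype.card_pos
    · intro h
      have := Nat.le_of_dvd two_pos h
      omega
  · rw [← map_pow, h.pow, map_one]
  · intro h1
    refine h.ne (hg ?_)
    rw [map_one]
    exact congrArg Subtype.val h1
  · intro a b ha hb
    exact Subtype.ext (Subtype.ext (hcm a.1.1 b.1.1
      (congrArg (fun t : SU n F q => t.1.1) ha.eq) (congrArg (fun t : SU n F q => t.1.1) hb.eq)))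

theorem psu [Fintype F] {q : ℕ} (hF : Fintype.card F = q ^ 2) (h2 : (2 : F) ≠ 0) {n : ℕ}
    (hn : 4 ≤ n) : RealClosed (PSU n F q) := by
  classical
  obtain ⟨σ, hσ⟩ := ClassicalGeometry.GUBasic.exists_powHom hF
  obtain ⟨l, hl⟩ := TableL3.exists_norm_neg_one hF h2
  obtain ⟨K, _, _, hK, ⟨f⟩⟩ := exists_subfield hF
  have hq := ClassicalGeometry.GUBasic.two_le hF
  have hσσ : ∀ x, σ (σ x) = x := by
    intro x
    rw [hσ, hσ, ← pow_mul, ← pow_two, ← hF]
    exact FiniteField.pow_card x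
  have hσf : ∀ x, σ (f x) = f x := by
    intro x
    rw [hσ, ← map_pow, ← hK, FiniteField.pow_card]
  obtain ⟨x, hx⟩ : ∃ x, σ x ≠ x := by
    by_contra hcon
    push Not at hcon
    have h1 : (Finset.univ : Finset F).card ≤ q := by
      have h3 : ∀ x ∈ (Finset.univ : Finset F), x ∈ (Polynomial.X ^ q - Polynomial.X : Polynomial F).roots := by
        intro x _
        rw [Polynomial.mem_roots (FiniteField.X_pow_card_sub_X_ne_zero F hq), Polynomial.IsRoot.def]
        simp only [Polynomial.eval_sub, Polynomial.eval_pow, Polynomial.eval_X]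
        rw [← hσ, hcon, sub_self]
      have h4 : (Finset.univ : Finset F).val ≤ (Polynomial.X ^ q - Polynomial.X : Polynomial F).roots :=
        (Multiset.le_iff_subset Finset.univ.nodup).2 fun x hx => h3 x hx
      have h5 := Multiset.card_le_card h4
      have h6 := Polynomial.card_roots' (Polynomial.X ^ q - Polynomial.X : Polynomial F)
      rw [FiniteField.X_pow_card_sub_X_natDegree_eq F hq] at h6
      exact h5.trans h6
    rw [Finset.card_univ, hF] at h1
    nlinarith
  have hd : Hd σ (x - σ x) l (1 / 2) :=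
    { inv := hσσ
      half := by field_simp
      ne := sub_ne_zero.2 (Ne.symm hx)
      anti := by rw [map_sub, hσσ]; ring
      norm := by rw [hσ, ← pow_succ', hl] }
  have h2K : (2 : K) ≠ 0 := by
    intro h
    apply h2
    have := congrArg f h
    rwa [map_ofNat, map_zero] at this
  obtain ⟨m, hm, hnm⟩ : ∃ m, 2 ≤ m ∧ (n = 2 * m ∨ n = 2 * m + 1) := ⟨n / 2, by omega, by omega⟩
  obtain ⟨r, y, h⟩ := exists_good K h2K hm
  obtain ⟨v, hv⟩ := h.cyc
  have hA : ∀ A : symplecticGroup (Fin m) K, Un σ (conjEquiv hd (A.1.map f)) := fun A =>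
    un_conj hd (mem_symplectic_map f A.2) (by
      ext i j
      exact hσf _)
  have hinj : ∀ A B : symplecticGroup (Fin m) K,
      conjEquiv hd (A.1.map f) = conjEquiv hd (B.1.map f) → A = B := by
    intro A B hAB
    have h3 := (conjEquiv hd).injective hAB
    apply Subtype.ext
    ext i j
    have h4 := congrFun (congrFun h3 i) j
    exact f.injective h4
  have hcm : Cm (conjEquiv hd (y.1.map f)) := Cm.of_equiv _ (hv.map f).cm
  rcases hnm with hnm | hnm
  · let e : Fin m ⊕ Fin m ≃ Fin n := Fintype.equivFinOfCardEq (by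
      rw [Fintype.card_sum, Fintype.card_fin]
      omega)
    refine psu_of hF hK (by omega) hm σ hσ h ((slReindex e).comp (spC hd f m)) ?_ ?_ ?_
    · intro A B hAB
      exact hinj _ _ ((Matrix.reindexAlgEquiv F F e).injective (congrArg Subtype.val hAB))
    · intro A
      exact (hA A).reindex e
    · exact Cm.of_equiv (Matrix.reindexAlgEquiv F F e).toMulEquiv hcm
  · let e : (Fin m ⊕ Fin m) ⊕ Unit ≃ Fin n := Fintype.equivFinOfCardEq (by
      rw [Fintype.card_sum, Fintype.card_sum, Fintype.card_fin, Fintype.card_unit]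
      omega)
    refine psu_of hF hK (by omega) hm σ hσ h ((slReindex e).comp (slAdd.comp (spC hd f m))) ?_ ?_ ?_
    · intro A B hAB
      have h3 := (Matrix.reindexAlgEquiv F F e).injective (congrArg Subtype.val hAB)
      have h4 : Matrix.fromBlocks (conjEquiv hd (A.1.map f)) 0 0 (1 : Matrix Unit Unit F) =
        Matrix.fromBlocks (conjEquiv hd (B.1.map f)) 0 0 1 := h3
      rw [Matrix.fromBlocks_inj] at h4
      exact hinj _ _ h4.1
    · intro A
      exact (hA A).fromBlocks.reindex e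
    · refine Cm.of_equiv (Matrix.reindexAlgEquiv F F e).toMulEquiv (Cm.fromBlocks hcm ?_)
      have h5 := isUnit_map f h.unit
      have h6 : conjEquiv hd (y.1.map f) - 1 =
          PM m (x - σ x) l (1 / 2) * (y.1.map f - 1) * RM m (x - σ x) l (1 / 2) := by
        rw [Matrix.mul_sub, Matrix.sub_mul, Matrix.mul_one, PM_mul_RM hd]
        rfl
      have h7 : IsUnit (conjEquiv hd (y.1.map f) - 1) := by
        rw [h6]
        refine (IsUnit.mul ?_ h5).mul ?_
        · exact IsUnit.of_mul_eq_one _ (PM_mul_RM hd)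
        · exact IsUnit.of_mul_eq_one _ (RM_mul_PM hd)
      exact h7

end Unitary

end Cfsg.Agent.H610.TableCl
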