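import Cfsg.Agent.H610.TableRows
import Cfsg.Agent.H610.Table2E6
import Cfsg.Agent.H610.TableCl
import Cfsg.Agent.H612.Even

/-!
# `EvenOver` for the groups of `TableRows.lean`

Alternating groups, `PSL(2, q)` (all `q ≥ 4`), `PSL(3, q)`, `PSU(3, q)`, `G₂(q)`, `³D₄(q)` (`q` odd),
small Ree groups, `F₄(q)`, `E₆(q)`, `E₈(q)`, `²E₆(q)`, `PSL(n, q)`, `PSU(n, q)` (`n ≥ 4`),
`PSp(2m, q)` (`m ≥ 2`) (`q` odd).
-/

set_option autoImplicit false

namespace Cfsg.Agent.H610.EvenRows

open Cfsg Cfsg.Agent.H612.Even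

universe u v

theorem of_realOdd {S : Type u} [Group S] [Finite S] (h : RealOdd S) : EvenOver S := by
  obtain ⟨y, h1, h2, h3⟩ := h
  exact of_odd S y h1 h2 h3

/-- A normal subgroup which is a `2`-group of odd index is a Sylow subgroup. -/
theorem exists_sylow {C : Type u} [Group C] [Finite C] {T : Subgroup C} (hT : T.Normal)
    (h2 : IsPGroup 2 T) (hi : Odd T.index) :
    ∃ P : Sylow 2 C, (P : Subgroup C).Normal := by
  have : Fact (Nat.Prime 2) := ⟨Nat.prime_two⟩
  refine ⟨h2.toSylow ?_, hT⟩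
  rw [← even_iff_two_dvd, Nat.not_even_iff_odd]
  exact hi

theorem of_realClosed {S : Type u} [Group S] [Finite S] (h : RealClosed S) : EvenOver S := by
  obtain ⟨y, h1, h2, h3, T, hT, hT2, hTi⟩ := h
  obtain ⟨P, hP⟩ := exists_sylow hT hT2 hTi
  exact of_twoClosed S y h1 h2 h3 P hP

variable {G : Type u} [Group G] [Finite G]

theorem alternating (h : IsAlternating G) : EvenOver G := of_realOdd (TableRows.alternating h)

theorem ree (h : Lie.IsoRee G) : EvenOver G := of_realOdd (TableRows.ree h)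

theorem psl_two {F : Type v} [Field F] [Fintype F] (h4 : 4 ≤ Fintype.card F)
    (e : G ≃* Matrix.ProjectiveSpecialLinearGroup (Fin 2) F) : EvenOver G :=
  of_realClosed (TableRows.psl_two h4 e)

theorem psl_three {F : Type v} [Field F] [Fintype F] (h : Odd (Fintype.card F))
    (e : G ≃* Matrix.ProjectiveSpecialLinearGroup (Fin 3) F) : EvenOver G :=
  of_realClosed (TableRows.psl_three h e)

theorem psu_three {F : Type v} [Field F] [Fintype F] {q : ℕ} (hF : Fintype.card F = q ^ 2)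
    (h : Odd q) (e : G ≃* PSU 3 F q) : EvenOver G :=
  of_realClosed (TableRows.psu_three hF h e)

theorem g2 {F : Type v} [Field F] [Fintype F] (h : Odd (Fintype.card F))
    (e : G ≃* Lie.chevG2.group F) : EvenOver G :=
  of_realOdd (TableRows.g2 h e)

theorem d4 {K : Type v} [Field K] [Fintype K] {q : ℕ} (hK : Fintype.card K = q ^ 3) (h : Odd q)
    (e : G ≃* Lie.twistedD4 K q) : EvenOver G :=
  of_realOdd (TableRows.d4 hK h e)

theorem f4 {F : Type v} [Field F] [Fintype F] (h : Odd (Fintype.card F))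
    (e : G ≃* Lie.chevF4.group F) : EvenOver G :=
  of_realOdd ((ChevReal.f4 h).of_equiv e.symm)

theorem e6 {F : Type v} [Field F] [Fintype F] (h : Odd (Fintype.card F))
    (e : G ≃* Lie.chevE6.group F) : EvenOver G :=
  of_realOdd ((ChevReal.e6 h).of_equiv e.symm)

theorem e8 {F : Type v} [Field F] [Fintype F] (h : Odd (Fintype.card F))
    (e : G ≃* Lie.chevE8.group F) : EvenOver G :=
  of_realOdd ((ChevReal.e8 h).of_equiv e.symm)

theorem twistedE6 {K : Type v} [Field K] [Fintype K] {q : ℕ} (hK : Fintype.card K = q ^ 2)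
    (h : Odd q) (e : G ≃* Lie.twistedE6 K q) : EvenOver G :=
  of_realOdd ((Table2E6.e6 (hK ▸ h.pow) h).of_equiv e.symm)

theorem psl {F : Type v} [Field F] [Fintype F] (h : Odd (Fintype.card F)) {n : ℕ} (hn : 4 ≤ n)
    (e : G ≃* Matrix.ProjectiveSpecialLinearGroup (Fin n) F) : EvenOver G :=
  of_realClosed ((TableCl.psl (TableRows.two_ne_zero_of_odd h) hn).of_equiv e.symm)

theorem psu {F : Type v} [Field F] [Fintype F] {q : ℕ} (hF : Fintype.card F = q ^ 2)
    (h : Odd q) {n : ℕ} (hn : 4 ≤ n) (e : G ≃* PSU n F q) : EvenOver G :=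
  of_realClosed ((TableCl.psu hF (TableRows.two_ne_zero_of_odd (hF ▸ h.pow)) hn).of_equiv e.symm)

theorem psp {F : Type v} [Field F] [Fintype F] (h : Odd (Fintype.card F)) {m : ℕ} (hm : 2 ≤ m)
    (e : G ≃* PSp m F) : EvenOver G :=
  of_realClosed ((TableCl.psp (TableRows.two_ne_zero_of_odd h) hm).of_equiv e.symm)

end Cfsg.Agent.H610.EvenRows
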