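import Cfsg.Agent.H610.OddIndex
import Cfsg.Agent.CharDeep.PowerDegrees
import Cfsg.Agent.H710.PPrimeDeg
import Cfsg.Agent.S0187

/-!
# S4516 from the normality of the Sylow 2-subgroup
-/

set_option autoImplicit false

namespace Cfsg.Agent.H610.Main4516

open Cfsg Cfsg.Agent.Characters Cfsg.Agent.H610.OddIndex Cfsg.Agent.Blocks

universe u

variable {G : Type u} [Group G]

/-- Two exponents agreeing on `2`-elements and on elements of odd order agree. -/
theorem pow_eq_of_parts [Finite G] {k k' : ℕ}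
    (h2 : ∀ g : G, (∃ j : ℕ, orderOf g = 2 ^ j) → g ^ k = g ^ k')
    (ho : ∀ g : G, Odd (orderOf g) → g ^ k = g ^ k') (g : G) : g ^ k = g ^ k' := by
  obtain ⟨a, m, hm, hgm⟩ := Nat.exists_eq_two_pow_mul_odd (orderOf_pos g).ne'
  have hcop : Nat.Coprime (2 ^ a) m := by
    apply Nat.Coprime.pow_left
    rwa [Nat.coprime_two_left]
  obtain ⟨x, y, hxy⟩ : ∃ x y : ℤ, x * ((2 ^ a : ℕ) : ℤ) + y * (m : ℤ) = 1 := by
    have := Nat.gcd_eq_gcd_ab (2 ^ a) m
    rw [hcop.gcd_eq_one] at this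
    refine ⟨(2 ^ a).gcdA m, (2 ^ a).gcdB m, ?_⟩
    rw [mul_comm, mul_comm _ (m : ℤ)]
    exact_mod_cast this.symm
  have h1 : orderOf (g ^ 2 ^ a) = m := by
    rw [orderOf_pow, hgm, Nat.gcd_eq_right (Dvd.intro _ rfl),
      Nat.mul_div_cancel_left _ (pow_pos (by norm_num) a)]
  have h3 : orderOf (g ^ m) = 2 ^ a := by
    rw [orderOf_pow, hgm, Nat.gcd_eq_right (Dvd.intro_left _ rfl),
      Nat.mul_div_cancel _ hm.pos]
  have e1 := ho _ (by rw [h1]; exact hm)
  have e2 := h2 _ ⟨a, h3⟩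
  have hg : g = (g ^ 2 ^ a) ^ x * (g ^ m) ^ y := by
    rw [← zpow_natCast, ← zpow_natCast, ← zpow_mul, ← zpow_mul, ← zpow_add, mul_comm _ x,
      mul_comm _ y, hxy, zpow_one]
  have key : ∀ n : ℕ, g ^ n = ((g ^ 2 ^ a) ^ n) ^ x * ((g ^ m) ^ n) ^ y := by
    intro n
    have h5 : ((g ^ 2 ^ a) ^ n) ^ x * ((g ^ m) ^ n) ^ y = ((g ^ 2 ^ a) ^ x * (g ^ m) ^ y) ^ n := by
      simp only [← zpow_natCast, ← zpow_mul, ← zpow_add]
      congr 1
      ring
    rw [h5, ← hg]
  rw [key k, key k', e1, e2]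

/-- A replacement of the exponent. -/
theorem exists_tw [Finite G] {k : ℕ} (hk₁ : ∀ g : G, (∃ j : ℕ, orderOf g = 2 ^ j) → g ^ k = g)
    (hk₂ : ∀ g : G, Odd (orderOf g) → g ^ k = g⁻¹) :
    ∃ k' : ℕ, (∀ g : G, g ^ k' = g ^ k) ∧ Tw G k' 1 := by
  obtain ⟨a, m, hm, hGm⟩ := Nat.exists_eq_two_pow_mul_odd (Nat.card_pos (α := G)).ne'
  have hcop : Nat.Coprime (2 ^ a) m := by
    apply Nat.Coprime.pow_left
    rwa [Nat.coprime_two_left]
  obtain ⟨k', h1, h2⟩ := Nat.chineseRemainder hcop 1 (m - 1)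
  have hm1 : (m - 1) + 1 = m := Nat.sub_add_cancel hm.pos
  have h1sq : k' ^ 2 ≡ 1 [MOD 2 ^ a] := by simpa using h1.pow 2
  have h2sq : k' ^ 2 ≡ 1 [MOD m] := by
    have e1 : k' + 1 ≡ 0 [MOD m] := by
      have := h2.add_right 1
      rw [hm1] at this
      exact this.trans (by simp [Nat.ModEq])
    have e2 : k' * (k' + 1) ≡ 0 [MOD m] := by simpa using e1.mul_left k'
    have e3 : k' ^ 2 + (k' + 1) ≡ 1 + (k' + 1) [MOD m] := by
      have : k' ^ 2 + (k' + 1) = k' * (k' + 1) + 1 := by ring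
      rw [this]
      have e4 : k' * (k' + 1) + 1 ≡ 0 + 1 [MOD m] := e2.add_right 1
      have e5 : 1 + (k' + 1) ≡ 1 + 0 [MOD m] := e1.add_left 1
      exact e4.trans (by rw [zero_add]; exact e5.symm)
    exact Nat.ModEq.add_right_cancel' _ e3
  have hsq : k' ^ 2 ≡ 1 [MOD Nat.card G] := by
    rw [hGm]
    exact (Nat.modEq_and_modEq_iff_modEq_mul hcop).1 ⟨h1sq, h2sq⟩
  have hodd : ∀ g : G, Odd (orderOf g) → g ^ k' = g⁻¹ := by
    intro g hg
    have hd : orderOf g ∣ m := by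
      have h3 : orderOf g ∣ 2 ^ a * m := hGm ▸ orderOf_dvd_natCard g
      refine Nat.Coprime.dvd_of_dvd_mul_left ?_ h3
      apply Nat.Coprime.pow_right
      rwa [Nat.coprime_two_right]
    have e1 : k' + 1 ≡ 0 [MOD m] := by
      have := h2.add_right 1
      rw [hm1] at this
      exact this.trans (by simp [Nat.ModEq])
    have e2 : orderOf g ∣ k' + 1 := hd.trans ((Nat.modEq_zero_iff_dvd).1 e1)
    rw [← mul_eq_one_iff_eq_inv, ← pow_succ]
    exact orderOf_dvd_iff_pow_eq_one.1 e2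
  refine ⟨k', ?_, ?_, ?_, hodd⟩
  · intro g
    refine pow_eq_of_parts (fun g hg => ?_) (fun g hg => ?_) g
    · rw [hk₁ g hg]
      obtain ⟨j, hj⟩ := hg
      have hd : orderOf g ∣ 2 ^ a := by
        have h3 : orderOf g ∣ 2 ^ a * m := hGm ▸ orderOf_dvd_natCard g
        refine Nat.Coprime.dvd_of_dvd_mul_right ?_ h3
        rw [hj]
        apply Nat.Coprime.pow_left
        rwa [Nat.coprime_two_left]
      calc g ^ k' = g ^ 1 := by
            rw [pow_eq_pow_iff_modEq]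
            exact h1.of_dvd hd
        _ = g := pow_one g
    · rw [hk₂ g hg, hodd g hg]
  · have h3 : k' * k' ≡ 1 [MOD Nat.card G] := by rwa [pow_two] at hsq
    exact Nat.Coprime.symm (Nat.coprime_of_mul_modEq_one k' h3).symm
  · exact hsq

/-- **S4516** from the normality statement. -/
theorem main [Finite G] (P : Sylow 2 G) (k : ℕ)
    (hk₁ : ∀ g : G, (∃ j : ℕ, orderOf g = 2 ^ j) → g ^ k = g)
    (hk₂ : ∀ g : G, Odd (orderOf g) → g ^ k = g⁻¹)
    (hnorm : (∀ χ : Cfsg.IrrCharacter G, (∀ g : G, (χ : G → ℂ) (g ^ k) = (χ : G → ℂ) g) →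
      Odd (Cfsg.charDegree (χ : G → ℂ))) → (P : Subgroup G).Normal) :
    (∀ χ : Cfsg.IrrCharacter G, (∀ g : G, (χ : G → ℂ) (g ^ k) = (χ : G → ℂ) g) →
      Odd (Cfsg.charDegree (χ : G → ℂ))) ↔ ((P : Subgroup G).Normal ∧ IsMulCommutative P) := by
  have h2 : Fact (Nat.Prime 2) := ⟨Nat.prime_two⟩
  have hidx : Odd (P : Subgroup G).index := by
    rw [← Nat.not_even_iff_odd, even_iff_two_dvd]
    exact P.not_dvd_index
  constructor
  · intro h
    have hN := hnorm h
    refine ⟨hN, ?_⟩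
    have := Fintype.ofFinite G
    have := Fintype.ofFinite (P : Subgroup G)
    obtain ⟨k', hk', hT⟩ := exists_tw hk₁ hk₂
    have h3 : ∀ a b : (P : Subgroup G), a * b = b * a := by
      refine (Cfsg.Agent.S0187.result (G := (P : Subgroup G))).2 fun θ => ?_
      obtain ⟨χ, hχ, hfix⟩ := exists_over hT (P : Subgroup G) hidx θ (by
        intro n
        have h4 : n ^ k' = n := by
          apply Subtype.ext
          rw [Subgroup.coe_pow, hk' n, hk₁]
          obtain ⟨j, hj⟩ := IsPGroup.iff_orderOf.1 P.isPGroup' n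
          exact ⟨j, by rw [Subgroup.orderOf_coe, hj]⟩
        rw [h4])
      have hodd : Odd (charDegree (χ : G → ℂ)) := h χ fun g => by
        rw [← hk' g]
        exact hfix g
      obtain ⟨m, hm⟩ := Cfsg.Agent.CharDeep.PowerDegrees.degree_dvd (P : Subgroup G) χ.2 θ.2 hχ
      have hdvd : charDegree (θ : ↥(P : Subgroup G) → ℂ) ∣ charDegree (χ : G → ℂ) := by
        refine ⟨m, ?_⟩
        apply Basic.charDegree_of_eq
        rw [hm, Basic.irr_one_eq_charDegree θ.2]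
        push_cast
        ring
      have h4 : charDegree (θ : ↥(P : Subgroup G) → ℂ) ∣ Nat.card (P : Subgroup G) :=
        Cfsg.Agent.H710.PPrimeDeg.charDegree_dvd_card θ.2
      obtain ⟨a, ha⟩ := IsPGroup.iff_card.1 P.isPGroup'
      rw [ha, Nat.dvd_prime_pow Nat.prime_two] at h4
      obtain ⟨b, -, hb⟩ := h4
      have h5 : charDegree (θ : ↥(P : Subgroup G) → ℂ) = 1 := by
        rw [hb]
        rcases Nat.eq_zero_or_pos b with rfl | hb0
        · rfl
        · exfalso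
          have h6 : 2 ∣ charDegree (χ : G → ℂ) := by
            refine dvd_trans ?_ hdvd
            rw [hb]
            exact dvd_pow_self 2 hb0.ne'
          exact (Nat.not_even_iff_odd.2 hodd) (even_iff_two_dvd.2 h6)
      rw [Basic.irr_one_eq_charDegree θ.2, h5, Nat.cast_one]
    exact ⟨⟨h3⟩⟩
  · rintro ⟨hN, hc⟩ χ -
    have h3 := Cfsg.Agent.H710.PPrimeDeg.charDegree_dvd_index χ.2 (P : Subgroup G) (by
      intro a ha b hb
      exact congrArg Subtype.val (hc.is_comm.comm (⟨a, ha⟩ : (P : Subgroup G)) ⟨b, hb⟩))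
    exact hidx.of_dvd_nat h3

end Cfsg.Agent.H610.Main4516
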