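import Mathlib
import Cfsg.Prelude.Def_Characters
import Cfsg.Agent.H610.OddIndex
import Cfsg.Agent.Characters.Linear
import Cfsg.Agent.S0856
import Cfsg.Agent.S0888

/-!
# Extension of fixed characters from normal subgroups of odd index

* `restrict_eq`: a fixed irreducible character over a fixed `G`-invariant irreducible character of a
  normal subgroup of odd index is an extension.
-/

set_option autoImplicit false

namespace Cfsg.Agent.H610.OddExt

open Cfsg Cfsg.Agent.Characters Cfsg.Agent.H610.Twist Cfsg.Agent.H610.OddIndex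
open scoped ComplexConjugate

universe u

variable {G : Type u} [Group G] {k e : ℕ}

/-- Two fixed characters which are equal and irreducible on a normal subgroup of odd index are
equal. -/
theorem unique_ext [Fintype G] (h : Tw G k e) (N : Subgroup G) [hN : N.Normal]
    (hidx : Odd N.index) (χ₁ χ₂ : IrrCharacter G)
    (h₁ : ∀ g : G, (χ₁ : G → ℂ) (g ^ k) = (χ₁ : G → ℂ) g)
    (h₂ : ∀ g : G, (χ₂ : G → ℂ) (g ^ k) = (χ₂ : G → ℂ) g)
    (hirr : IsIrrCharacter N (fun n : N => (χ₁ : G → ℂ) n))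
    (heq : ∀ n : N, (χ₂ : G → ℂ) n = (χ₁ : G → ℂ) n) : χ₁ = χ₂ := by
  have : Fintype N := Fintype.ofFinite N
  refine unique_over h N hidx ⟨_, hirr⟩ χ₁ χ₂ h₁ h₂ ?_ ?_
  · show classInner (fun n : N => (χ₁ : G → ℂ) n) (fun n : N => (χ₁ : G → ℂ) n) ≠ 0
    rw [Core.classInner_irr_self hirr]
    exact one_ne_zero
  · show classInner (fun n : N => (χ₂ : G → ℂ) n) (fun n : N => (χ₁ : G → ℂ) n) ≠ 0
    rw [funext heq, Core.classInner_irr_self hirr]
    exact one_ne_zero

/-- Fixed invariant characters extend to fixed characters along `p`-group quotients. -/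
theorem ext_pgroup {N : Type u} [Group N] [Fintype N] {p : ℕ} (hp : p.Prime) {θ : N → ℂ}
    (hθ : IsIrrCharacter N θ) (hfix : ∀ n, θ (n ^ k) = θ n) (j : ℕ) :
    ∀ (G : Type u) [Group G] [Fintype G] (f : N →* G)
    (_ : Function.Injective f) (_ : f.range.Normal) (_ : f.range.index = p ^ j)
    (_ : Odd (p ^ j))
    (_ : ∀ (g : G) (n n' : N), f n' = g * f n * g⁻¹ → θ n' = θ n) (_ : Tw G k e),
    ∃ χ : IrrCharacter G, (∀ n, (χ : G → ℂ) (f n) = θ n) ∧
      ∀ g, (χ : G → ℂ) (g ^ k) = (χ : G → ℂ) g := by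
  induction j with
  | zero =>
    intro G _ _ f hf hn hk _ hinv hT
    have hsurj : Function.Surjective f := by
      rw [pow_zero, Subgroup.index_eq_one] at hk
      exact MonoidHom.range_eq_top.1 hk
    let e' : N ≃* G := MulEquiv.ofBijective f ⟨hf, hsurj⟩
    refine ⟨⟨θ ∘ (e'.symm : G →* N), Core.isIrr_comp (e'.symm : G →* N) e'.symm.surjective hθ⟩, ?_, ?_⟩
    · intro n
      show θ (e'.symm (e' n)) = θ n
      rw [MulEquiv.symm_apply_apply]
    · intro g
      show θ (e'.symm (g ^ k)) = θ (e'.symm g)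
      rw [map_pow, hfix]
  | succ j ih =>
    intro G _ _ f hf hn hk hodd hinv hT
    classical
    obtain ⟨K, hKn, hNK, hKi⟩ := CharactersDeep.PrimeIndex.exists_normal_between f.range hp hk
    have : Fintype K := Fintype.ofFinite K
    let f' : N →* K := f.codRestrict K (fun n => hNK ⟨n, rfl⟩)
    have hf'c : ∀ n, ((f' n : K) : G) = f n := fun n => rfl
    have hf' : Function.Injective f' := fun a b hab => hf (congrArg Subtype.val hab)
    have hr : f'.range = f.range.subgroupOf K := by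
      ext x
      rw [Subgroup.mem_subgroupOf]
      constructor
      · rintro ⟨n, rfl⟩; exact ⟨n, rfl⟩
      · rintro ⟨n, hn⟩; exact ⟨n, Subtype.ext hn⟩
    have hn' : f'.range.Normal := by rw [hr]; infer_instance
    have hk' : f'.range.index = p ^ j := by
      rw [hr]
      have h1 : f.range.relIndex K * K.index = f.range.index := Subgroup.relIndex_mul_index hNK
      rw [hKi, hk, pow_succ] at h1
      exact Nat.eq_of_mul_eq_mul_right hp.pos h1
    rw [pow_succ, Nat.odd_mul] at hodd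
    have hinv' : ∀ (g : K) (n n' : N), f' n' = g * f' n * g⁻¹ → θ n' = θ n := by
      intro g n n' h
      exact hinv g n n' (congrArg Subtype.val h)
    obtain ⟨η, hη, hηk⟩ := ih K f' hf' hn' hk' hodd.1 hinv' (hT.sub K)
    -- `η` is invariant
    let ι : N ≃* f'.range := MonoidHom.ofInjective hf'
    have hη' : (fun n : f'.range => (η : K → ℂ) n) = θ ∘ (ι.symm : f'.range →* N) := by
      funext n
      obtain ⟨n, rfl⟩ := ι.surjective n
      show (η : K → ℂ) (f' n) = θ (ι.symm (ι n))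
      rw [MulEquiv.symm_apply_apply, hη]
    have hirr : IsIrrCharacter f'.range (fun n : f'.range => (η : K → ℂ) n) := by
      rw [hη']
      exact Core.isIrr_comp (ι.symm : f'.range →* N) ι.symm.surjective hθ
    have hηinv : ∀ (g : G) (x : K), (η : K → ℂ) ⟨g * x * g⁻¹, hKn.conj_mem (x : G) x.2 g⟩ =
        (η : K → ℂ) x := by
      intro g
      let η₂ : IrrCharacter K := ⟨(η : K → ℂ) ∘ (MulAut.conjNormal g : MulAut K),
        Clifford.isIrr_conjNormal η.2 g⟩
      have h2 : η = η₂ := by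
        refine unique_ext (hT.sub K) f'.range (by rw [hk']; exact hodd.1) η η₂ hηk ?_ hirr ?_
        · intro x
          show (η : K → ℂ) ((MulAut.conjNormal g : MulAut K) (x ^ k)) =
            (η : K → ℂ) ((MulAut.conjNormal g : MulAut K) x)
          rw [map_pow, hηk]
        · intro n
          obtain ⟨n, hn⟩ := n
          obtain ⟨n, rfl⟩ := hn
          show (η : K → ℂ) ((MulAut.conjNormal g : MulAut K) (f' n)) = (η : K → ℂ) (f' n)
          have h3 : g * f n * g⁻¹ ∈ f.range := ‹f.range.Normal›.conj_mem _ ⟨n, rfl⟩ g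
          obtain ⟨n', hn'⟩ := h3
          have h4 : (MulAut.conjNormal g : MulAut K) (f' n) = f' n' := by
            apply Subtype.ext
            rw [MulAut.conjNormal_apply, hf'c, hf'c, hn']
          rw [h4, hη, hη]
          exact hinv g n n' hn'
      intro x
      have h3 := congrFun (congrArg Subtype.val h2) x
      exact h3.symm
    obtain ⟨χ, ho, hχ⟩ := exists_over hT K (by rw [hKi]; exact hodd.2) η hηk
    refine ⟨χ, ?_, hχ⟩
    intro n
    rw [← hη, ← hf'c]
    exact ext_of_prime_index K hp hKi χ.2 η.2 hηinv ho (f' n)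

/-- The extensions of an irreducible character to a group are a torsor for the linear characters
of the quotient. -/
theorem card_ext [Fintype G] (N : Subgroup G) [hN : N.Normal] (θ : IrrCharacter N)
    (hinv : ∀ (g : G) (n : N), (θ : N → ℂ) ⟨g * n * g⁻¹, hN.conj_mem (n : G) n.2 g⟩ = (θ : N → ℂ) n)
    (χ₀ : IrrCharacter G) (h₀ : ∀ n : N, (χ₀ : G → ℂ) n = (θ : N → ℂ) n) :
    Nat.card {χ : IrrCharacter G // ∀ n : N, (χ : G → ℂ) n = (θ : N → ℂ) n} =
      Nat.card ((G ⧸ N) →* ℂˣ) := by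
  classical
  have : Fintype N := Fintype.ofFinite N
  have hbij := Cfsg.Agent.S0856.result N (fun _ => 1) (θ : N → ℂ) Core.isIrr_one θ.2
    (fun _ _ => rfl) hinv (by
      have : (fun _ : N => (1 : ℂ)) * (θ : N → ℂ) = (θ : N → ℂ) := one_mul _
      rw [this]
      exact θ.2) (χ₀ : G → ℂ) χ₀.2 h₀
  have h1θ : (fun _ : N => (1 : ℂ)) * (θ : N → ℂ) = (θ : N → ℂ) := one_mul _
  rw [h1θ] at hbij
  have hrec : ∀ (φ : N → ℂ) (χ : G → ℂ), IsClassFunction G χ →
      classInner (indFun N φ) χ = classInner φ (fun n : N => χ n) := fun φ χ hχ =>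
    Characters.Brauer.classInner_indFun N inferInstance φ χ hχ
  -- the map
  have hlin : ∀ l : (G ⧸ N) →* ℂˣ, (fun g : G => ((l (g : G ⧸ N) : ℂˣ) : ℂ)) ∈
      {β : G → ℂ | IsIrrCharacter G β ∧ classInner (indFun N (fun _ => (1 : ℂ))) β ≠ 0} := by
    intro l
    have h1 : IsIrrCharacter G (fun g : G => ((l (g : G ⧸ N) : ℂˣ) : ℂ)) :=
      Characters.Linear.isIrrCharacter_hom (l.comp (QuotientGroup.mk' N))
    refine ⟨h1, ?_⟩
    rw [hrec _ _ (Core.isIrr_isClassFunction h1)]
    have h2 : (fun n : N => ((l ((n : G) : G ⧸ N) : ℂˣ) : ℂ)) = fun _ : N => (1 : ℂ) := by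
      funext n
      rw [(QuotientGroup.eq_one_iff (n : G)).2 n.2, map_one, Units.val_one]
    rw [h2]
    have h3 : classInner (fun _ : N => (1 : ℂ)) (fun _ : N => (1 : ℂ)) = 1 :=
      Core.classInner_irr_self Core.isIrr_one
    rw [h3]
    exact one_ne_zero
  let Φ : ((G ⧸ N) →* ℂˣ) → {χ : IrrCharacter G // ∀ n : N, (χ : G → ℂ) n = (θ : N → ℂ) n} :=
    fun l => ⟨⟨(fun g : G => ((l (g : G ⧸ N) : ℂˣ) : ℂ)) * (χ₀ : G → ℂ), (hbij.mapsTo (hlin l)).1⟩, by
      intro n
      show ((l ((n : G) : G ⧸ N) : ℂˣ) : ℂ) * (χ₀ : G → ℂ) n = (θ : N → ℂ) n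
      rw [(QuotientGroup.eq_one_iff (n : G)).2 n.2, map_one, Units.val_one, one_mul, h₀]⟩
  symm
  refine Nat.card_congr (Equiv.ofBijective Φ ⟨?_, ?_⟩)
  · intro l l' hll
    have h1 : (fun g : G => ((l (g : G ⧸ N) : ℂˣ) : ℂ)) * (χ₀ : G → ℂ) =
        (fun g : G => ((l' (g : G ⧸ N) : ℂˣ) : ℂ)) * (χ₀ : G → ℂ) :=
      congrArg (fun x => ((x.1 : IrrCharacter G) : G → ℂ)) hll
    have h2 := hbij.injOn (hlin l) (hlin l') h1
    apply MonoidHom.ext
    intro g
    obtain ⟨g, rfl⟩ := QuotientGroup.mk_surjective g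
    exact Units.ext (congrFun h2 g)
  · rintro ⟨ψ, hψ⟩
    have h1 : (ψ : G → ℂ) ∈ {ψ : G → ℂ | IsIrrCharacter G ψ ∧
        classInner (indFun N (θ : N → ℂ)) ψ ≠ 0} := by
      refine ⟨ψ.2, ?_⟩
      rw [hrec _ _ (Core.isIrr_isClassFunction ψ.2), funext hψ]
      have h3 : classInner (θ : N → ℂ) (θ : N → ℂ) = 1 := Core.classInner_irr_self θ.2
      show classInner (θ : N → ℂ) (θ : N → ℂ) ≠ 0
      rw [h3]
      exact one_ne_zero
    obtain ⟨β, ⟨hβ, hβ1⟩, hβψ⟩ := hbij.surjOn h1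
    have hβψ' : ∀ g, β g * (χ₀ : G → ℂ) g = (ψ : G → ℂ) g := fun g => congrFun hβψ g
    have hβone : β 1 = 1 := by
      have h2 := hβψ' 1
      have h3 : (ψ : G → ℂ) 1 = (χ₀ : G → ℂ) 1 := by
        have e1 := hψ 1
        have e2 := h₀ 1
        rw [Subgroup.coe_one] at e1 e2
        rw [e1, e2]
      rw [h3] at h2
      have h4 := Core.isIrr_apply_one_ne_zero χ₀.2
      exact mul_right_cancel₀ h4 (h2.trans (one_mul _).symm)
    obtain ⟨l, hl⟩ := Characters.Linear.exists_hom_of_isIrrCharacter hβ hβone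
    have hres : (fun n : N => β n) = fun _ : N => (1 : ℂ) := by
      rw [hrec _ _ (Core.isIrr_isClassFunction hβ)] at hβ1
      by_contra hne
      apply hβ1
      refine Core.classInner_irr_ne Core.isIrr_one ?_ (fun h => hne h.symm)
      rw [hl]
      exact Characters.Linear.isIrrCharacter_hom (l.comp N.subtype)
    have hker : N ≤ l.ker := by
      intro n hn
      rw [MonoidHom.mem_ker]
      have h2 := congrFun hres ⟨n, hn⟩
      rw [hl] at h2
      exact Units.ext h2
    refine ⟨QuotientGroup.lift N l hker, ?_⟩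
    apply Subtype.ext
    apply Subtype.ext
    funext g
    show ((QuotientGroup.lift N l hker (g : G ⧸ N) : ℂˣ) : ℂ) * (χ₀ : G → ℂ) g = (ψ : G → ℂ) g
    rw [QuotientGroup.lift_mk, ← hβψ' g, hl]

/-- A fixed invariant character of a normal subgroup of odd index which extends has a fixed
extension. -/
theorem exists_fixed_ext [Fintype G] (h : Tw G k e) (N : Subgroup G) [hN : N.Normal]
    (hidx : Odd N.index) (θ : IrrCharacter N) (hθ : ∀ n : N, (θ : N → ℂ) (n ^ k) = (θ : N → ℂ) n)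
    (hinv : ∀ (g : G) (n : N), (θ : N → ℂ) ⟨g * n * g⁻¹, hN.conj_mem (n : G) n.2 g⟩ = (θ : N → ℂ) n)
    (χ₀ : IrrCharacter G) (h₀ : ∀ n : N, (χ₀ : G → ℂ) n = (θ : N → ℂ) n) :
    ∃ χ : IrrCharacter G, (∀ n : N, (χ : G → ℂ) n = (θ : N → ℂ) n) ∧
      ∀ g, (χ : G → ℂ) (g ^ k) = (χ : G → ℂ) g := by
  classical
  have := Core.finite_irr (G := G)
  let O := {χ : IrrCharacter G // ∀ n : N, (χ : G → ℂ) n = (θ : N → ℂ) n}
  have : Fintype O := Fintype.ofFinite O
  have hO : ¬ 2 ∣ Fintype.card O := by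
    rw [← Nat.card_eq_fintype_card]
    show ¬ 2 ∣ Nat.card {χ : IrrCharacter G // ∀ n : N, (χ : G → ℂ) n = (θ : N → ℂ) n}
    rw [card_ext N θ hinv χ₀ h₀, Characters.Linear.card_hom_eq_index_commutator]
    intro h2
    have h3 : (commutator (G ⧸ N)).index ∣ Nat.card (G ⧸ N) := Subgroup.index_dvd_card _
    have h4 := h2.trans h3
    exact (Nat.not_even_iff_odd.2 hidx) (even_iff_two_dvd.2 h4)
  have hmem : ∀ χ : IrrCharacter G, (∀ n : N, (χ : G → ℂ) n = (θ : N → ℂ) n) →
      ∀ n : N, (pw h.cop χ : G → ℂ) n = (θ : N → ℂ) n := by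
    intro χ hχ n
    rw [pw_apply]
    have := hχ (n ^ k)
    rw [Subgroup.coe_pow, hθ] at this
    exact this
  let s : O → O := fun χ => ⟨pw h.cop χ.1, hmem χ.1 χ.2⟩
  have hsinj : Function.Injective s := by
    intro ψ φ h'
    exact Subtype.ext (pw_injective h.cop (congrArg Subtype.val h'))
  let σ : Equiv.Perm O := Equiv.ofBijective s (Finite.injective_iff_bijective.1 hsinj)
  have hσ : σ ^ 2 ^ e = 1 := by
    apply Equiv.ext
    intro ψ
    apply Subtype.ext
    have h1 : ∀ (m : ℕ) (ψ : O), ((σ ^ m) ψ : O).1 = (pw h.cop)^[m] ψ.1 := by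
      intro m
      induction m with
      | zero => intro ψ; rfl
      | succ m ih =>
        intro ψ
        rw [pow_succ, Equiv.Perm.mul_apply, ih, Function.iterate_succ_apply]
        rfl
    rw [h1, pw_iterate_eq h.cop h.ord]
    rfl
  obtain ⟨ψ, hψ⟩ := Equiv.Perm.exists_fixed_point_of_prime (p := 2) hO hσ
  obtain ⟨⟨ψ, hψO⟩, hψ⟩ : ∃ ψ : O, σ ψ = ψ := ⟨ψ, hψ⟩
  have h1 : pw h.cop ψ = ψ := congrArg Subtype.val hψ
  exact ⟨ψ, hψO, (fixed_iff h.cop ψ).1 h1⟩

/-- A fixed `G`-invariant irreducible character of a normal subgroup of odd index extends to a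
fixed character. -/
theorem exists_ext [Fintype G] (h : Tw G k e) (N : Subgroup G) [hN : N.Normal]
    (hidx : Odd N.index) (θ : IrrCharacter N) (hθ : ∀ n : N, (θ : N → ℂ) (n ^ k) = (θ : N → ℂ) n)
    (hinv : ∀ (g : G) (n : N), (θ : N → ℂ) ⟨g * n * g⁻¹, hN.conj_mem (n : G) n.2 g⟩ = (θ : N → ℂ) n) :
    ∃ χ : IrrCharacter G, (∀ n : N, (χ : G → ℂ) n = (θ : N → ℂ) n) ∧
      ∀ g, (χ : G → ℂ) (g ^ k) = (χ : G → ℂ) g := by
  classical
  have : Fintype N := Fintype.ofFinite N
  obtain ⟨χ₀, hχ₀, h₀⟩ := Cfsg.Agent.S0888.result N (θ : N → ℂ) θ.2 hinv (by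
    intro p hp
    have : Fact p.Prime := ⟨hp⟩
    obtain ⟨Q⟩ : Nonempty (Sylow p (G ⧸ N)) := inferInstance
    let P : Subgroup G := (Q : Subgroup (G ⧸ N)).comap (QuotientGroup.mk' N)
    have hNP : N ≤ P := by
      intro n hn
      rw [Subgroup.mem_comap]
      have : QuotientGroup.mk' N n = 1 := (QuotientGroup.eq_one_iff n).2 hn
      rw [this]
      exact Subgroup.one_mem _
    have hPi : P.index = (Q : Subgroup (G ⧸ N)).index :=
      Subgroup.index_comap_of_surjective _ (QuotientGroup.mk'_surjective N)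
    have hcopr : Nat.Coprime P.index p := by
      rw [hPi]
      exact ((Nat.Prime.coprime_iff_not_dvd hp).2 Q.not_dvd_index).symm
    obtain ⟨j, hj⟩ : ∃ j, Nat.card (Q : Subgroup (G ⧸ N)) = p ^ j := Q.isPGroup'.exists_card_eq
    have hrel : N.relIndex P = p ^ j := by
      have h1 : N.relIndex P * P.index = N.index := Subgroup.relIndex_mul_index hNP
      have h2 := Subgroup.card_mul_index (Q : Subgroup (G ⧸ N))
      have h3 : Nat.card (G ⧸ N) = N.index := rfl
      rw [h3, ← h1, hPi, hj] at h2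
      exact (Nat.eq_of_mul_eq_mul_right (Nat.pos_of_ne_zero Subgroup.index_ne_zero_of_finite) h2).symm
    have hoddj : Odd (p ^ j) := by
      have h1 : N.relIndex P * P.index = N.index := Subgroup.relIndex_mul_index hNP
      rw [← h1, hrel] at hidx
      exact (Nat.odd_mul.1 hidx).1
    have hFP : Fintype P := Fintype.ofFinite P
    have hr : (Subgroup.inclusion hNP).range = N.subgroupOf P := by
      ext x
      rw [Subgroup.mem_subgroupOf]
      constructor
      · rintro ⟨n, rfl⟩; exact n.2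
      · intro hx; exact ⟨⟨x, hx⟩, rfl⟩
    obtain ⟨η, hη, -⟩ := ext_pgroup (k := k) (e := e) hp θ.2 hθ j P (Subgroup.inclusion hNP)
      (Subgroup.inclusion_injective hNP) (by rw [hr]; infer_instance) (by rw [hr]; exact hrel) hoddj
      (by
        intro g n n' hn
        have h1 : (n' : G) = g * n * (g : G)⁻¹ := congrArg (Subtype.val) hn
        have h2 : n' = ⟨(g : G) * n * (g : G)⁻¹, hN.conj_mem (n : G) n.2 g⟩ := Subtype.ext h1
        rw [h2, hinv]) (h.sub P)
    exact ⟨P, hNP, (η : P → ℂ), hcopr, ⟨j, hrel⟩, η.2, fun n => hη n⟩)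
  exact exists_fixed_ext h N hidx θ hθ hinv ⟨χ₀, hχ₀⟩ h₀

end Cfsg.Agent.H610.OddExt
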