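import Cfsg.Agent.H610.OddRegLie
import Cfsg.Agent.H610.Table3D4
import Cfsg.Agent.Schreier.ThreeD4
import Cfsg.Agent.S1067
import Cfsg.Agent.S1106

/-!
# Regular unipotent classes of `³D₄(q)`, `q` odd

`d4`: `³D₄(q)`, `q` odd, satisfies `OcSet`.
-/

set_option autoImplicit false

namespace Cfsg.Agent.H610.OddReg3D4

open Cfsg Cfsg.Lie Cfsg.Agent.H610.OddReg Cfsg.Agent.H610.OddRegLie
open Cfsg.Agent.H610.ChevRegular (Comp Reg comp_mul comp_one comp_unique comp_simple comp_root
  odd_centralizer exists_of_mem_borel)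
open Cfsg.Agent.H610.Table3D4 (inList twisted_le simple_vals)
open Cfsg.Agent.Schreier.ThreeD4 (tail_le_U drop_le_U xa_eq_zero xb_eq_zero)
open Cfsg.Agent.ChevalleyStructure.D4Fixed (fix twisted_le_fix)
open Cfsg.Agent.ChevalleyStructure
open Cfsg.Agent.ChevalleyStructure.D4Comm
open Cfsg.Agent.ChevalleyStructure.D4Pos
open Cfsg.Agent.ChevalleyStructure.D4U
open Cfsg.Agent.ChevalleyStructure.TwistedU
open Cfsg.Agent.ChevalleyStructure.D4Twisted

universe u

variable {K : Type u} [Field K] {q : ℕ} {φ : K →+* K}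

theorem xG_eq (r : ℕ) (t : K) : (xG r t : GL chevD4.Idx K) = Elts.xG inList r t :=
  Units.ext (by rw [coe_xG, Elts.coe_xG])

/-- The components of an ordered product. -/
theorem comp_lprod {i : ℕ} (hi : i < chevD4.rank) (l : List ℕ) (hl : ∀ s ∈ l, chevD4.IsPosRoot s)
    (t : ℕ → K) : Comp inList i (lprod xG l t)
      ((l.map fun s => if s = chevD4.simple i then t s else 0).sum) := by
  induction l with
  | nil => simpa [lprod_nil] using comp_one (F := K) inList i
  | cons s l ih =>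
    rw [lprod_cons, List.map_cons, List.sum_cons]
    refine comp_mul inList hi ?_ (ih fun s hs => hl s (List.mem_cons_of_mem _ hs))
    rw [xG_eq]
    by_cases h : s = chevD4.simple i
    · rw [if_pos h, h]
      exact comp_simple inList i _
    · rw [if_neg h]
      exact comp_root inList (hl s (by simp)) h _

theorem pos_ordA : ∀ s ∈ ordA, chevD4.IsPosRoot s := by
  intro s hs
  rw [isPosRoot_iff]
  simp only [ordA, List.mem_cons, List.mem_nil_iff, or_false] at hs
  omega

/-- The components of the elements of `U ∩ G¹`. -/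
theorem comp_elt (a b c d e f : K) :
    Comp inList 0 (elt φ a b c d e f) b ∧ Comp inList 1 (elt φ a b c d e f) a ∧
    Comp inList 2 (elt φ a b c d e f) (φ b) ∧ Comp inList 3 (elt φ a b c d e f) (φ (φ b)) := by
  obtain ⟨s0, s1, s2, s3⟩ := simple_vals
  have r0 : 0 < chevD4.rank := by decide
  have r1 : 1 < chevD4.rank := by decide
  have r2 : 2 < chevD4.rank := by decide
  have r3 : 3 < chevD4.rank := by decide
  refine ⟨?_, ?_, ?_, ?_⟩
  · have := comp_lprod r0 ordA pos_ordA (crd φ a b c d e f)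
    rw [s0] at this
    simpa [ordA, crd, elt] using this
  · have := comp_lprod r1 ordA pos_ordA (crd φ a b c d e f)
    rw [s1] at this
    simpa [ordA, crd, elt] using this
  · have := comp_lprod r2 ordA pos_ordA (crd φ a b c d e f)
    rw [s2] at this
    simpa [ordA, crd, elt] using this
  · have := comp_lprod r3 ordA pos_ordA (crd φ a b c d e f)
    rw [s3] at this
    simpa [ordA, crd, elt] using this

theorem reg_elt (a b c d e f : K) : Reg inList (elt φ a b c d e f) ↔ a ≠ 0 ∧ b ≠ 0 := by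
  obtain ⟨h0, h1, h2, h3⟩ := comp_elt (φ := φ) a b c d e f
  have r0 : 0 < chevD4.rank := by decide
  have r1 : 1 < chevD4.rank := by decide
  constructor
  · intro h
    obtain ⟨t, ht, ht'⟩ := h.2 0 r0
    obtain ⟨s, hs, hs'⟩ := h.2 1 r1
    rw [comp_unique inList r0 ht' h0] at ht
    rw [comp_unique inList r1 hs' h1] at hs
    exact ⟨hs, ht⟩
  · rintro ⟨ha, hb⟩
    refine ⟨elt_mem_U a b c d e f, fun i hi => ?_⟩
    have hr : chevD4.rank = 4 := rfl
    have hi4 : i = 0 ∨ i = 1 ∨ i = 2 ∨ i = 3 := by omega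
    rcases hi4 with rfl | rfl | rfl | rfl
    · exact ⟨b, hb, h0⟩
    · exact ⟨a, ha, h1⟩
    · exact ⟨φ b, (map_ne_zero φ).2 hb, h2⟩
    · exact ⟨φ (φ b), (map_ne_zero φ).2 ((map_ne_zero φ).2 hb), h3⟩

theorem elt_a_zero (b c d e f : K) : elt φ 0 b c d e f ∈ RS K ordA.tail := by
  have h1 : elt φ 0 b c d e f = xG 14 0 * lprod xG ordA.tail (crd φ 0 b c d e f) := rfl
  rw [h1, xG_zero, one_mul]
  exact lprod_mem_rspan xG (fun _ h => h) _

theorem elt_b_zero (a c d e f : K) : elt φ a 0 c d e f ∈ RS K (ordB.drop 3) := by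
  have mem : ∀ (r : ℕ) (t : K), r ∈ ordB.drop 3 → xG r t ∈ RS K (ordB.drop 3) := fun r t h =>
    mem_rspan xG (S := {k | k ∈ ordB.drop 3}) h t
  rw [elt_eq, map_zero, map_zero, xG_zero, xG_zero, xG_zero, one_mul, one_mul, mul_one]
  refine mul_mem (mul_mem (mul_mem (mul_mem (mem _ _ (by decide)) ?_) ?_) (mem _ _ (by decide)))
    (mem _ _ (by decide))
  · exact mul_mem (mul_mem (mem _ _ (by decide)) (mem _ _ (by decide))) (mem _ _ (by decide))
  · exact mul_mem (mul_mem (mem _ _ (by decide)) (mem _ _ (by decide))) (mem _ _ (by decide))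

theorem na_not_mem (hφ : ∀ x, φ x = x ^ q) : na K ∉ chevD4.borelSubgroup K := by
  intro h
  have h1 : (xG 14 (1 : K)) ∈ chevD4.borelSubgroup K := by
    have h2 : (xG 14 (1 : K)) ∈ chevD4.posUnipotent K :=
      RS14_le_U (mem_rspan xG (S := {k | k ∈ [14]}) (by simp) _)
    exact Subgroup.mem_sup_left h2
  exact one_ne_zero (xa_eq_zero (mul_mem (mul_mem (inv_mem h) h1) h))

theorem nb_not_mem (hφ : ∀ x, φ x = x ^ q) : nb K ∉ chevD4.borelSubgroup K := by
  intro h
  have h1 : D4Fixed.X φ (1 : K) ∈ chevD4.borelSubgroup K :=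
    Subgroup.mem_sup_left (RSouter_le_U (X_mem_RS _))
  exact one_ne_zero (xb_eq_zero (mul_mem (mul_mem (inv_mem h) h1) h))

theorem d4_oc [Fintype K] (hq : IsPrimePow q) (hK : Fintype.card K = q ^ 3) (hodd : Odd q) :
    OcSet (twistedD4 K q) := by
  classical
  obtain ⟨φ, hφ⟩ := D4Fixed.exists_frob hq hK
  have hle := twisted_le_fix hK hφ
  have hK3 := phi3 hK hφ
  have hfixc := card_fix_field hq.one_lt hK hφ
  have hKodd : Odd (Fintype.card K) := hK ▸ hodd.pow
  obtain ⟨p, m, hp, hm, rfl⟩ := (isPrimePow_nat_iff _).1 hq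
  set q := p ^ m with hqdef
  have hfp : Fact p.Prime := ⟨hp⟩
  have hp2 : p ≠ 2 := by
    rintro rfl
    rw [hqdef, Nat.odd_pow_iff hm.ne'] at hodd
    exact absurd hodd (by decide)
  have hcardU : Nat.card ((chevD4.posUnipotent K).subgroupOf (twistedD4 K q)) = q ^ 12 := by
    rw [← card_U1 hq hK, ← Subgroup.inf_subgroupOf_right]
    exact Nat.card_congr (Subgroup.subgroupOfEquivOfLe inf_le_right).toEquiv
  have hcardH : Nat.card ((chevD4.diagonalSubgroup K).subgroupOf (twistedD4 K q)) =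
      (q - 1) ^ 2 * (q ^ 2 + q + 1) := by
    rw [← Cfsg.Agent.S1106.result hq hK, ← Subgroup.inf_subgroupOf_right]
    exact Nat.card_congr (Subgroup.subgroupOfEquivOfLe inf_le_right).toEquiv
  have hUp : IsPGroup p ((chevD4.posUnipotent K).subgroupOf (twistedD4 K q)) :=
    IsPGroup.of_card (n := m * 12) (by rw [hcardU, hqdef, pow_mul])
  have hindex : ¬ p ∣ ((chevD4.posUnipotent K).subgroupOf (twistedD4 K q)).index := by
    intro h
    have h5 := Subgroup.card_mul_index ((chevD4.posUnipotent K).subgroupOf (twistedD4 K q))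
    rw [hcardU, Cfsg.Agent.S1067.result hq hK, mul_assoc, mul_assoc] at h5
    have hq0 : 0 < q := hq.pos
    have h6 := Nat.eq_of_mul_eq_mul_left (by positivity) h5
    have hpq : p ∣ q := dvd_pow_self p hm.ne'
    rw [h6, hp.dvd_mul, hp.dvd_mul] at h
    rcases h with h | h | h
    · exact not_dvd_pow_sub_one hp hpq hq0 (by norm_num) h
    · exact not_dvd_pow_sub_one hp hpq hq0 (by norm_num) h
    · have h7 : p ∣ q ^ 8 + q ^ 4 := dvd_add (dvd_pow hpq (by norm_num)) (dvd_pow hpq (by norm_num))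
      exact hp.one_lt.ne' (Nat.dvd_one.1 ((Nat.dvd_add_right h7).1 h))
  let U : Sylow p (twistedD4 K q) := hUp.toSylow hindex
  have hU : ∀ y : twistedD4 K q, y ∈ U ↔ y.1 ∈ chevD4.posUnipotent K := fun y => Iff.rfl
  have hr : 0 < chevD4.rank := by decide
  refine ocSet_of hp hp2 U (B := (chevD4.borelSubgroup K).subgroupOf (twistedD4 K q))
    (R := {y | Reg inList y.1}) ?_ ?_ ?_ ?_ ?_ ?_ ?_ (a := q ^ 4) (b := 1) hodd.pow odd_one ?_
  · intro y hy
    exact (hU y).2 hy.1
  · intro h
    obtain ⟨t, ht, h1⟩ := h.2 0 hr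
    exact ht (comp_unique inList hr h1 (comp_one inList 0))
  · intro y hy g hg
    exact mem_borel_of_conj inList hy (twisted_le q g.2) (Subgroup.mem_sup_left ((hU _).1 hg))
  · intro b hb u hu
    exact (hU _).2 (conj_mem_pos inList hb ((hU _).1 hu))
  · intro b hb y hy
    exact Reg.conj hy hb
  · intro y hy hyR
    obtain ⟨a, b, c, d, e, f, ha, he, hf, hy'⟩ := (mem_U_inf_iff hK3 hφ hle y.1).1
      ⟨(hU y).1 hy, y.2⟩
    have hyR' : ¬ Reg inList y.1 := hyR
    rw [hy', reg_elt, not_and_or, not_not, not_not] at hyR'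
    rcases hyR' with h0 | h0
    · refine ⟨⟨na K, na_mem hφ⟩, na_not_mem hφ, (hU _).2 ?_⟩
      show (na K)⁻¹ * y.1 * na K ∈ _
      rw [hy', h0]
      exact tail_le_U (na_inv_RS K (l := ordA.tail) (l' := ordA.tail) (by decide +kernel)
        (elt_a_zero b c d e f))
    · refine ⟨⟨nb K, nb_mem hφ⟩, nb_not_mem hφ, (hU _).2 ?_⟩
      show (nb K)⁻¹ * y.1 * nb K ∈ _
      rw [hy', h0]
      exact drop_le_U (nb_inv_RS K (l := ordB.drop 3) (l' := ordB.drop 3) (by decide +kernel)
        (elt_b_zero a c d e f))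
  · intro y hy
    exact odd_centralizer hKodd inList (twisted_le q) y.2 hy
  · -- the number of regular elements
    have hcardR : Nat.card ({y | Reg inList y.1} : Set (twistedD4 K q)) =
        (q - 1) * (q ^ 3 - 1) * q ^ 8 := by
      let f : ({a : K // φ a = a ∧ a ≠ 0} × {a : K // φ a = a} × {a : K // φ a = a}) ×
          ({b : K // b ≠ 0} × K × K) → ({y | Reg inList y.1} : Set (twistedD4 K q)) := fun x =>
        ⟨⟨elt φ x.1.1 x.2.1 x.2.2.1 x.2.2.2 x.1.2.1 x.1.2.2,
          ((mem_U_inf_iff hK3 hφ hle _).2 ⟨_, _, _, _, _, _, x.1.1.2.1, x.1.2.1.2, x.1.2.2.2,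
            rfl⟩).2⟩, (reg_elt _ _ _ _ _ _).2 ⟨x.1.1.2.2, x.2.1.2⟩⟩
      have hf : Function.Bijective f := by
        constructor
        · rintro ⟨⟨a, e, f⟩, b, c, d⟩ ⟨⟨a', e', f'⟩, b', c', d'⟩ h
          obtain ⟨h1, h2, h3, h4, h5, h6⟩ := elt_inj (congrArg (fun y => y.1.1) h)
          simp only at h1 h2 h3 h4 h5 h6
          rw [Subtype.ext h1, Subtype.ext h5, Subtype.ext h6, Subtype.ext h2, h3, h4]
        · rintro ⟨y, hy⟩
          obtain ⟨a, b, c, d, e, f, ha, he, hf, hy'⟩ := (mem_U_inf_iff hK3 hφ hle y.1).1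
            ⟨hy.1, y.2⟩
          have hy2 : Reg inList y.1 := hy
          rw [hy', reg_elt] at hy2
          refine ⟨((⟨a, ha, hy2.1⟩, ⟨e, he⟩, ⟨f, hf⟩), ⟨b, hy2.2⟩, c, d), ?_⟩
          exact Subtype.ext (Subtype.ext hy'.symm)
      rw [← Nat.card_congr (Equiv.ofBijective f hf)]
      have c1 : Nat.card {a : K // φ a = a ∧ a ≠ 0} = q - 1 := by
        have h1 : Nat.card {a : K // φ a = a} = Nat.card {a : K // φ a = a ∧ a ≠ 0} + 1 := by
          let g : {a : K // φ a = a} ≃ Option {a : K // φ a = a ∧ a ≠ 0} :=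
            { toFun := fun a => if h : (a : K) = 0 then none else some ⟨a, a.2, h⟩
              invFun := fun o => match o with
                | none => ⟨0, map_zero φ⟩
                | some b => ⟨b.1, b.2.1⟩
              left_inv := by
                rintro ⟨a, ha⟩
                by_cases h : a = 0
                · subst h; simp
                · simp [h]
              right_inv := by
                rintro (_ | ⟨b, hb⟩)
                · simp
                · simp [hb.2] }
          rw [Nat.card_congr g, Finite.card_option]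
        rw [hfixc] at h1
        omega
      have c2 : Nat.card {b : K // b ≠ 0} = q ^ 3 - 1 := by
        rw [← hK, ← Nat.card_eq_fintype_card, ← Nat.card_units]
        exact Nat.card_congr unitsEquivNeZero.symm
      simp only [Nat.card_prod]
      rw [c1, c2, hfixc, Nat.card_eq_fintype_card, hK]
      ring
    -- the order of the Borel subgroup
    have hcardB : Nat.card ((chevD4.borelSubgroup K).subgroupOf (twistedD4 K q)) =
        q ^ 12 * ((q - 1) ^ 2 * (q ^ 2 + q + 1)) := by
      rw [← hcardU, ← hcardH, ← Nat.card_prod]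
      let f : ((chevD4.posUnipotent K).subgroupOf (twistedD4 K q)) ×
          ((chevD4.diagonalSubgroup K).subgroupOf (twistedD4 K q)) →
          ((chevD4.borelSubgroup K).subgroupOf (twistedD4 K q)) := fun x =>
        ⟨x.1.1 * x.2.1, mul_mem (Subgroup.mem_sup_left (show x.1.1.1 ∈ _ from x.1.2))
          (Subgroup.mem_sup_right (show x.2.1.1 ∈ _ from x.2.2))⟩
      refine (Nat.card_congr (Equiv.ofBijective f ⟨?_, ?_⟩)).symm
      · rintro ⟨⟨u, hu⟩, ⟨h, hh⟩⟩ ⟨⟨u', hu'⟩, ⟨h', hh'⟩⟩ e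
        have e1 : u * h = u' * h' := congrArg Subtype.val e
        have e2 : u'⁻¹ * u = h' * h⁻¹ := by
          rw [inv_mul_eq_iff_eq_mul, ← mul_assoc, ← e1, mul_inv_cancel_right]
        have e3 : (u'⁻¹ * u).1 ∈ chevD4.posUnipotent K ⊓ chevD4.diagonalSubgroup K := by
          refine Subgroup.mem_inf.2 ⟨mul_mem (inv_mem hu') hu, ?_⟩
          rw [e2]
          exact mul_mem hh' (inv_mem hh)
        rw [(Cfsg.Agent.S1036.result (F := K) chevD4 inList).2, Subgroup.mem_bot] at e3
        have e4 : u = u' := (inv_mul_eq_one.1 (Subtype.ext e3)).symm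
        subst e4
        have e5 : h = h' := mul_left_cancel e1
        subst e5
        rfl
      · rintro ⟨b, hb⟩
        obtain ⟨u, hu, huG, h, hh, hhG, e⟩ :=
          ((tdata hφ hle).mem_B_iff (b : GL chevD4.Idx K) b.2).1 hb
        exact ⟨⟨⟨⟨u, huG⟩, hu⟩, ⟨⟨h, hhG⟩, hh⟩⟩, Subtype.ext (Subtype.ext e.symm)⟩
    rw [hcardR, hcardB]
    have hq1 : q ^ 3 - 1 = (q - 1) * (q ^ 2 + q + 1) := by
      obtain ⟨k, hk⟩ : ∃ k, q = k + 1 := ⟨q - 1, (Nat.sub_add_cancel hq.one_lt.le).symm⟩
      rw [hk, Nat.add_sub_cancel]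
      apply Nat.sub_eq_of_eq_add
      ring
    rw [hq1]
    ring

/-- `³D₄(q)`, `q` odd. -/
theorem d4 {G : Type*} [Group G] [Fintype K] (hK : Fintype.card K = q ^ 3) (hodd : Odd q)
    (e : G ≃* twistedD4 K q) : OcSet G := by
  have hq : IsPrimePow q := by
    have h1 := Fintype.isPrimePow_card_of_field (α := K)
    rw [hK] at h1
    exact (isPrimePow_pow_iff (by norm_num)).1 h1
  exact (d4_oc hq hK hodd).of_equiv e.symm

end Cfsg.Agent.H610.OddReg3D4
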