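import Cfsg.Agent.H610.OddReg
import Cfsg.Agent.H610.ChevRegular
import Cfsg.Agent.S1035
import Cfsg.Agent.S1059

/-!
# Regular unipotent classes of the Chevalley groups

`ocSet_chev`: for `q` odd, `D.group F` satisfies `OcSet` if `d |H| = (q - 1)^r` with `d` odd: the
elements contained in exactly one Sylow `p`-subgroup are the regular unipotent elements, and their
number is `d |G| / q^r`.
-/

set_option autoImplicit false

namespace Cfsg.Agent.H610.OddRegLie

open Cfsg Cfsg.Lie Cfsg.Agent.ChevalleyStructure.Elts Cfsg.Agent.ChevalleyStructure.RootVec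
  Cfsg.Agent.ChevalleyStructure.RootVecTab Cfsg.Agent.H610.ChevRegular Cfsg.Agent.H610.OddReg

universe u

variable {F : Type u} [Field F] {D : ChevalleyDatum}

/-- Conjugators of a regular unipotent element into `B` lie in `B`. -/
theorem mem_borel_of_conj (hD : InList D) {y : GL D.Idx F} (hy : Reg hD y) {g : GL D.Idx F}
    (hg : g ∈ D.group F) (hgy : g⁻¹ * y * g ∈ D.borelSubgroup F) : g ∈ D.borelSubgroup F := by
  obtain ⟨P, hPB, hPN, hPS⟩ := Cfsg.Agent.S1042.result (F := F) D hD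
  have hyG : y ∈ D.group F := posUnipotent_le_group hD F hy.1
  have hyB : (⟨y, hyG⟩ : D.group F) ∈ P.B := by
    rw [hPB, Subgroup.mem_subgroupOf]
    exact Subgroup.mem_sup_left hy.1
  by_contra hgB
  have hgB' : (⟨g, hg⟩ : D.group F) ∉ P.B := by
    rw [hPB, Subgroup.mem_subgroupOf]
    exact hgB
  have hgy' : (⟨g, hg⟩ : D.group F)⁻¹ * ⟨y, hyG⟩ * ⟨g, hg⟩ ∈ P.B := by
    rw [hPB, Subgroup.mem_subgroupOf]
    exact hgy
  obtain ⟨s, hs, b, hb, h2⟩ := RegularBN.exists_adjacent hyB hgy' hgB'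
  rw [hPS] at hs
  obtain ⟨i, hi, hs⟩ := hs
  have hs' : (s : GL D.Idx F) = nG hD (D.simple i) 1 := (eq_nG_iff hD _ _ _).2 hs
  rw [hPB, Subgroup.mem_subgroupOf] at hb h2
  have h3 := (hy.conj (inv_mem hb)).2 i hi
  rw [inv_inv] at h3
  obtain ⟨t, ht, h4⟩ := h3
  apply ht
  refine comp_eq_zero_of_conj_mem hD hi h4 ?_
  rw [← hs']
  exact h2

theorem conj_mem_pos (hD : InList D) {b u : GL D.Idx F} (hb : b ∈ D.borelSubgroup F)
    (hu : u ∈ D.posUnipotent F) : b * u * b⁻¹ ∈ D.posUnipotent F := by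
  obtain ⟨v, hv, h, hh, rfl⟩ := exists_of_mem_borel hD hb
  have h1 : v * h * u * (v * h)⁻¹ = v * (h * u * h⁻¹) * v⁻¹ := by group
  rw [h1]
  have h2 := (Cfsg.Agent.S1036.result (F := F) D hD).1 hh
  exact mul_mem (mul_mem hv ((Subgroup.mem_normalizer_iff.1 h2 u).1 hu)) (inv_mem hv)

/-- An element of `U` which is not regular. -/
theorem exists_comp_zero (hD : InList D) {u : GL D.Idx F} (hu : u ∈ D.posUnipotent F)
    (hr : ¬ Reg hD u) : ∃ i < D.rank, u ∈ Ui D F i := by
  by_contra hcon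
  push Not at hcon
  apply hr
  refine ⟨hu, fun i hi => ?_⟩
  obtain ⟨t, ht⟩ := exists_comp hD hi hu
  refine ⟨t, ?_, ht⟩
  rintro rfl
  apply hcon i hi
  unfold Comp at ht
  rwa [xG_zero, inv_one, mul_one] at ht

theorem nG_not_mem (hD : InList D) {i : ℕ} (hi : i < D.rank) :
    nG hD (D.simple i) (1 : F) ∉ D.borelSubgroup F := by
  intro h
  have h1 : xG hD (D.simple i) (1 : F) ∈ D.borelSubgroup F :=
    Subgroup.mem_sup_left (xG_mem_posUnipotent hD (simple_pos (checked hD) hi) _)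
  exact one_ne_zero (eq_zero_of_conj_mem hD hi (mul_mem (mul_mem (inv_mem h) h1) h))

/-! ### Counting -/

/-- The elements of `U` all of whose components vanish. -/
def KK (hD : InList D) : Subgroup (GL D.Idx F) where
  carrier := {u | u ∈ D.posUnipotent F ∧ ∀ i < D.rank, Comp hD i u 0}
  mul_mem' := by
    rintro a b ⟨ha, ha'⟩ ⟨hb, hb'⟩
    refine ⟨mul_mem ha hb, fun i hi => ?_⟩
    have := comp_mul hD hi (ha' i hi) (hb' i hi)
    rwa [add_zero] at this
  one_mem' := ⟨one_mem _, fun i _ => comp_one hD i⟩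
  inv_mem' := by
    rintro a ⟨ha, ha'⟩
    refine ⟨inv_mem ha, fun i hi => ?_⟩
    have := comp_inv hD hi (ha' i hi)
    rwa [neg_zero] at this

theorem exists_section (hD : InList D) (c : ℕ → F) :
    ∀ n ≤ D.rank, ∃ u ∈ D.posUnipotent F, ∀ i < D.rank, Comp hD i u (if i < n then c i else 0)
  | 0, _ => ⟨1, one_mem _, fun i _ => by simpa using comp_one hD i⟩
  | n + 1, hn => by
    obtain ⟨u, hu, h⟩ := exists_section hD c n (by omega)
    refine ⟨u * xG hD (D.simple n) (c n), mul_mem hu (xG_mem_posUnipotent hD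
      (simple_pos (checked hD) (by omega)) _), fun i hi => ?_⟩
    by_cases hin : i = n
    · subst hin
      have h1 := comp_mul hD hi (h i hi) (comp_simple hD i (c i))
      simpa using h1
    · have h1 := comp_mul hD hi (h i hi) (comp_simple_ne hD hi (by omega : n < D.rank)
        (fun h => hin h.symm) (c n))
      rw [add_zero] at h1
      have h2 : (if i < n + 1 then c i else 0) = if i < n then c i else 0 := by
        by_cases h3 : i < n
        · rw [if_pos h3, if_pos (by omega)]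
        · rw [if_neg h3, if_neg (by omega)]
      rw [h2]
      exact h1

theorem exists_sec (hD : InList D) (c : Fin D.rank → F) :
    ∃ u ∈ D.posUnipotent F, ∀ i : Fin D.rank, Comp hD i u (c i) := by
  obtain ⟨u, hu, h⟩ := exists_section hD (fun i => if h : i < D.rank then c ⟨i, h⟩ else 0) D.rank
    le_rfl
  refine ⟨u, hu, fun i => ?_⟩
  have := h i.1 i.2
  rwa [if_pos i.2, dif_pos i.2] at this

/-- Elements of `U` with components in a given set. -/
theorem card_comp (hD : InList D) (A : Set (Fin D.rank → F)) :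
    Nat.card {u : GL D.Idx F // u ∈ D.posUnipotent F ∧
      ∃ c ∈ A, ∀ i : Fin D.rank, Comp hD i u (c i)} =
      Nat.card A * Nat.card (KK (F := F) hD) := by
  choose s hs hsc using exists_sec (F := F) hD
  rw [← Nat.card_prod]
  let f : A × KK (F := F) hD → {u : GL D.Idx F // u ∈ D.posUnipotent F ∧
      ∃ c ∈ A, ∀ i : Fin D.rank, Comp hD i u (c i)} := fun x =>
    ⟨s x.1 * x.2, mul_mem (hs _) x.2.2.1, x.1, x.1.2, fun i => by
      have := comp_mul hD i.2 (hsc x.1 i) (x.2.2.2 i i.2)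
      rwa [add_zero] at this⟩
  refine (Nat.card_congr (Equiv.ofBijective f ⟨?_, ?_⟩)).symm
  · rintro ⟨⟨c, hc⟩, ⟨k, hk⟩⟩ ⟨⟨c', hc'⟩, ⟨k', hk'⟩⟩ h
    have e : s c * k = s c' * k' := congrArg Subtype.val h
    have e1 : c = c' := by
      funext i
      have h1 := comp_mul hD i.2 (hsc c i) (hk.2 i i.2)
      have h2 := comp_mul hD i.2 (hsc c' i) (hk'.2 i i.2)
      rw [e] at h1
      have := comp_unique hD i.2 h1 h2
      simpa using this
    subst e1
    have e2 : k = k' := mul_left_cancel e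
    subst e2
    rfl
  · rintro ⟨u, hu, c, hc, huc⟩
    refine ⟨⟨⟨c, hc⟩, ⟨(s c)⁻¹ * u, mul_mem (inv_mem (hs c)) hu, fun i hi => ?_⟩⟩, ?_⟩
    · have := comp_mul hD hi (comp_inv hD hi (hsc c ⟨i, hi⟩)) (huc ⟨i, hi⟩)
      rwa [neg_add_cancel] at this
    · apply Subtype.ext
      show s c * ((s c)⁻¹ * u) = u
      group

theorem card_pos [Finite F] (hD : InList D) :
    Nat.card (D.posUnipotent F) = Nat.card F ^ D.rank * Nat.card (KK (F := F) hD) := by
  have h1 := card_comp (F := F) hD Set.univ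
  have h2 : Nat.card (Set.univ : Set (Fin D.rank → F)) = Nat.card F ^ D.rank := by
    rw [Nat.card_congr (Equiv.Set.univ _), Nat.card_fun, Nat.card_fin]
  rw [h2] at h1
  rw [← h1]
  refine Nat.card_congr (Equiv.subtypeEquivRight fun u => ?_)
  constructor
  · intro hu
    refine ⟨hu, ?_⟩
    choose c hc using fun i : Fin D.rank => exists_comp hD i.2 hu
    exact ⟨c, Set.mem_univ _, hc⟩
  · exact fun h => h.1

theorem card_reg [Finite F] (hD : InList D) :
    Nat.card {u : GL D.Idx F // Reg hD u} =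
      (Nat.card F - 1) ^ D.rank * Nat.card (KK (F := F) hD) := by
  classical
  have h1 := card_comp (F := F) hD {c | ∀ i, c i ≠ 0}
  have h2 : Nat.card {c : Fin D.rank → F | ∀ i, c i ≠ 0} = (Nat.card F - 1) ^ D.rank := by
    have e : {c : Fin D.rank → F | ∀ i, c i ≠ 0} ≃ (Fin D.rank → Fˣ) :=
      { toFun := fun c i => Units.mk0 (c.1 i) (c.2 i)
        invFun := fun c => ⟨fun i => (c i : F), fun i => (c i).ne_zero⟩
        left_inv := fun c => rfl
        right_inv := fun c => by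
          funext i
          exact Units.ext rfl }
    rw [Nat.card_congr e, Nat.card_fun, Nat.card_fin, Nat.card_units]
  rw [h2] at h1
  rw [← h1]
  refine Nat.card_congr (Equiv.subtypeEquivRight fun u => ?_)
  constructor
  · rintro ⟨hu, h⟩
    refine ⟨hu, ?_⟩
    choose c hc0 hc using fun i : Fin D.rank => h i.1 i.2
    exact ⟨c, hc0, hc⟩
  · rintro ⟨hu, c, hc, h⟩
    exact ⟨hu, fun i hi => ⟨c ⟨i, hi⟩, hc _, h ⟨i, hi⟩⟩⟩

theorem card_borel [Finite F] (hD : InList D) :
    Nat.card (D.borelSubgroup F) =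
      Nat.card (D.posUnipotent F) * Nat.card (D.diagonalSubgroup F) := by
  rw [← Nat.card_prod]
  let f : D.posUnipotent F × D.diagonalSubgroup F → D.borelSubgroup F := fun x =>
    ⟨x.1 * x.2, mul_mem (Subgroup.mem_sup_left x.1.2) (Subgroup.mem_sup_right x.2.2)⟩
  refine (Nat.card_congr (Equiv.ofBijective f ⟨?_, ?_⟩)).symm
  · rintro ⟨⟨u, hu⟩, ⟨h, hh⟩⟩ ⟨⟨u', hu'⟩, ⟨h', hh'⟩⟩ e
    have e1 : u * h = u' * h' := congrArg Subtype.val e
    have e2 : u'⁻¹ * u = h' * h⁻¹ := by
      rw [inv_mul_eq_iff_eq_mul, ← mul_assoc, ← e1, mul_inv_cancel_right]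
    have e3 : u'⁻¹ * u ∈ D.posUnipotent F ⊓ D.diagonalSubgroup F :=
      Subgroup.mem_inf.2 ⟨mul_mem (inv_mem hu') hu, by rw [e2]; exact mul_mem hh' (inv_mem hh)⟩
    rw [(Cfsg.Agent.S1036.result (F := F) D hD).2, Subgroup.mem_bot] at e3
    have e4 : u = u' := (inv_mul_eq_one.1 e3).symm
    subst e4
    have e5 : h = h' := mul_left_cancel e1
    subst e5
    rfl
  · rintro ⟨b, hb⟩
    obtain ⟨u, hu, h, hh, rfl⟩ := exists_of_mem_borel hD hb
    exact ⟨⟨⟨u, hu⟩, ⟨h, hh⟩⟩, rfl⟩

/-- **Regular unipotent classes of the Chevalley groups**, `q` odd. -/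
theorem ocSet_chev [Fintype F] (hF : Odd (Fintype.card F)) (hD : InList D) (hr : 0 < D.rank)
    {d : ℕ} (hd : Odd d)
    (hH : d * Nat.card (D.diagonalSubgroup F) = (Fintype.card F - 1) ^ D.rank)
    (hS : ∀ p : ℕ, p.Prime → p ∣ Fintype.card F →
      ¬ p ∣ ((D.posUnipotent F).subgroupOf (D.group F)).index) : OcSet (D.group F) := by
  classical
  obtain ⟨p, hpc⟩ := CharP.exists F
  obtain ⟨⟨m, hm⟩, hp, hcard⟩ := FiniteField.card F p
  simp only [PNat.mk_coe] at hcard
  have hfp : Fact p.Prime := ⟨hp⟩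
  have hp2 : p ≠ 2 := by
    rintro rfl
    rw [hcard, Nat.odd_pow_iff hm.ne'] at hF
    exact absurd hF (by decide)
  have hcardU : Nat.card (D.posUnipotent F) = Fintype.card F ^ (D.nroots / 2) :=
    Cfsg.Agent.S1027.result D hD
  have hUp : IsPGroup p ((D.posUnipotent F).subgroupOf (D.group F)) := by
    have h1 : IsPGroup p (D.posUnipotent F) :=
      IsPGroup.of_card (n := m * (D.nroots / 2)) (by rw [hcardU, hcard, pow_mul])
    exact h1.of_injective (Subgroup.subgroupOfEquivOfLe (posUnipotent_le_group hD F)).toMonoidHom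
      (Subgroup.subgroupOfEquivOfLe (posUnipotent_le_group hD F)).injective
  have hpd : p ∣ Fintype.card F := by rw [hcard]; exact dvd_pow_self p hm.ne'
  let U : Sylow p (D.group F) := hUp.toSylow (hS p hp hpd)
  have hU : ∀ y : D.group F, y ∈ U ↔ y.1 ∈ D.posUnipotent F := fun y => Iff.rfl
  refine ocSet_of hp hp2 U (B := (D.borelSubgroup F).subgroupOf (D.group F))
    (R := {y | Reg hD y.1}) ?_ ?_ ?_ ?_ ?_ ?_ ?_ (a := Fintype.card F ^ D.rank) (b := d) hF.pow hd ?_
  · intro y hy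
    exact (hU y).2 hy.1
  · intro h
    obtain ⟨t, ht, h1⟩ := h.2 0 hr
    exact ht (comp_unique hD hr h1 (comp_one hD 0))
  · intro y hy g hg
    exact mem_borel_of_conj hD hy g.2 (Subgroup.mem_sup_left ((hU _).1 hg))
  · intro b hb u hu
    exact (hU _).2 (conj_mem_pos hD hb ((hU _).1 hu))
  · intro b hb y hy
    exact Reg.conj hy hb
  · intro y hy hyR
    obtain ⟨i, hi, h1⟩ := exists_comp_zero hD ((hU y).1 hy) hyR
    have hnG : nG hD (D.simple i) (1 : F) ∈ D.group F := nG_mem_group hD _ _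
    refine ⟨⟨nG hD (D.simple i) (1 : F), hnG⟩, ?_, (hU _).2 (Ui_le D F i ?_)⟩
    · exact nG_not_mem hD hi
    · have h2 := conj_mem_Ui hD hi (inv_mem (nG_mem (F := F) hD i)) h1
      rwa [inv_inv] at h2
  · intro y hy
    exact odd_centralizer hF hD le_rfl y.2 hy
  · have h1 : Nat.card ({y | Reg hD y.1} : Set (D.group F)) =
        Nat.card {u : GL D.Idx F // Reg hD u} := by
      refine Nat.card_congr ⟨fun y => ⟨y.1.1, y.2⟩, fun u => ⟨⟨u.1, posUnipotent_le_group hD F
        u.2.1⟩, u.2⟩, fun y => rfl, fun u => rfl⟩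
    have h2 : Nat.card ((D.borelSubgroup F).subgroupOf (D.group F)) =
        Nat.card (D.borelSubgroup F) :=
      Nat.card_congr (Subgroup.subgroupOfEquivOfLe (borel_le_group hD)).toEquiv
    rw [h1, h2, card_borel hD, card_reg hD, card_pos hD, Nat.card_eq_fintype_card, ← hH]
    ring

theorem not_dvd_pow_sub_one {p q n : ℕ} (hp : p.Prime) (hpq : p ∣ q) (hq : 0 < q) (hn : n ≠ 0) :
    ¬ p ∣ q ^ n - 1 := by
  intro h
  have h1 : p ∣ q ^ n := dvd_pow hpq hn
  have h2 : 1 ≤ q ^ n := Nat.one_le_pow _ _ hq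
  have h3 : p ∣ 1 := by
    have := Nat.dvd_sub h1 h
    rwa [Nat.sub_sub_self h2] at this
  exact hp.one_lt.ne' (Nat.dvd_one.1 h3)

/-- `G₂(q)`, `q` odd. -/
theorem g2_oc [Fintype F] (hF : Odd (Fintype.card F)) : OcSet (chevG2.group F) := by
  have hD : InList chevG2 := by simp
  have h1 := Cfsg.Agent.S1035.result (F := F) rfl (chevG2, 1) (by simp)
  refine ocSet_chev hF hD (by decide) odd_one h1 ?_
  intro p hp hpd hdvd
  have h2 := Cfsg.Agent.S1059.result (F := F) rfl
  have h3 := Cfsg.Agent.S1027.result (F := F) chevG2 hD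
  have h4 : chevG2.nroots / 2 = 6 := by decide
  rw [h4, ← Nat.card_congr (Subgroup.subgroupOfEquivOfLe (posUnipotent_le_group hD F)).toEquiv]
    at h3
  have h5 := Subgroup.card_mul_index ((chevG2.posUnipotent F).subgroupOf (chevG2.group F))
  have hq : 0 < Fintype.card F := Fintype.card_pos
  rw [h3, h2, mul_assoc] at h5
  have h6 := Nat.eq_of_mul_eq_mul_left (by positivity) h5
  rw [h6, hp.dvd_mul] at hdvd
  rcases hdvd with h | h
  · exact not_dvd_pow_sub_one hp hpd hq (by norm_num) h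
  · exact not_dvd_pow_sub_one hp hpd hq (by norm_num) h

theorem g2 {G : Type*} [Group G] [Fintype F] (hF : Odd (Fintype.card F))
    (e : G ≃* chevG2.group F) : OcSet G :=
  (g2_oc hF).of_equiv e.symm

end Cfsg.Agent.H610.OddRegLie
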