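import Mathlib

/-!
# Regular unipotent matrices of degree three

Two nilpotent matrices with nonzero square are conjugate (under isometries, in the unitary case);
matrices of square zero commute with involutions.
-/

set_option autoImplicit false

namespace Cfsg.Agent.H610.OddMat

open Matrix Polynomial

variable {F : Type*} [Field F]

theorem cube_eq_zero {A : Matrix (Fin 3) (Fin 3) F} (h : IsNilpotent A) : A ^ 3 = 0 := by
  have h1 := Matrix.isNilpotent_charpoly_sub_pow_of_isNilpotent h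
  have h2 : A.charpoly - X ^ (Fintype.card (Fin 3)) = 0 := h1.eq_zero
  have h3 := Matrix.aeval_self_charpoly A
  rw [sub_eq_zero.1 h2, Fintype.card_fin, map_pow, aeval_X] at h3
  exact h3

theorem dot3 (v w : Fin 3 → F) : v ⬝ᵥ w = v 0 * w 0 + v 1 * w 1 + v 2 * w 2 := by
  simp [dotProduct, Fin.sum_univ_three]

theorem mv3 (A : Matrix (Fin 3) (Fin 3) F) (v : Fin 3 → F) (i : Fin 3) :
    (A *ᵥ v) i = A i 0 * v 0 + A i 1 * v 1 + A i 2 * v 2 := by
  simp [Matrix.mulVec, dotProduct, Fin.sum_univ_three]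

/-- For `n² = 0` the kernel is not contained in the image. -/
theorem exists_pair {n : Matrix (Fin 3) (Fin 3) F} (hn : n ^ 2 = 0) :
    ∃ z φ : Fin 3 → F, n *ᵥ z = 0 ∧ φ ᵥ* n = 0 ∧ φ ⬝ᵥ z = 1 := by
  classical
  set f : (Fin 3 → F) →ₗ[F] (Fin 3 → F) := n.mulVecLin with hf
  have h1 : LinearMap.range f ≤ LinearMap.ker f := by
    rintro _ ⟨x, rfl⟩
    rw [LinearMap.mem_ker, hf, mulVecLin_apply, mulVecLin_apply, mulVec_mulVec, ← pow_two, hn,
      zero_mulVec]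
  have h2 := LinearMap.finrank_range_add_finrank_ker f
  rw [Module.finrank_fin_fun] at h2
  obtain ⟨z, hz, hz'⟩ : ∃ z ∈ LinearMap.ker f, z ∉ LinearMap.range f := by
    by_contra hcon
    push Not at hcon
    have h3 : LinearMap.ker f = LinearMap.range f := le_antisymm hcon h1
    rw [h3] at h2
    omega
  obtain ⟨g, hg, hgr⟩ := Submodule.exists_le_ker_of_notMem hz'
  have hgd : ∀ w, (fun i => g (Pi.single i 1)) ⬝ᵥ w = g w := by
    intro w
    have h4 : w = ∑ i, w i • (Pi.single i 1 : Fin 3 → F) := by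
      ext j
      simp [Finset.sum_apply, Pi.single_apply]
    conv_rhs => rw [h4]
    rw [map_sum, dotProduct]
    refine Finset.sum_congr rfl fun i _ => ?_
    rw [map_smul, smul_eq_mul, mul_comm]
  refine ⟨z, fun i => (g z)⁻¹ * g (Pi.single i 1), ?_, ?_, ?_⟩
  · exact hz
  · have h5 : (fun i => (g z)⁻¹ * g (Pi.single i 1)) = (g z)⁻¹ • fun i => g (Pi.single i 1) := rfl
    rw [h5, smul_vecMul]
    have h6 : (fun i => g (Pi.single i 1)) ᵥ* n = 0 := by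
      ext j
      have h7 : ((fun i => g (Pi.single i 1)) ᵥ* n) j =
          (fun i => g (Pi.single i 1)) ⬝ᵥ (n *ᵥ Pi.single j 1) := by
        rw [mulVec_single_one]
        rfl
      rw [h7, hgd]
      exact hgr ⟨Pi.single j 1, rfl⟩
    rw [h6, smul_zero]
  · have h5 : (fun i => (g z)⁻¹ * g (Pi.single i 1)) = (g z)⁻¹ • fun i => g (Pi.single i 1) := rfl
    rw [h5, smul_dotProduct, hgd, smul_eq_mul, inv_mul_cancel₀ hg]

/-- The involution with eigenvector `z` (eigenvalue `1`) and `-1` on the kernel of `φ`. -/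
def invo (z φ : Fin 3 → F) : Matrix (Fin 3) (Fin 3) F := (2 : F) • vecMulVec z φ - 1

theorem invo_apply (z φ : Fin 3 → F) (i j : Fin 3) :
    invo z φ i j = 2 * (z i * φ j) - (1 : Matrix (Fin 3) (Fin 3) F) i j := rfl

section Invo

variable {z φ : Fin 3 → F} (h : φ ⬝ᵥ z = 1)

include h in
theorem invo_mul_self : invo z φ * invo z φ = 1 := by
  have h1 : vecMulVec z φ * vecMulVec z φ = vecMulVec z φ := by
    rw [vecMulVec_mul_vecMulVec, h, one_smul]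
  rw [invo, sub_mul, mul_sub, smul_mul_assoc, mul_smul_comm, one_mul, mul_one, h1, smul_smul]
  have h2 : (2 * 2 : F) = 2 + 2 := by norm_num
  rw [h2, add_smul]
  abel

include h in
theorem invo_det : (invo z φ).det = 1 := by
  rw [dot3] at h
  rw [Matrix.det_fin_three]
  simp only [invo_apply]
  simp
  linear_combination 2 * h

include h in
theorem invo_ne_smul (h2 : (2 : F) ≠ 0) (c : F) : invo z φ ≠ c • 1 := by
  intro hc
  rw [dot3] at h
  have e : ∀ i j, 2 * (z i * φ j) - (1 : Matrix (Fin 3) (Fin 3) F) i j =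
      (c • (1 : Matrix (Fin 3) (Fin 3) F)) i j := fun i j => by rw [← hc]; rfl
  have h00 := e 0 0
  have h11 := e 1 1
  have h22 := e 2 2
  have h01 := e 0 1
  have h12 := e 1 2
  have h20 := e 2 0
  simp [h2] at h00 h11 h22 h01 h12 h20
  have k0 : z 0 * φ 0 = (c + 1) / 2 := by field_simp; linear_combination h00
  have k1 : z 1 * φ 1 = (c + 1) / 2 := by field_simp; linear_combination h11
  have k2 : z 2 * φ 2 = (c + 1) / 2 := by field_simp; linear_combination h22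
  have h3 : (c + 1) / 2 = 0 := by
    by_contra hne
    rw [← k0] at hne
    have hz0 : z 0 ≠ 0 := left_ne_zero_of_mul hne
    have hφ1 : φ 1 = 0 := h01.resolve_left hz0
    rw [hφ1, mul_zero] at k1
    rw [k0, ← k1] at hne
    exact hne rfl
  have : (1 : F) = 0 := by linear_combination -h + k0 + k1 + k2 + 3 * h3
  exact one_ne_zero this

theorem invo_comm {n : Matrix (Fin 3) (Fin 3) F} (hz : n *ᵥ z = 0) (hφ : φ ᵥ* n = 0) :
    invo z φ * n = n * invo z φ := by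
  rw [invo, sub_mul, mul_sub, smul_mul_assoc, mul_smul_comm, one_mul, mul_one, vecMulVec_mul,
    mul_vecMulVec, hz, hφ]
  simp

end Invo

/-! ### The basis `n² v, n v, v` -/

/-- The matrix with columns `n² v, n v, v`. -/
def Bas (n : Matrix (Fin 3) (Fin 3) F) (v : Fin 3 → F) : Matrix (Fin 3) (Fin 3) F :=
  Matrix.of fun i j => ![(n ^ 2 *ᵥ v) i, (n *ᵥ v) i, v i] j

theorem Bas_mulVec (n : Matrix (Fin 3) (Fin 3) F) (v w : Fin 3 → F) :
    Bas n v *ᵥ w = w 0 • (n ^ 2 *ᵥ v) + w 1 • (n *ᵥ v) + w 2 • v := by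
  ext i
  rw [mv3]
  simp [Bas]
  ring

theorem Bas_det {n : Matrix (Fin 3) (Fin 3) F} {v : Fin 3 → F} (hn : n ^ 3 = 0)
    (hv : n ^ 2 *ᵥ v ≠ 0) : (Bas n v).det ≠ 0 := by
  intro h
  obtain ⟨w, hw, hBw⟩ := Matrix.exists_mulVec_eq_zero_iff.2 h
  rw [Bas_mulVec] at hBw
  have hn4 : n ^ 4 = 0 := by rw [pow_succ, hn, zero_mul]
  have h2 : w 2 = 0 := by
    have h3 := congrArg (fun x => n ^ 2 *ᵥ x) hBw
    simp only [mulVec_add, mulVec_smul, mulVec_mulVec, mulVec_zero, ← pow_add, ← pow_succ, hn, hn4,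
      zero_mulVec, smul_zero, zero_add] at h3
    norm_num at h3
    rcases h3 with h3 | h3
    · exact h3
    · exact absurd h3 hv
  rw [h2, zero_smul, add_zero] at hBw
  have h1 : w 1 = 0 := by
    have h3 := congrArg (fun x => n *ᵥ x) hBw
    simp only [mulVec_add, mulVec_smul, mulVec_mulVec, mulVec_zero, ← pow_succ', hn,
      zero_mulVec, smul_zero, zero_add, ← pow_two] at h3
    exact (smul_eq_zero.1 h3).resolve_right hv
  rw [h1, zero_smul, add_zero] at hBw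
  have h0 : w 0 = 0 := (smul_eq_zero.1 hBw).resolve_right hv
  apply hw
  ext i
  fin_cases i
  · exact h0
  · exact h1
  · exact h2

/-- The standard nilpotent matrix. -/
def J : Matrix (Fin 3) (Fin 3) F := !![0, 1, 0; 0, 0, 1; 0, 0, 0]

theorem mul_Bas {n : Matrix (Fin 3) (Fin 3) F} (v : Fin 3 → F) (hn : n ^ 3 = 0) :
    n * Bas n v = Bas n v * J := by
  have h : ∀ w, (n * Bas n v) *ᵥ w = (Bas n v * J) *ᵥ w := by
    intro w
    rw [← mulVec_mulVec, ← mulVec_mulVec, Bas_mulVec, Bas_mulVec]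
    have h0 : (J *ᵥ w) 0 = w 1 := by rw [mv3]; simp [J]
    have h1 : (J *ᵥ w) 1 = w 2 := by rw [mv3]; simp [J]
    have h2 : (J *ᵥ w) 2 = 0 := by rw [mv3]; simp [J]
    rw [h0, h1, h2, mulVec_add, mulVec_add, mulVec_smul, mulVec_smul, mulVec_smul, mulVec_mulVec,
      mulVec_mulVec, ← pow_succ', hn, zero_mulVec, smul_zero, zero_add, zero_smul, add_zero,
      ← pow_two]
  exact Matrix.ext_of_mulVec_single fun i => h _

theorem exists_ne {n : Matrix (Fin 3) (Fin 3) F} (h : n ^ 2 ≠ 0) :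
    ∃ v : Fin 3 → F, n ^ 2 *ᵥ v ≠ 0 := by
  by_contra hcon
  push Not at hcon
  apply h
  apply Matrix.ext_of_mulVec_single
  intro i
  rw [hcon, zero_mulVec]

/-- The conjugating matrix. -/
theorem exists_conj_aux {n n' : Matrix (Fin 3) (Fin 3) F} {v v' : Fin 3 → F} (hn : n ^ 3 = 0)
    (hn' : n' ^ 3 = 0) (hv : n ^ 2 *ᵥ v ≠ 0) (hv' : n' ^ 2 *ᵥ v' ≠ 0) :
    ∃ γ : Matrix (Fin 3) (Fin 3) F, γ.det ≠ 0 ∧ γ * n = n' * γ ∧ γ * Bas n v = Bas n' v' := by
  have hd := Bas_det hn hv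
  have hd' := Bas_det hn' hv'
  have hu : IsUnit (Bas n v).det := isUnit_iff_ne_zero.2 hd
  have h1 : (Bas n v)⁻¹ * n = J * (Bas n v)⁻¹ := by
    have h2 := mul_Bas (n := n) v hn
    calc (Bas n v)⁻¹ * n = (Bas n v)⁻¹ * (n * Bas n v) * (Bas n v)⁻¹ := by
          rw [mul_assoc, mul_assoc n, Matrix.mul_nonsing_inv _ hu, mul_one]
      _ = J * (Bas n v)⁻¹ := by
          rw [h2, ← mul_assoc, Matrix.nonsing_inv_mul _ hu, one_mul]
  refine ⟨Bas n' v' * (Bas n v)⁻¹, ?_, ?_, ?_⟩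
  · rw [Matrix.det_mul, Matrix.det_nonsing_inv, Ring.inverse_eq_inv']
    exact mul_ne_zero hd' (inv_ne_zero hd)
  · rw [mul_assoc, h1, ← mul_assoc, ← mul_Bas v' hn', mul_assoc]
  · rw [mul_assoc, Matrix.nonsing_inv_mul _ hu, mul_one]

/-- The matrices commuting with a regular nilpotent matrix. -/
theorem comm_eq {n b : Matrix (Fin 3) (Fin 3) F} {v : Fin 3 → F} (hn : n ^ 3 = 0)
    (hv : n ^ 2 *ᵥ v ≠ 0) (hb : Commute b n) : ∃ a : F, (b - a • 1) ^ 3 = 0 := by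
  have hd := Bas_det hn hv
  have hu : IsUnit (Bas n v).det := isUnit_iff_ne_zero.2 hd
  set w := (Bas n v)⁻¹ *ᵥ (b *ᵥ v) with hw
  have h1 : w 0 • (n ^ 2 *ᵥ v) + w 1 • (n *ᵥ v) + w 2 • v = b *ᵥ v := by
    rw [← Bas_mulVec, hw, mulVec_mulVec, Matrix.mul_nonsing_inv _ hu, one_mulVec]
  set Q : Matrix (Fin 3) (Fin 3) F := w 0 • n ^ 2 + w 1 • n + w 2 • 1 with hQ
  have hQv : Q *ᵥ v = b *ᵥ v := by
    rw [← h1, hQ, add_mulVec, add_mulVec, smul_mulVec, smul_mulVec, smul_mulVec, one_mulVec]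
  have hQn : Commute Q n := by
    rw [hQ]
    exact (((Commute.refl n).pow_left 2).smul_left _ |>.add_left
      ((Commute.refl n).smul_left _)).add_left ((Commute.one_left n).smul_left _)
  have hbQ : b * Bas n v = Q * Bas n v := by
    refine Matrix.ext_of_mulVec_single fun i => ?_
    rw [← mulVec_mulVec, ← mulVec_mulVec, Bas_mulVec]
    simp only [mulVec_add, mulVec_smul, mulVec_mulVec]
    rw [(hb.pow_right 2).eq, hb.eq, (hQn.pow_right 2).eq, hQn.eq]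
    simp only [← mulVec_mulVec]
    rw [hQv]
  have hbQ' : b = Q := by
    have := congrArg (fun X => X * (Bas n v)⁻¹) hbQ
    simp only [mul_assoc, Matrix.mul_nonsing_inv _ hu, mul_one] at this
    exact this
  refine ⟨w 2, ?_⟩
  have h2 : b - w 2 • 1 = n * (w 0 • n + w 1 • 1) := by
    rw [hbQ', hQ, mul_add, mul_smul_comm, mul_smul_comm, mul_one, ← pow_two]
    abel
  have hc : Commute n (w 0 • n + w 1 • 1) :=
    ((Commute.refl n).smul_right _).add_right ((Commute.one_right n).smul_right _)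
  rw [h2, hc.mul_pow, hn, zero_mul]

/-! ### The unitary case -/

section Unitary

variable {σ : F →+* F} (hσ : ∀ x, σ (σ x) = x)

/-- The hermitian form. -/
def H (σ : F →+* F) (x y : Fin 3 → F) : F := x ⬝ᵥ (σ ∘ y)

theorem comp_mulVec (A : Matrix (Fin 3) (Fin 3) F) (y : Fin 3 → F) :
    σ ∘ (A *ᵥ y) = A.map σ *ᵥ (σ ∘ y) := by
  ext i
  simp [mv3]

theorem H_mulVec_left (A : Matrix (Fin 3) (Fin 3) F) (x y : Fin 3 → F) :
    H σ (A *ᵥ x) y = x ⬝ᵥ (Aᵀ *ᵥ (σ ∘ y)) := by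
  rw [H, dotProduct_comm, dotProduct_mulVec, dotProduct_comm, ← mulVec_transpose]

theorem H_mulVec_right (A : Matrix (Fin 3) (Fin 3) F) (x y : Fin 3 → F) :
    H σ x (A *ᵥ y) = x ⬝ᵥ (A.map σ *ᵥ (σ ∘ y)) := by
  rw [H, comp_mulVec]

include hσ in
theorem H_symm (x y : Fin 3 → F) : σ (H σ x y) = H σ y x := by
  simp only [H, dot3, Function.comp_apply, map_add, map_mul, hσ]
  ring

theorem H_add_left (x x' y : Fin 3 → F) : H σ (x + x') y = H σ x y + H σ x' y := by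
  simp only [H, dot3, Pi.add_apply]
  ring

theorem H_add_right (x y y' : Fin 3 → F) : H σ x (y + y') = H σ x y + H σ x y' := by
  simp only [H, dot3, Pi.add_apply, Function.comp_apply, map_add]
  ring

theorem H_smul_left (a : F) (x y : Fin 3 → F) : H σ (a • x) y = a * H σ x y := by
  simp only [H, dot3, Pi.smul_apply, smul_eq_mul]
  ring

theorem H_smul_right (a : F) (x y : Fin 3 → F) : H σ x (a • y) = σ a * H σ x y := by
  simp only [H, dot3, Pi.smul_apply, smul_eq_mul, Function.comp_apply, map_mul]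
  ring

/-- Skew matrices. -/
theorem H_skew {c : Matrix (Fin 3) (Fin 3) F} (hc : c.map σ = -cᵀ) (x y : Fin 3 → F) :
    H σ (c *ᵥ x) y = -H σ x (c *ᵥ y) := by
  rw [H_mulVec_left, H_mulVec_right, hc, neg_mulVec, dotProduct_neg, neg_neg]

/-- Polarization. -/
theorem polar (h2 : (2 : F) ≠ 0) (B : (Fin 3 → F) → (Fin 3 → F) → F)
    (hB : ∀ x y, σ (B x y) = B y x) (hl : ∀ x x' y, B (x + x') y = B x y + B x' y)
    (hr : ∀ x y y', B x (y + y') = B x y + B x y')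
    (hsl : ∀ (a : F) x y, B (a • x) y = a * B x y)
    (hsr : ∀ (a : F) x y, B x (a • y) = σ a * B x y) {x y : Fin 3 → F} (hxy : B x y ≠ 0) :
    ∃ a b : F, B (a • x + b • y) (a • x + b • y) ≠ 0 := by
  by_contra hcon
  push Not at hcon
  have e : ∀ a b : F, a * σ a * B x x + a * σ b * B x y + b * σ a * B y x +
      b * σ b * B y y = 0 := by
    intro a b
    have h1 := hcon a b
    rw [hl, hr, hr, hsl, hsl, hsl, hsl, hsr, hsr, hsr, hsr] at h1
    linear_combination h1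
  have e1 := e 1 0
  have e2 := e 0 1
  have e3 := e 1 (B x y)
  simp only [map_one, map_zero, mul_one, one_mul, mul_zero, zero_mul, add_zero, zero_add] at e1 e2 e3
  rw [e1, e2, mul_zero, add_zero, zero_add, hB, ] at e3
  have h3 : B y x ≠ 0 := by
    rw [← hB]
    exact (map_ne_zero σ).2 hxy
  have h4 : 2 * (B y x * B x y) = 0 := by linear_combination e3
  exact mul_ne_zero h2 (mul_ne_zero h3 hxy) h4

include hσ in
/-- A vector with standard Gram matrix. -/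
theorem exists_good (h2 : (2 : F) ≠ 0) (hN : ∀ a, σ a = a → ∃ x, x * σ x = a)
    {c : Matrix (Fin 3) (Fin 3) F} (hc : c.map σ = -cᵀ) (hc3 : c ^ 3 = 0) (hc2 : c ^ 2 ≠ 0) :
    ∃ v, H σ (c ^ 2 *ᵥ v) v = 1 ∧ H σ (c *ᵥ v) v = 0 ∧ H σ v v = 0 := by
  have hskew := fun x y => H_skew hc x y
  have hσ2 : σ 2 = 2 := map_ofNat σ 2
  have hσh : σ (1 / 2) = 1 / 2 := by rw [map_div₀, map_one, hσ2]
  have hsq : ∀ x y, H σ (c ^ 2 *ᵥ x) y = H σ x (c ^ 2 *ᵥ y) := by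
    intro x y
    rw [pow_two, ← mulVec_mulVec, ← mulVec_mulVec, hskew, hskew, neg_neg]
  have hc0 : ∀ x, c *ᵥ (c ^ 2 *ᵥ x) = 0 := fun x => by
    rw [mulVec_mulVec, ← pow_succ', hc3, zero_mulVec]
  have hc0' : ∀ x, c ^ 2 *ᵥ (c *ᵥ x) = 0 := fun x => by
    rw [mulVec_mulVec, ← pow_succ, hc3, zero_mulVec]
  have hc00 : ∀ x, c ^ 2 *ᵥ (c ^ 2 *ᵥ x) = 0 := fun x => by
    rw [mulVec_mulVec, ← pow_add, show 2 + 2 = 3 + 1 by rfl, pow_add, hc3, zero_mul, zero_mulVec]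
  have hcc : ∀ x, c *ᵥ (c *ᵥ x) = c ^ 2 *ᵥ x := fun x => by rw [mulVec_mulVec, ← pow_two]
  have hzl : ∀ y, H σ 0 y = 0 := fun y => by simp [H]
  have hzr : ∀ y, H σ y 0 = 0 := fun y => by
    have : H σ y ((0 : F) • 0) = 0 := by rw [H_smul_right, map_zero, zero_mul]
    rwa [smul_zero] at this
  -- a vector `v₀` with `H (c² v₀) v₀ ≠ 0`
  obtain ⟨v₀, hv₀⟩ : ∃ v, H σ (c ^ 2 *ᵥ v) v ≠ 0 := by
    obtain ⟨x, hx⟩ := exists_ne hc2
    obtain ⟨i, hi⟩ : ∃ i, (c ^ 2 *ᵥ x) i ≠ 0 := by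
      by_contra hcon
      push Not at hcon
      exact hx (funext hcon)
    have hxy : H σ (c ^ 2 *ᵥ x) (Pi.single i 1) ≠ 0 := by
      have h4 : (σ ∘ (Pi.single i 1 : Fin 3 → F)) = Pi.single i 1 := by
        ext j
        by_cases hj : j = i
        · subst hj; simp
        · simp [hj]
      rw [H, h4, dotProduct_single, mul_one]
      exact hi
    obtain ⟨a, b, hab⟩ := polar (σ := σ) h2 (fun x y => H σ (c ^ 2 *ᵥ x) y)
      (fun x y => by rw [H_symm hσ, hsq]) (fun x x' y => by rw [mulVec_add, H_add_left])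
      (fun x y y' => H_add_right _ _ _) (fun a x y => by rw [mulVec_smul, H_smul_left])
      (fun a x y => H_smul_right _ _ _) hxy
    exact ⟨_, hab⟩
  set α := H σ (c ^ 2 *ᵥ v₀) v₀ with hα
  have hσα : σ α = α := by rw [hα, H_symm hσ, hsq]
  obtain ⟨l, hl⟩ := hN α⁻¹ (by rw [map_inv₀, hσα])
  -- scaling
  obtain ⟨v₁, hv₁⟩ : ∃ v₁, v₁ = l • v₀ := ⟨_, rfl⟩
  have h11 : H σ (c ^ 2 *ᵥ v₁) v₁ = 1 := by
    rw [hv₁, mulVec_smul, H_smul_left, H_smul_right, ← mul_assoc, hl, ← hα]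
    exact inv_mul_cancel₀ hv₀
  have hcc1 : H σ (c *ᵥ v₁) (c *ᵥ v₁) = -1 := by
    rw [hskew, hcc, ← hsq, h11]
  set β := H σ (c *ᵥ v₁) v₁ with hβ
  have hσβ : σ β = -β := by rw [hβ, H_symm hσ, hskew, neg_neg]
  -- first correction
  set μ := -β / 2 with hμ
  have hσμ : σ μ = -μ := by
    rw [hμ, map_div₀, map_neg, hσβ, hσ2]
    ring
  obtain ⟨v₂, hv₂⟩ : ∃ v₂, v₂ = v₁ + μ • (c *ᵥ v₁) := ⟨_, rfl⟩
  have e1 : c *ᵥ v₂ = c *ᵥ v₁ + μ • (c ^ 2 *ᵥ v₁) := by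
    rw [hv₂, mulVec_add, mulVec_smul, hcc]
  have e2 : c ^ 2 *ᵥ v₂ = c ^ 2 *ᵥ v₁ := by
    rw [hv₂, mulVec_add, mulVec_smul, hc0', smul_zero, add_zero]
  have h21 : H σ (c ^ 2 *ᵥ v₂) v₂ = 1 := by
    rw [e2, hv₂, H_add_right, H_smul_right, h11, hsq, hc0', hzr, mul_zero, add_zero]
  have h22 : H σ (c *ᵥ v₂) v₂ = 0 := by
    rw [e1, hv₂, H_add_right, H_add_left, H_add_left, H_smul_right, H_smul_right, H_smul_left,
      H_smul_left, ← hβ, h11, hcc1, hsq, hc0', hzr, hσμ, hμ]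
    field_simp
    ring
  -- second correction
  set γ := H σ v₂ v₂ with hγ
  have hσγ : σ γ = γ := H_symm hσ _ _
  set ν := -γ / 2 with hν
  have hσν : σ ν = ν := by
    rw [hν, map_div₀, map_neg, hσγ, hσ2]
  refine ⟨v₂ + ν • (c ^ 2 *ᵥ v₂), ?_, ?_, ?_⟩
  · rw [mulVec_add, mulVec_smul, hc00, smul_zero, add_zero, H_add_right, H_smul_right, h21, hsq,
      hc00, hzr, mul_zero, add_zero]
  · rw [mulVec_add, mulVec_smul, hc0, smul_zero, add_zero, H_add_right, H_smul_right, h22, ← hsq,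
      hc0', hzl, mul_zero, add_zero]
  · rw [H_add_right, H_add_left, H_add_left, H_smul_right, H_smul_right, H_smul_left, H_smul_left,
      ← hγ, h21, ← hsq, h21, ← hsq, hc00, hzl, hσν, hν]
    field_simp
    ring

include hσ in
theorem gram {c : Matrix (Fin 3) (Fin 3) F} (hc : c.map σ = -cᵀ) (hc3 : c ^ 3 = 0)
    {v : Fin 3 → F} (h1 : H σ (c ^ 2 *ᵥ v) v = 1) (h0 : H σ (c *ᵥ v) v = 0) (h00 : H σ v v = 0) :
    (Bas c v)ᵀ * (Bas c v).map σ = !![0, 0, 1; 0, -1, 0; 1, 0, 0] := by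
  have hskew := fun x y => H_skew hc x y
  have hc0 : ∀ x, c *ᵥ (c ^ 2 *ᵥ x) = 0 := fun x => by
    rw [mulVec_mulVec, ← pow_succ', hc3, zero_mulVec]
  have hcc : ∀ x, c *ᵥ (c *ᵥ x) = c ^ 2 *ᵥ x := fun x => by rw [mulVec_mulVec, ← pow_two]
  have hzl : ∀ y, H σ 0 y = 0 := fun y => by simp [H]
  have hzr : ∀ y, H σ y 0 = 0 := fun y => by
    have : H σ y ((0 : F) • 0) = 0 := by rw [H_smul_right, map_zero, zero_mul]
    rwa [smul_zero] at this
  have key : ∀ i j, ((Bas c v)ᵀ * (Bas c v).map σ) i j =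
      H σ ((![c ^ 2 *ᵥ v, c *ᵥ v, v] : Fin 3 → Fin 3 → F) i)
        ((![c ^ 2 *ᵥ v, c *ᵥ v, v] : Fin 3 → Fin 3 → F) j) := by
    intro i j
    rw [Matrix.mul_apply, H, dot3, Fin.sum_univ_three]
    fin_cases i <;> fin_cases j <;> simp [Bas]
  have a01 : H σ (c ^ 2 *ᵥ v) (c *ᵥ v) = 0 := by
    have := hskew (c ^ 2 *ᵥ v) v
    rw [hc0, hzl] at this
    linear_combination this
  have a00 : H σ (c ^ 2 *ᵥ v) (c ^ 2 *ᵥ v) = 0 := by
    have := hskew (c ^ 2 *ᵥ v) (c *ᵥ v)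
    rw [hc0, hzl, hcc] at this
    linear_combination this
  have a10 : H σ (c *ᵥ v) (c ^ 2 *ᵥ v) = 0 := by
    rw [hskew, hc0, hzr, neg_zero]
  have a20 : H σ v (c ^ 2 *ᵥ v) = 1 := by
    rw [← H_symm hσ, h1, map_one]
  have a21 : H σ v (c *ᵥ v) = 0 := by
    rw [← H_symm hσ, h0, map_zero]
  have a11 : H σ (c *ᵥ v) (c *ᵥ v) = -1 := by
    rw [hskew, hcc, a20]
  ext i j
  rw [key]
  fin_cases i <;> fin_cases j <;> simp [a01, a00, a10, a20, a21, a11, h1, h0, h00]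

theorem map_mul' (A B : Matrix (Fin 3) (Fin 3) F) : (A * B).map σ = A.map σ * B.map σ :=
  Matrix.map_mul

include hσ in
/-- The conjugating isometry, for skew matrices. -/
theorem exists_conj_skew (h2 : (2 : F) ≠ 0) (hN : ∀ a, σ a = a → ∃ x, x * σ x = a)
    {c c' : Matrix (Fin 3) (Fin 3) F} (hc : c.map σ = -cᵀ) (hc3 : c ^ 3 = 0) (hc2 : c ^ 2 ≠ 0)
    (hc' : c'.map σ = -c'ᵀ) (hc3' : c' ^ 3 = 0) (hc2' : c' ^ 2 ≠ 0) :
    ∃ γ : Matrix (Fin 3) (Fin 3) F, γ.det ≠ 0 ∧ γ * c = c' * γ ∧ γᵀ * γ.map σ = 1 := by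
  obtain ⟨v, h1, h0, h00⟩ := exists_good hσ h2 hN hc hc3 hc2
  obtain ⟨v', h1', h0', h00'⟩ := exists_good hσ h2 hN hc' hc3' hc2'
  have hv : c ^ 2 *ᵥ v ≠ 0 := by
    intro h
    rw [h] at h1
    simp [H] at h1
  have hv' : c' ^ 2 *ᵥ v' ≠ 0 := by
    intro h
    rw [h] at h1'
    simp [H] at h1'
  obtain ⟨γ, hd, hγ, hB⟩ := exists_conj_aux hc3 hc3' hv hv'
  refine ⟨γ, hd, hγ, ?_⟩
  have g := gram hσ hc hc3 h1 h0 h00
  have g' := gram hσ hc' hc3' h1' h0' h00'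
  rw [← hB, map_mul', transpose_mul, ← g] at g'
  have hu : IsUnit (Bas c v).det := isUnit_iff_ne_zero.2 (Bas_det hc3 hv)
  have hu1 : (Bas c v) * (Bas c v)⁻¹ = 1 := Matrix.mul_nonsing_inv _ hu
  have hu2 : ((Bas c v)⁻¹)ᵀ * (Bas c v)ᵀ = 1 := by rw [← transpose_mul, hu1, transpose_one]
  have hu3 : (Bas c v).map σ * ((Bas c v)⁻¹).map σ = 1 := by
    rw [← map_mul', hu1]
    ext i j
    fin_cases i <;> fin_cases j <;> simp
  calc γᵀ * γ.map σ = (((Bas c v)⁻¹)ᵀ * (Bas c v)ᵀ) * (γᵀ * γ.map σ) *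
        ((Bas c v).map σ * ((Bas c v)⁻¹).map σ) := by rw [hu2, hu3, one_mul, mul_one]
    _ = ((Bas c v)⁻¹)ᵀ * ((Bas c v)ᵀ * γᵀ * (γ.map σ * (Bas c v).map σ)) *
        ((Bas c v)⁻¹).map σ := by simp only [mul_assoc]
    _ = (((Bas c v)⁻¹)ᵀ * (Bas c v)ᵀ) * ((Bas c v).map σ * ((Bas c v)⁻¹).map σ) := by
        rw [g']
        simp only [mul_assoc]
    _ = 1 := by rw [hu2, hu3, one_mul]

/-! ### From unipotent isometries to skew matrices -/

/-- `c = n / 2 - n² / 4`. -/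
def sk (n : Matrix (Fin 3) (Fin 3) F) : Matrix (Fin 3) (Fin 3) F :=
  (1 / 2 : F) • n - (1 / 4 : F) • n ^ 2

theorem pow4 {n : Matrix (Fin 3) (Fin 3) F} (hn : n ^ 3 = 0) : n ^ 4 = 0 := by
  rw [pow_succ, hn, zero_mul]

theorem sk_sq (h2 : (2 : F) ≠ 0) {n : Matrix (Fin 3) (Fin 3) F} (hn : n ^ 3 = 0) :
    sk n ^ 2 = (1 / 4 : F) • n ^ 2 := by
  have h4 : (4 : F) ≠ 0 := by
    have : (4 : F) = 2 * 2 := by norm_num
    rw [this]; exact mul_ne_zero h2 h2
  have e : sk n ^ 2 = ((1 / 2 : F) * (1 / 2)) • n ^ 2 - ((1 / 2 : F) * (1 / 4)) • n ^ 3 -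
      ((1 / 2 : F) * (1 / 4)) • n ^ 3 + ((1 / 4 : F) * (1 / 4)) • n ^ 4 := by
    have p2 : n * n = n ^ 2 := (pow_two n).symm
    have p3 : n * n ^ 2 = n ^ 3 := (pow_succ' n 2).symm
    have p3' : n ^ 2 * n = n ^ 3 := (pow_succ n 2).symm
    have p4 : n ^ 2 * n ^ 2 = n ^ 4 := (pow_add n 2 2).symm
    have e1 : sk n ^ 2 = sk n * sk n := pow_two _
    rw [e1, sk, sub_mul, mul_sub, mul_sub, smul_mul_smul_comm, smul_mul_smul_comm,
      smul_mul_smul_comm, smul_mul_smul_comm, p2, p3, p3', p4]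
    module
  rw [e, hn, pow4 hn]
  simp only [smul_zero, sub_zero, add_zero]
  congr 1
  field_simp
  norm_num

theorem sk_cube (h2 : (2 : F) ≠ 0) {n : Matrix (Fin 3) (Fin 3) F} (hn : n ^ 3 = 0) :
    sk n ^ 3 = 0 := by
  rw [pow_succ, sk_sq h2 hn, sk, mul_sub, smul_mul_smul_comm, smul_mul_smul_comm, ← pow_succ,
    ← pow_add, hn, pow4 hn]
  simp

/-- `n` from `c`. -/
theorem eq_sk (h2 : (2 : F) ≠ 0) {n : Matrix (Fin 3) (Fin 3) F} (hn : n ^ 3 = 0) :
    n = (2 : F) • sk n + (2 : F) • sk n ^ 2 := by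
  have h4 : (4 : F) ≠ 0 := by
    have : (4 : F) = 2 * 2 := by norm_num
    rw [this]; exact mul_ne_zero h2 h2
  rw [sk_sq h2 hn, sk, smul_sub, smul_smul, smul_smul]
  have e1 : (2 : F) * (1 / 2) = 1 := by field_simp
  rw [e1, one_smul]
  abel

theorem sk_skew (h2 : (2 : F) ≠ 0) {u n : Matrix (Fin 3) (Fin 3) F} (hu : u = 1 + n) (hn : n ^ 3 = 0)
    (hun : uᵀ * u.map σ = 1) : (sk n).map σ = -(sk n)ᵀ := by
  have hσ2 : σ (1 / 2) = 1 / 2 := by rw [map_div₀, map_one, map_ofNat]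
  have hσ4 : σ (1 / 4) = 1 / 4 := by rw [map_div₀, map_one, map_ofNat]
  have hinv : u * (1 - n + n ^ 2) = 1 := by
    have e : u * (1 - n + n ^ 2) = 1 + n ^ 3 := by
      rw [hu]
      noncomm_ring
    rw [e, hn, add_zero]
  have h1 : u.map σ = (1 - n + n ^ 2)ᵀ := by
    have hinv' : (1 - n + n ^ 2)ᵀ * uᵀ = 1 := by rw [← transpose_mul, hinv, transpose_one]
    calc u.map σ = ((1 - n + n ^ 2)ᵀ * uᵀ) * u.map σ := by rw [hinv', one_mul]
      _ = _ := by rw [mul_assoc, hun, mul_one]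
  have hone : (1 : Matrix (Fin 3) (Fin 3) F).map σ = 1 := by
    ext i j
    fin_cases i <;> fin_cases j <;> simp
  have hadd : ∀ A B : Matrix (Fin 3) (Fin 3) F, (A + B).map σ = A.map σ + B.map σ := fun A B => by
    ext i j; simp
  have hsub : ∀ A B : Matrix (Fin 3) (Fin 3) F, (A - B).map σ = A.map σ - B.map σ := fun A B => by
    ext i j; simp
  have hsmul : ∀ (a : F) (A : Matrix (Fin 3) (Fin 3) F), (a • A).map σ = σ a • A.map σ :=
    fun a A => by ext i j; simp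
  have h3 : n.map σ = (-n + n ^ 2)ᵀ := by
    have e : n = u - 1 := by rw [hu]; abel
    have e2 : n.map σ = u.map σ - 1 := by
      conv_lhs => rw [e]
      rw [hsub, hone]
    rw [e2, h1]
    simp only [transpose_add, transpose_sub, transpose_one, transpose_neg]
    abel
  have h4 : (n ^ 2).map σ = (n ^ 2)ᵀ := by
    rw [pow_two, map_mul', h3, ← transpose_mul]
    congr 1
    have e : (-n + n ^ 2) * (-n + n ^ 2) = n * n - 2 * n ^ 3 + n ^ 4 := by noncomm_ring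
    rw [e, hn, pow4 hn, mul_zero, sub_zero, add_zero]
  rw [sk, hsub, hsmul, hsmul, hσ2, hσ4, h3, h4, transpose_sub, transpose_smul, transpose_smul,
    transpose_add, transpose_neg]
  have h4 : (4 : F) ≠ 0 := by
    have : (4 : F) = 2 * 2 := by norm_num
    rw [this]; exact mul_ne_zero h2 h2
  have e : (1 / 2 : F) = 1 / 4 + 1 / 4 := by
    field_simp
    norm_num
  rw [e]
  module

include hσ in
/-- The conjugating isometry, for unipotent isometries. -/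
theorem exists_conj_unitary (h2 : (2 : F) ≠ 0) (hN : ∀ a, σ a = a → ∃ x, x * σ x = a)
    {n n' : Matrix (Fin 3) (Fin 3) F} (hn : n ^ 3 = 0) (hn2 : n ^ 2 ≠ 0)
    (hu : (1 + n)ᵀ * (1 + n).map σ = 1) (hn' : n' ^ 3 = 0) (hn2' : n' ^ 2 ≠ 0)
    (hu' : (1 + n')ᵀ * (1 + n').map σ = 1) :
    ∃ γ : Matrix (Fin 3) (Fin 3) F, γ.det ≠ 0 ∧ γ * n = n' * γ ∧ γᵀ * γ.map σ = 1 := by
  have h4 : (4 : F) ≠ 0 := by
    have : (4 : F) = 2 * 2 := by norm_num
    rw [this]; exact mul_ne_zero h2 h2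
  have hne : ∀ m : Matrix (Fin 3) (Fin 3) F, m ^ 3 = 0 → m ^ 2 ≠ 0 → sk m ^ 2 ≠ 0 := by
    intro m hm hm2
    rw [sk_sq h2 hm]
    exact smul_ne_zero (one_div_ne_zero h4) hm2
  obtain ⟨γ, hd, hγ, hγu⟩ := exists_conj_skew hσ h2 hN (sk_skew h2 rfl hn hu) (sk_cube h2 hn)
    (hne n hn hn2) (sk_skew h2 rfl hn' hu') (sk_cube h2 hn') (hne n' hn' hn2')
  refine ⟨γ, hd, ?_, hγu⟩
  have e2 : γ * sk n ^ 2 = sk n' ^ 2 * γ := by
    rw [pow_two, pow_two, ← mul_assoc, hγ, mul_assoc, hγ, mul_assoc]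
  have e1 := eq_sk h2 hn
  have e1' := eq_sk h2 hn'
  rw [e1, e1', mul_add, add_mul, mul_smul_comm, mul_smul_comm, smul_mul_assoc, smul_mul_assoc, hγ,
    e2]

theorem map_vecMulVec (x y : Fin 3 → F) :
    (vecMulVec x y).map σ = vecMulVec (σ ∘ x) (σ ∘ y) := by
  ext i j
  simp [vecMulVec_apply]

include hσ in
/-- Isometries `1 + n` with `n² = 0` commute with an involution. -/
theorem exists_invo_unitary (h2 : (2 : F) ≠ 0) {n : Matrix (Fin 3) (Fin 3) F} (hn : n ^ 2 = 0)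
    (hu : (1 + n)ᵀ * (1 + n).map σ = 1) :
    ∃ z φ : Fin 3 → F, n *ᵥ z = 0 ∧ φ ᵥ* n = 0 ∧ φ ⬝ᵥ z = 1 ∧
      (invo z φ)ᵀ * (invo z φ).map σ = 1 := by
  have hu' : (1 + n).map σ * (1 + n)ᵀ = 1 := mul_eq_one_comm.1 hu
  have hone : (1 : Matrix (Fin 3) (Fin 3) F).map σ = 1 := by
    ext i j
    fin_cases i <;> fin_cases j <;> simp
  have hσσ : ∀ y : Fin 3 → F, σ ∘ (σ ∘ y) = y := fun y => funext fun i => hσ _
  have hMM : ∀ A : Matrix (Fin 3) (Fin 3) F, (A.map σ).map σ = A := fun A => by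
    ext i j; simp [hσ]
  -- the kernel of the transpose
  have k1 : ∀ φ : Fin 3 → F, φ ᵥ* n = 0 → n *ᵥ (σ ∘ φ) = 0 := by
    intro φ hφ
    have a1 : (1 + n)ᵀ *ᵥ φ = φ := by
      rw [mulVec_transpose, vecMul_add, hφ, vecMul_one, add_zero]
    have a2 : (1 + n).map σ *ᵥ φ = φ := by
      have := congrArg (fun x => (1 + n).map σ *ᵥ x) a1
      simp only [mulVec_mulVec, hu', one_mulVec] at this
      exact this.symm
    have a3 : (1 + n) *ᵥ (σ ∘ φ) = σ ∘ φ := by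
      have a4 := congrArg (fun x => σ ∘ x) a2
      simp only [comp_mulVec, hMM] at a4
      exact a4
    rw [add_mulVec, one_mulVec] at a3
    exact left_eq_add.1 a3.symm
  have k2 : ∀ z : Fin 3 → F, n *ᵥ z = 0 → (σ ∘ z) ᵥ* n = 0 := by
    intro z hz
    have a1 : (1 + n) *ᵥ z = z := by rw [add_mulVec, hz, one_mulVec, add_zero]
    have a2 : (1 + n).map σ *ᵥ (σ ∘ z) = σ ∘ z := by rw [← comp_mulVec, a1]
    have a3 : (1 + n)ᵀ *ᵥ (σ ∘ z) = σ ∘ z := by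
      have := congrArg (fun x => (1 + n)ᵀ *ᵥ x) a2
      simp only [mulVec_mulVec, hu, one_mulVec] at this
      exact this.symm
    rw [mulVec_transpose, vecMul_add, vecMul_one] at a3
    exact left_eq_add.1 a3.symm
  obtain ⟨z₀, φ, hz, hφ, hφz⟩ := exists_pair hn
  have hzy : H σ z₀ (σ ∘ φ) ≠ 0 := by
    rw [H, hσσ, dotProduct_comm, hφz]
    exact one_ne_zero
  obtain ⟨a, b, hab⟩ := polar (σ := σ) h2 (fun x y => H σ x y) (fun x y => H_symm hσ x y)
    (fun x x' y => H_add_left _ _ _) (fun x y y' => H_add_right _ _ _)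
    (fun a x y => H_smul_left _ _ _) (fun a x y => H_smul_right _ _ _) hzy
  obtain ⟨w, hw⟩ : ∃ w, w = a • z₀ + b • (σ ∘ φ) := ⟨_, rfl⟩
  have hnw : n *ᵥ w = 0 := by
    rw [hw, mulVec_add, mulVec_smul, mulVec_smul, hz, k1 φ hφ, smul_zero, smul_zero, add_zero]
  have hd : H σ w w ≠ 0 := by rw [hw]; exact hab
  obtain ⟨d, hdd⟩ : ∃ d, d = (H σ w w)⁻¹ := ⟨_, rfl⟩
  have hσd : σ d = d := by rw [hdd, map_inv₀, H_symm hσ]
  have hdH : d * H σ w w = 1 := by rw [hdd]; exact inv_mul_cancel₀ hd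
  have hφw : (d • (σ ∘ w)) ⬝ᵥ w = 1 := by
    rw [smul_dotProduct, dotProduct_comm, smul_eq_mul]
    exact hdH
  refine ⟨w, d • (σ ∘ w), hnw, ?_, hφw, ?_⟩
  · rw [smul_vecMul, k2 w hnw, smul_zero]
  · have e1 : (invo w (d • (σ ∘ w)))ᵀ = invo (d • (σ ∘ w)) w := by
      rw [invo, invo, transpose_sub, transpose_smul, transpose_one, transpose_vecMulVec]
    have e2 : (invo w (d • (σ ∘ w))).map σ = invo (σ ∘ w) (d • w) := by
      have hsub : ∀ A B : Matrix (Fin 3) (Fin 3) F, (A - B).map σ = A.map σ - B.map σ :=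
        fun A B => by ext i j; simp
      have hsmul : ∀ (a : F) (A : Matrix (Fin 3) (Fin 3) F), (a • A).map σ = σ a • A.map σ :=
        fun a A => by ext i j; simp
      have hcs : σ ∘ (d • (σ ∘ w)) = d • w := by
        ext i
        simp [hσd, hσ]
      rw [invo, invo, hsub, hsmul, hone, map_vecMulVec, hcs, map_ofNat]
    have e3 : invo (σ ∘ w) (d • w) = invo (d • (σ ∘ w)) w := by
      rw [invo, invo, vecMulVec_smul, smul_vecMulVec]
    rw [e1, e2, e3]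
    apply invo_mul_self
    rw [dotProduct_comm]
    exact hφw

end Unitary

end Cfsg.Agent.H610.OddMat
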