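import Cfsg.Agent.H610.OddOC
import Cfsg.Agent.H610.OddMat
import Cfsg.Agent.H610.TableL3
import Cfsg.Agent.LieClassical.HermBasic

/-!
# `PSL(3, q)` and `PSU(3, q)`, `q` odd: the classes of regular unipotent elements

`OddOC.OcAt p N` for `N = PSL(3, q)`, `PSU(3, q)`, `q` a power of the odd prime `p`: the `p`-elements
`y ≠ 1` with `|C_N(y)|` odd are real and form an odd number of conjugacy classes.
-/

set_option autoImplicit false

namespace Cfsg.Agent.H610.OddThree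

open Matrix Cfsg Subgroup Cfsg.Agent.H610.OddOC Cfsg.Agent.H610.OddMat

section General

variable {F : Type*} [Field F] {Γ S : Type*} [Group Γ] [Finite Γ] [Group S]

theorem ocAt_of_matrix (ι : S →* Γ) (M : Γ →* Matrix (Fin 3) (Fin 3) F)
    (hι : Function.Injective ι) (hM : Function.Injective M) {p : ℕ} (hp : p.Prime) (hp2 : p ≠ 2)
    [CharP F p]
    (hdet : ∀ s, (M (ι s)).det = 1) (hS : ∀ γ : Γ, (M γ).det = 1 → ∃ s, ι s = γ)
    (hsc : ∀ γ : Γ, ∃ c : Γ, M c = (M γ).det • 1)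
    (hcenter : ∀ z ∈ center S, ∃ r : F, M (ι z) = r • 1)
    (hT : ∀ s s' : S, ∀ n n' : Matrix (Fin 3) (Fin 3) F, M (ι s) = 1 + n → M (ι s') = 1 + n' →
      n ^ 3 = 0 → n ^ 2 ≠ 0 → n' ^ 3 = 0 → n' ^ 2 ≠ 0 → ∃ γ : Γ, M γ * n = n' * M γ)
    (hI : ∀ (s : S) (n : Matrix (Fin 3) (Fin 3) F), M (ι s) = 1 + n → n ^ 2 = 0 →
      ∃ z φ : Fin 3 → F, n *ᵥ z = 0 ∧ φ ᵥ* n = 0 ∧ φ ⬝ᵥ z = 1 ∧ ∃ t : S, M (ι t) = invo z φ)
    {s₀ k₀ : S} {n₀ : Matrix (Fin 3) (Fin 3) F} (hs₀ : M (ι s₀) = 1 + n₀) (hn₀ : n₀ ^ 3 = 0)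
    (hn₀2 : n₀ ^ 2 ≠ 0) (hk₀ : k₀ * s₀ * k₀⁻¹ = s₀⁻¹) : OcAt p (S ⧸ center S) := by
  classical
  have hfp : Fact p.Prime := ⟨hp⟩
  have hchar : CharP (Matrix (Fin 3) (Fin 3) F) p := Matrix.charP p
  have h2 : (2 : F) ≠ 0 := by
    intro h
    have h3 : ((2 : ℕ) : F) = 0 := by exact_mod_cast h
    rw [CharP.cast_eq_zero_iff F p] at h3
    exact hp2 ((Nat.prime_dvd_prime_iff_eq hp Nat.prime_two).1 h3)
  have hp3 : 3 ≤ p := by
    have := hp.two_le
    omega
  have hMι : Function.Injective fun s => M (ι s) := hM.comp hι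
  have hscal : ∀ (a : F) (A : Matrix (Fin 3) (Fin 3) F), A * (a • 1) = (a • 1) * A := fun a A => by
    rw [mul_smul_comm, smul_mul_assoc, mul_one, one_mul]
  have hcube : ∀ A : Matrix (Fin 3) (Fin 3) F, A ^ 3 = 0 → A ^ p = 0 := by
    intro A hA
    obtain ⟨j, hj⟩ := Nat.exists_eq_add_of_le hp3
    rw [hj, pow_add, hA, zero_mul]
  -- central elements
  have hZ : ∀ z ∈ center S, z ^ p = 1 → z = 1 := by
    intro z hz hzp
    obtain ⟨r, hr⟩ := hcenter z hz
    have h4 : (r • (1 : Matrix (Fin 3) (Fin 3) F)) ^ p = 1 := by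
      rw [← hr, ← map_pow, ← map_pow, hzp, map_one, map_one]
    have h5 : r ^ p = 1 := by
      rw [smul_pow, one_pow] at h4
      have := congrFun (congrFun h4 0) 0
      simpa using this
    have h6 : (r - 1) ^ p = 0 := by rw [sub_pow_char, h5, one_pow, sub_self]
    have h7 : r = 1 := sub_eq_zero.1 (pow_eq_zero_iff hp.ne_zero |>.1 h6)
    apply hMι
    show M (ι z) = M (ι 1)
    rw [hr, h7, one_smul, map_one, map_one]
  have hcenter' : ∀ (s : S) (r : F), M (ι s) = r • 1 → s ∈ center S := by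
    intro s r hr
    rw [mem_center_iff]
    intro g
    apply hMι
    show M (ι (g * s)) = M (ι (s * g))
    rw [map_mul, map_mul, map_mul, map_mul, hr, hscal]
  have hsp : s₀ ^ p = 1 := by
    apply hMι
    show M (ι (s₀ ^ p)) = M (ι 1)
    rw [map_pow, map_pow, hs₀, map_one, map_one, add_pow_char_of_commute p (Commute.one_left n₀),
      one_pow, hcube n₀ hn₀, add_zero]
  have hs1 : s₀ ≠ 1 := by
    rintro rfl
    rw [map_one, map_one] at hs₀
    have : n₀ = 0 := left_eq_add.1 hs₀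
    apply hn₀2
    rw [this, zero_pow two_ne_zero]
  refine ocAt_of ι hι ?_ hp hp2 ?_ hZ s₀ hsp hs1 (isConj_iff.2 ⟨k₀, hk₀⟩) ?_ ?_
  · intro γ s
    obtain ⟨s', hs'⟩ := hS (γ * ι s * γ⁻¹) (by
      have h4 : (M γ).det * (M γ⁻¹).det = 1 := by
        rw [← det_mul, ← map_mul, mul_inv_cancel, map_one, det_one]
      rw [map_mul, map_mul, det_mul, det_mul, hdet, mul_one, h4])
    exact ⟨s', hs'⟩
  · intro γ
    obtain ⟨c, hc⟩ := hsc γ
    have hcc : c ∈ center Γ := by
      rw [mem_center_iff]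
      intro g
      apply hM
      rw [map_mul, map_mul, hc, hscal]
    obtain ⟨s, hs⟩ := hS (γ ^ 3 * c⁻¹) (by
      have h4 : (M c).det * (M c⁻¹).det = 1 := by
        rw [← det_mul, ← map_mul, mul_inv_cancel, map_one, det_one]
      have h5 : (M c).det = (M γ).det ^ 3 := by
        rw [hc, det_smul, det_one, mul_one, Fintype.card_fin]
      rw [map_mul, map_pow, det_mul, det_pow, ← h5, h4])
    exact ⟨s, c, hcc, by rw [hs, inv_mul_cancel_right]⟩
  · -- the centralizer of `s₀`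
    have hexp : ∀ x ∈ centralizer ({QuotientGroup.mk s₀} : Set (S ⧸ center S)), x ^ p = 1 := by
      intro x hx
      obtain ⟨a, rfl⟩ := QuotientGroup.mk_surjective x
      rw [mem_centralizer_singleton_iff, ← QuotientGroup.mk_mul, ← QuotientGroup.mk_mul] at hx
      have h4 : a * s₀ * a⁻¹ = s₀ := by
        refine (lift_unique hZ (k := 1) (s := s₀) (t := a * s₀ * a⁻¹) ?_ ?_ ?_).symm
        · rw [pow_one, hsp]
        · rw [pow_one, conj_pow, hsp, mul_one, mul_inv_cancel]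
        · rw [QuotientGroup.mk_mul, hx, ← QuotientGroup.mk_mul, mul_inv_cancel_right]
      have h5 : Commute (M (ι a)) n₀ := by
        have h6 : a * s₀ = s₀ * a := mul_inv_eq_iff_eq_mul.1 h4
        have h7 := congrArg (fun s => M (ι s)) h6
        simp only [map_mul, hs₀, mul_add, add_mul, mul_one, one_mul, add_right_inj] at h7
        exact h7
      obtain ⟨v, hv⟩ := OddMat.exists_ne hn₀2
      obtain ⟨r, hr⟩ := comm_eq hn₀ hv h5
      have h6 := hcube _ hr
      rw [sub_pow_char_of_commute p (show Commute (M (ι a)) (r • 1) from hscal r _), sub_eq_zero,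
        smul_pow, one_pow, ← map_pow, ← map_pow] at h6
      rw [← QuotientGroup.mk_pow, QuotientGroup.eq_one_iff]
      exact hcenter' _ _ h6
    rw [← Nat.not_even_iff_odd, even_iff_two_dvd]
    intro h
    have hfin : Finite S := Finite.of_injective ι hι
    have : Fact (Nat.Prime 2) := ⟨Nat.prime_two⟩
    obtain ⟨x, hx⟩ := exists_prime_orderOf_dvd_card' 2 h
    have h4 : x ^ p = 1 := Subtype.ext (hexp x.1 x.2)
    have h5 := orderOf_dvd_of_pow_eq_one h4
    rw [hx] at h5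
    exact hp2 ((Nat.prime_dvd_prime_iff_eq Nat.prime_two hp).1 h5).symm
  · rintro s hs ⟨k, hk⟩
    obtain ⟨n, hn⟩ : ∃ n, M (ι s) = 1 + n := ⟨M (ι s) - 1, by abel⟩
    have hnil : n ^ p ^ k = 0 := by
      have h4 : (1 + n) ^ p ^ k = 1 := by rw [← hn, ← map_pow, ← map_pow, hk, map_one, map_one]
      rw [add_pow_char_pow_of_commute p k (Commute.one_left n), one_pow] at h4
      exact add_eq_left.1 h4
    have hn3 : n ^ 3 = 0 := cube_eq_zero ⟨_, hnil⟩
    by_cases hn2 : n ^ 2 = 0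
    · right
      obtain ⟨z, φ, hz, hφ, hφz, t, ht⟩ := hI s n hn hn2
      refine ⟨t, ?_, ?_, ?_⟩
      · apply hMι
        show M (ι (t ^ 2)) = M (ι 1)
        rw [map_pow, map_pow, ht, pow_two, invo_mul_self hφz, map_one, map_one]
      · intro htc
        obtain ⟨r, hr⟩ := hcenter t htc
        rw [ht] at hr
        exact invo_ne_smul hφz h2 r hr
      · apply hMι
        show M (ι (t * s)) = M (ι (s * t))
        rw [map_mul, map_mul, map_mul, map_mul, ht, hn, mul_add, add_mul, mul_one, one_mul,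
          invo_comm hz hφ]
    · left
      obtain ⟨γ, hγ⟩ := hT s₀ s n₀ n hs₀ hn hn₀ hn₀2 hn3 hn2
      refine ⟨γ, ?_⟩
      rw [eq_mul_inv_iff_mul_eq]
      apply hM
      rw [map_mul, map_mul, hn, hs₀, mul_add, add_mul, mul_one, one_mul, hγ]

end General

section SL

variable {F : Type*} [Field F] [Finite F]

/-- `PSL(3, q)`, `q` odd. -/
theorem psl_three (h2 : (2 : F) ≠ 0) :
    ∃ p, OcAt p (Matrix.ProjectiveSpecialLinearGroup (Fin 3) F) := by
  classical
  obtain ⟨p, hpp, hp2, hp⟩ := TableL3.exists_prime h2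
  obtain ⟨c, hc⟩ : ∃ c : F, 2 * c = 1 := ⟨1 / 2, by field_simp⟩
  refine ⟨p, ?_⟩
  let u : Matrix.SpecialLinearGroup (Fin 3) F := ⟨TableL3.uU c, by
    rw [Matrix.det_fin_three]; simp [TableL3.uU]⟩
  let k : Matrix.SpecialLinearGroup (Fin 3) F := ⟨!![-1, 0, 0; 0, 1, 0; 0, 0, -1], by
    rw [Matrix.det_fin_three]; simp⟩
  refine ocAt_of_matrix (F := F) (Γ := GL (Fin 3) F) Matrix.SpecialLinearGroup.toGL
    (Units.coeHom _) ?_ Units.val_injective hpp hp2 ?_ ?_ ?_ ?_ ?_ ?_ (s₀ := u) (k₀ := k)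
    (n₀ := !![0, 1, c; 0, 0, 1; 0, 0, 0]) ?_ ?_ ?_ ?_
  · intro a b hab
    exact Subtype.ext (congrArg Units.val hab)
  · intro s
    exact s.2
  · intro γ hγ
    exact ⟨⟨γ.1, hγ⟩, Units.ext rfl⟩
  · intro γ
    have hd : (Units.coeHom _ γ : Matrix (Fin 3) (Fin 3) F).det ≠ 0 := by
      have := (Matrix.isUnit_iff_isUnit_det _).1 γ.isUnit
      exact this.ne_zero
    refine ⟨Matrix.GeneralLinearGroup.mkOfDetNeZero
      ((Units.coeHom _ γ : Matrix (Fin 3) (Fin 3) F).det • 1) ?_, rfl⟩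
    rw [det_smul, det_one, mul_one]
    exact pow_ne_zero _ hd
  · intro z hz
    obtain ⟨r, -, hr⟩ := Matrix.SpecialLinearGroup.mem_center_iff.1 hz
    refine ⟨r, ?_⟩
    show z.1 = r • 1
    rw [← hr, Matrix.scalar_apply, Matrix.smul_one_eq_diagonal]
  · intro s s' n n' _ _ hn hn2 hn' hn2'
    obtain ⟨v, hv⟩ := OddMat.exists_ne hn2
    obtain ⟨v', hv'⟩ := OddMat.exists_ne hn2'
    obtain ⟨γ, hd, hγ, -⟩ := exists_conj_aux hn hn' hv hv'
    exact ⟨Matrix.GeneralLinearGroup.mkOfDetNeZero γ hd, hγ⟩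
  · intro s n _ hn
    obtain ⟨z, φ, hz, hφ, hφz⟩ := exists_pair hn
    exact ⟨z, φ, hz, hφ, hφz, ⟨invo z φ, invo_det hφz⟩, rfl⟩
  · show TableL3.uU c = _
    ext i j
    fin_cases i <;> fin_cases j <;> simp [TableL3.uU]
  · rw [pow_succ, pow_two]
    ext i j
    fin_cases i <;> fin_cases j <;> simp [Matrix.mul_apply, Fin.sum_univ_three]
  · intro h
    have := congrFun (congrFun h 0) 2
    rw [pow_two, Matrix.mul_apply, Fin.sum_univ_three] at this
    simp at this
  · rw [mul_inv_eq_iff_eq_mul, eq_inv_mul_iff_mul_eq]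
    apply Subtype.ext
    show TableL3.uU c * ((!![-1, 0, 0; 0, 1, 0; 0, 0, -1] : Matrix (Fin 3) (Fin 3) F) *
      TableL3.uU c) = !![-1, 0, 0; 0, 1, 0; 0, 0, -1]
    ext i j
    fin_cases i <;> fin_cases j <;> simp [TableL3.uU, Matrix.mul_apply, Fin.sum_univ_three]
    linear_combination -hc

end SL

section SU

variable {F : Type*} [Field F] [Fintype F]

/-- From `SU` to `GU`. -/
def suToGU (q : ℕ) : SU 3 F q →* GU 3 F q where
  toFun s := ⟨Matrix.SpecialLinearGroup.toGL s.1, s.2⟩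
  map_one' := Subtype.ext (map_one Matrix.SpecialLinearGroup.toGL)
  map_mul' a b := Subtype.ext (map_mul Matrix.SpecialLinearGroup.toGL a.1 b.1)

/-- The matrix of an element of `GU`. -/
def guM (q : ℕ) : GU 3 F q →* Matrix (Fin 3) (Fin 3) F where
  toFun g := g.1.1
  map_one' := rfl
  map_mul' _ _ := rfl

theorem mem_GU {q : ℕ} {σ : F →+* F} (hσ : ∀ x, σ x = x ^ q) {A : GL (Fin 3) F}
    (h : A.1ᵀ * A.1.map σ = 1) : A ∈ GU 3 F q := by
  refine (ClassicalGeometry.GUBasic.mem_GU_iff A).2 fun u v => ?_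
  have e : ∀ x y : Fin 3 → F, hermForm 3 F q x y = H σ x y := by
    intro x y
    rw [ClassicalGeometry.GUBasic.hermForm_apply, H, dotProduct]
    exact Finset.sum_congr rfl fun i _ => by rw [Function.comp_apply, hσ]
  rw [e, e, H_mulVec_left, comp_mulVec, mulVec_mulVec, h, one_mulVec]
  rfl

theorem of_mem {q : ℕ} (hq : q ≠ 0) {σ : F →+* F} (hσ : ∀ x, σ x = x ^ q) {A : GL (Fin 3) F}
    (h : A ∈ GU 3 F q) : A.1ᵀ * A.1.map σ = 1 := by
  have h1 := ClassicalGeometry.GUBasic.transpose_mul_map hq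
    ((ClassicalGeometry.GUBasic.mem_GU_iff A).1 h)
  have h2 : A.1.map (fun x => x ^ q) = A.1.map σ := by
    ext i j
    simp [hσ]
  rw [← h2]
  exact h1

/-- `PSU(3, q)`, `q` odd. -/
theorem psu_three {q : ℕ} (hF : Fintype.card F = q ^ 2) (h2 : (2 : F) ≠ 0) :
    ∃ p, OcAt p (PSU 3 F q) := by
  classical
  obtain ⟨p, hpp, hp2, hp⟩ := TableL3.exists_prime h2
  refine ⟨p, ?_⟩
  obtain ⟨σ, hσ⟩ := ClassicalGeometry.GUBasic.exists_powHom hF
  have hq := ClassicalGeometry.GUBasic.two_le hF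
  have hq0 : q ≠ 0 := by omega
  have hσσ : ∀ x, σ (σ x) = x := by
    intro x
    rw [hσ, hσ, ← pow_mul, ← pow_two, ← hF, FiniteField.pow_card]
  have hN : ∀ a, σ a = a → ∃ x, x * σ x = a := by
    intro a ha
    rw [hσ] at ha
    obtain ⟨x, hx⟩ := LieClassical.HermBasic.exists_norm_eq hF ha
    exact ⟨x, by rw [hσ, hx]⟩
  obtain ⟨c, hc⟩ : ∃ c : F, 2 * c = 1 := ⟨1 / 2, by field_simp⟩
  obtain ⟨x, hx⟩ := TableL3.exists_norm_neg_one hF h2
  have hx0 : x ≠ 0 := by
    rintro rfl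
    rw [zero_pow (Nat.succ_ne_zero q)] at hx
    have : (2 : F) = 0 := by linear_combination 2 * hx
    exact h2 this
  obtain ⟨y, hy⟩ : ∃ y : F, x * y = 1 := ⟨x⁻¹, mul_inv_cancel₀ hx0⟩
  have hσx : σ x = -y := by
    have h1 : x * σ x = -1 := by rw [hσ, ← pow_succ', hx]
    linear_combination (-σ x) * hy + y * h1
  have hσy : σ y = -x := by
    have h1 : σ x * σ y = 1 := by rw [← map_mul, hy, map_one]
    rw [hσx] at h1
    linear_combination (-σ y) * hy - x * h1
  have hσc : σ c = c := by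
    have h1 : 2 * σ c = 1 := by
      have := congrArg σ hc
      rwa [map_mul, map_one, map_ofNat] at this
    linear_combination (-σ c) * hc + c * h1
  have hσ3 : σ 3 = 3 := map_ofNat σ 3
  have hc' : c = 1 / 2 := by
    rw [eq_div_iff h2]
    linear_combination hc
  have hy' : y = 1 / x := by
    rw [eq_div_iff hx0]
    linear_combination hy
  let u0 : Matrix.SpecialLinearGroup (Fin 3) F := ⟨TableL3.uS c x y, by
    rw [Matrix.det_fin_three]
    simp only [TableL3.uS, of_apply, cons_val', cons_val_zero, cons_val_one, cons_val_two,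
      cons_val_fin_one, tail_cons, head_cons, head_fin_const]
    simp
    rw [hc', hy']
    field_simp
    ring⟩
  have hu0 : u0 ∈ SU 3 F q := by
    refine TableL3.mem_SU_three σ hσ _ ?_
    intro i j
    fin_cases i <;> fin_cases j <;> simp [u0, TableL3.uS, hσx, hσy, hσc, hσ3] <;>
      (try rw [hc']) <;> (try rw [hy']) <;> field_simp <;> ring
  let k0 : Matrix.SpecialLinearGroup (Fin 3) F := ⟨!![-1, 0, 0; 0, -1, 0; 0, 0, 1], by
    rw [Matrix.det_fin_three]; simp⟩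
  have hk0 : k0 ∈ SU 3 F q := by
    refine TableL3.mem_SU_three σ hσ _ ?_
    intro i j
    fin_cases i <;> fin_cases j <;> simp [k0]
  let u : SU 3 F q := ⟨u0, hu0⟩
  let k : SU 3 F q := ⟨k0, hk0⟩
  have hN3 : (TableL3.uS c x y - 1) ^ 3 = 0 := by
    rw [pow_succ, pow_two]
    ext i j
    fin_cases i <;> fin_cases j <;>
      simp [TableL3.uS, Matrix.mul_apply, Fin.sum_univ_three] <;>
      (try rw [hc']) <;> (try rw [hy']) <;> field_simp <;> ring
  have hGUfin : Finite (GU 3 F q) := inferInstance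
  refine ocAt_of_matrix (F := F) (Γ := GU 3 F q) (suToGU q) (guM q) ?_ ?_ hpp hp2 ?_ ?_ ?_ ?_ ?_ ?_
    (s₀ := u) (k₀ := k) (n₀ := TableL3.uS c x y - 1) ?_ hN3 ?_ ?_
  · intro a b hab
    have h1 : a.1.1 = b.1.1 := congrArg (fun g : GU 3 F q => g.1.1) hab
    exact Subtype.ext (Subtype.ext h1)
  · intro a b hab
    exact Subtype.ext (Units.ext hab)
  · intro s
    exact s.1.2
  · intro γ hγ
    refine ⟨⟨⟨γ.1.1, hγ⟩, ?_⟩, Subtype.ext (Units.ext rfl)⟩
    exact γ.2
  · intro γ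
    have hd : (guM q γ).det ≠ 0 := by
      have := (Matrix.isUnit_iff_isUnit_det _).1 γ.1.isUnit
      exact this.ne_zero
    have hd1 : (guM q γ).det ^ (q + 1) = 1 :=
      ClassicalGeometry.GUBasic.det_pow hF ((ClassicalGeometry.GUBasic.mem_GU_iff γ.1).1 γ.2)
    refine ⟨⟨Matrix.GeneralLinearGroup.mkOfDetNeZero ((guM q γ).det • 1) ?_, ?_⟩, rfl⟩
    · rw [det_smul, det_one, mul_one]
      exact pow_ne_zero _ hd
    · refine mem_GU hσ ?_
      show ((guM q γ).det • (1 : Matrix (Fin 3) (Fin 3) F))ᵀ *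
        ((guM q γ).det • (1 : Matrix (Fin 3) (Fin 3) F)).map σ = 1
      have e : ((guM q γ).det • (1 : Matrix (Fin 3) (Fin 3) F)).map σ =
          ((guM q γ).det ^ q) • (1 : Matrix (Fin 3) (Fin 3) F) := by
        ext i j
        by_cases hij : i = j
        · subst hij; simp [hσ]
        · simp [hij]
      rw [e, transpose_smul, transpose_one, smul_mul_smul_comm, mul_one, ← pow_succ', hd1, one_smul]
  · intro z hz
    obtain ⟨r, _, _, hr⟩ := (LieClassical.SUBasic.mem_center_SU_iff hF le_rfl z).1 hz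
    refine ⟨r, ?_⟩
    show z.1.1 = r • 1
    rw [hr, LieClassical.SUBasic.coe_suScalar, Matrix.smul_one_eq_diagonal]
  · intro s s' n n' hs hs' hn hn2 hn' hn2'
    have h1 : (1 + n)ᵀ * (1 + n).map σ = 1 := by
      rw [← hs]
      exact of_mem hq0 hσ (suToGU q s).2
    have h1' : (1 + n')ᵀ * (1 + n').map σ = 1 := by
      rw [← hs']
      exact of_mem hq0 hσ (suToGU q s').2
    obtain ⟨γ, hd, hγ, hγu⟩ := exists_conj_unitary hσσ h2 hN hn hn2 h1 hn' hn2' h1'
    exact ⟨⟨Matrix.GeneralLinearGroup.mkOfDetNeZero γ hd, mem_GU hσ hγu⟩, hγ⟩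
  · intro s n hs hn
    have h1 : (1 + n)ᵀ * (1 + n).map σ = 1 := by
      rw [← hs]
      exact of_mem hq0 hσ (suToGU q s).2
    obtain ⟨z, φ, hz, hφ, hφz, hi⟩ := exists_invo_unitary hσσ h2 hn h1
    refine ⟨z, φ, hz, hφ, hφz, ⟨⟨invo z φ, invo_det hφz⟩, ?_⟩, rfl⟩
    exact mem_GU (A := Matrix.SpecialLinearGroup.toGL ⟨invo z φ, invo_det hφz⟩) hσ hi
  · show TableL3.uS c x y = 1 + (TableL3.uS c x y - 1)
    abel
  · intro h
    have h1 := congrFun (congrFun h 0) 0
    rw [pow_two, Matrix.mul_apply, Fin.sum_univ_three] at h1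
    simp [TableL3.uS] at h1
    have h3 : (1 : F) = 0 := by linear_combination (-1) * h1 + c ^ 2 * (-1) * hy - hc
    exact one_ne_zero h3
  · rw [mul_inv_eq_iff_eq_mul, eq_inv_mul_iff_mul_eq]
    apply Subtype.ext
    apply Subtype.ext
    show TableL3.uS c x y * ((!![-1, 0, 0; 0, -1, 0; 0, 0, 1] : Matrix (Fin 3) (Fin 3) F) *
      TableL3.uS c x y) = !![-1, 0, 0; 0, -1, 0; 0, 0, 1]
    ext i j
    fin_cases i <;> fin_cases j <;> simp [TableL3.uS, Matrix.mul_apply, Fin.sum_univ_three]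
    all_goals (try rw [hc']) <;> (try rw [hy']) <;> field_simp <;> ring

end SU

section Rows

theorem two_ne_zero_of_odd {F : Type*} [Field F] [Fintype F] (h : Odd (Fintype.card F)) :
    (2 : F) ≠ 0 := by
  intro h2
  have hchar : CharP F 2 := CharTwo.of_one_ne_zero_of_two_eq_zero one_ne_zero h2
  have h3 := (FiniteField.even_card_iff_char_two (F := F)).1 (ringChar.eq F 2)
  rw [Nat.odd_iff] at h
  omega

theorem psl_three_row {G : Type*} [Group G] {F : Type*} [Field F] [Fintype F]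
    (h : Odd (Fintype.card F)) (e : G ≃* Matrix.ProjectiveSpecialLinearGroup (Fin 3) F) :
    ∃ p, OcAt p G := by
  obtain ⟨p, hp⟩ := psl_three (F := F) (two_ne_zero_of_odd h)
  exact ⟨p, OcAt.of_equiv e.symm hp⟩

theorem psu_three_row {G : Type*} [Group G] {F : Type*} [Field F] [Fintype F] {q : ℕ}
    (hF : Fintype.card F = q ^ 2) (h : Odd q) (e : G ≃* PSU 3 F q) : ∃ p, OcAt p G := by
  obtain ⟨p, hp⟩ := psu_three (F := F) hF (two_ne_zero_of_odd (hF ▸ h.pow))
  exact ⟨p, OcAt.of_equiv e.symm hp⟩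

end Rows

end Cfsg.Agent.H610.OddThree
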