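import Cfsg.Agent.H610.OddOC
import Cfsg.Agent.AschCrit.Count
import Cfsg.Agent.SmallSimple.SelfCentPrime

/-!
# Automorphism stable sets of real elements of odd order forming an odd number of classes

* `OcSet N`: there is a set `Y` of real elements `≠ 1` of odd order with centralizers of odd order,
  stable under all automorphisms of `N`, which is the union of an odd number of conjugacy classes;
* `OcSet.of_ocAt`: the elements of `Yset p N`;
* `ocSet_of`: the criterion by elements contained in only one Sylow subgroup.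
-/

set_option autoImplicit false

namespace Cfsg.Agent.H610.OddReg

open Subgroup Cfsg.Agent.H610.OddOC

/-- An automorphism stable set of real elements `≠ 1` of odd order with centralizers of odd order,
forming an odd number of classes. -/
def OcSet (N : Type*) [Group N] : Prop :=
  ∃ Y : Set N, (∀ a : MulAut N, ∀ y ∈ Y, a y ∈ Y) ∧
    (∀ y ∈ Y, y ≠ 1 ∧ Odd (orderOf y) ∧ IsConj y y⁻¹ ∧
      Odd (Nat.card (centralizer ({y} : Set N)))) ∧
    Odd (Nat.card {c : ConjClasses N // ∃ y ∈ Y, c = ConjClasses.mk y})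

theorem OcSet.of_ocAt {N : Type*} [Group N] {p : ℕ} (h : OcAt p N) : OcSet N := by
  obtain ⟨hp, hp2, h3, h4⟩ := h
  refine ⟨Yset p N, fun a y hy => (mem_Yset_iff a y).2 hy, fun y hy => ⟨hy.1, ?_, h3 y hy, hy.2.2⟩,
    h4⟩
  obtain ⟨k, hk⟩ := hy.2.1
  exact ((hp.odd_of_ne_two hp2).pow).of_dvd_nat (orderOf_dvd_of_pow_eq_one hk)

theorem OcSet.of_equiv {N M : Type*} [Group N] [Group M] (e : N ≃* M) (h : OcSet N) : OcSet M := by
  obtain ⟨Y, h1, h2, h3⟩ := h
  refine ⟨{z | e.symm z ∈ Y}, ?_, ?_, ?_⟩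
  · intro a z hz
    have h4 := h1 ((e.trans a).trans e.symm) _ hz
    have h5 : ((e.trans a).trans e.symm) (e.symm z) = e.symm (a z) := by simp
    rw [h5] at h4
    exact h4
  · intro z hz
    obtain ⟨k1, k2, k3, k4⟩ := h2 _ hz
    refine ⟨?_, ?_, ?_, ?_⟩
    · rintro rfl
      exact k1 (map_one _)
    · rwa [MulEquiv.orderOf_eq] at k2
    · rw [← map_inv, isConj_map_iff] at k3
      exact k3
    · rw [Nat.card_congr (centEquiv e.symm z)]
      exact k4
  · let f : {c : ConjClasses N // ∃ y ∈ Y, c = ConjClasses.mk y} →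
        {c : ConjClasses M // ∃ y ∈ {z | e.symm z ∈ Y}, c = ConjClasses.mk y} := fun c =>
      ⟨ConjClasses.map e.toMonoidHom c.1, by
        obtain ⟨c, y, hy, rfl⟩ := c
        refine ⟨e y, ?_, rfl⟩
        show e.symm (e y) ∈ Y
        rwa [e.symm_apply_apply]⟩
    have hf : Function.Bijective f := by
      constructor
      · rintro ⟨c, y, hy, rfl⟩ ⟨d, z, hz, rfl⟩ hcd
        apply Subtype.ext
        have h5 : ConjClasses.mk (e y) = ConjClasses.mk (e z) := congrArg Subtype.val hcd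
        rw [ConjClasses.mk_eq_mk_iff_isConj, isConj_map_iff] at h5
        exact ConjClasses.mk_eq_mk_iff_isConj.2 h5
      · rintro ⟨d, z, hz, rfl⟩
        obtain ⟨x, rfl⟩ := e.surjective z
        refine ⟨⟨ConjClasses.mk x, x, ?_, rfl⟩, rfl⟩
        have : e.symm (e x) ∈ Y := hz
        rwa [e.symm_apply_apply] at this
    rw [← Nat.card_congr (Equiv.ofBijective f hf)]
    exact h3

section Count

variable {N : Type*} [Group N] [Finite N]

/-- Counting classes modulo two. -/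
theorem odd_classes {Y : Set N} (hconj : ∀ y ∈ Y, ∀ g : N, g * y * g⁻¹ ∈ Y)
    (hodd : ∀ y ∈ Y, Odd (Nat.card (centralizer ({y} : Set N)))) {a b : ℕ} (ha : Odd a) (hb : Odd b)
    (hab : a * Nat.card Y = b * Nat.card N) :
    Odd (Nat.card {c : ConjClasses N // ∃ y ∈ Y, c = ConjClasses.mk y}) := by
  classical
  have hfin : Fintype N := Fintype.ofFinite N
  have hfinC : Fintype {c : ConjClasses N // ∃ y ∈ Y, c = ConjClasses.mk y} := Fintype.ofFinite _
  obtain ⟨k, m, hm, hkm⟩ := Nat.exists_eq_two_pow_mul_odd (n := Nat.card N) Nat.card_pos.ne'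
  -- the sizes of the classes
  have h1 : ∀ c : {c : ConjClasses N // ∃ y ∈ Y, c = ConjClasses.mk y}, ∃ j, Odd j ∧
      Nat.card c.1.carrier = 2 ^ k * j := by
    rintro ⟨_, y, hy, rfl⟩
    have h2 := Cfsg.Agent.SmallSimple.SelfCentPrime.card_carrier_mul_card_centralizer y
    rw [hkm] at h2
    have h3 : 2 ^ k ∣ Nat.card (ConjClasses.mk y).carrier := by
      have h4 : Nat.Coprime (2 ^ k) (Nat.card (centralizer ({y} : Set N))) :=
        Nat.Coprime.pow_left _ ((Nat.coprime_two_left).2 (hodd y hy))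
      exact h4.dvd_of_dvd_mul_right (h2 ▸ Dvd.intro _ rfl)
    obtain ⟨j, hj⟩ := h3
    refine ⟨j, ?_, hj⟩
    rw [hj, mul_assoc] at h2
    have h5 := Nat.eq_of_mul_eq_mul_left (by positivity) h2
    rw [← h5] at hm
    exact (Nat.odd_mul.1 hm).1
  choose j hj hcj using h1
  -- the sum over the classes
  have h2 : Nat.card Y = ∑ c : {c : ConjClasses N // ∃ y ∈ Y, c = ConjClasses.mk y},
      Nat.card c.1.carrier := by
    let f : Y → {c : ConjClasses N // ∃ y ∈ Y, c = ConjClasses.mk y} := fun y =>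
      ⟨ConjClasses.mk y.1, y.1, y.2, rfl⟩
    rw [Nat.card_congr (Equiv.sigmaFiberEquiv f).symm, Nat.card_sigma]
    refine Finset.sum_congr rfl fun c _ => ?_
    obtain ⟨_, y, hy, rfl⟩ := c
    refine Nat.card_congr ⟨fun x => ⟨x.1.1, ?_⟩, fun x => ⟨⟨x.1, ?_⟩, ?_⟩, fun x => ?_, fun x => ?_⟩
    · exact ConjClasses.mem_carrier_iff_mk_eq.2 (congrArg Subtype.val x.2)
    · have h3 := ConjClasses.mem_carrier_iff_mk_eq.1 x.2
      rw [ConjClasses.mk_eq_mk_iff_isConj] at h3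
      obtain ⟨g, hg⟩ := isConj_iff.1 h3.symm
      rw [← hg]
      exact hconj y hy g
    · exact Subtype.ext (ConjClasses.mem_carrier_iff_mk_eq.1 x.2)
    · rfl
    · rfl
  rw [h2, hkm, Finset.sum_congr rfl fun c _ => hcj c, ← Finset.mul_sum] at hab
  have h3 : a * ∑ c, j c = b * m := by
    have h4 : 2 ^ k * (a * ∑ c, j c) = 2 ^ k * (b * m) := by linarith
    exact Nat.eq_of_mul_eq_mul_left (by positivity) h4
  have h4 : Odd (∑ c, j c) := by
    have h5 : Odd (a * ∑ c, j c) := by rw [h3]; exact hb.mul hm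
    exact (Nat.odd_mul.1 h5).2
  rw [Finset.odd_sum_iff_odd_card_odd, Finset.filter_true_of_mem fun c _ => hj c] at h4
  rw [Nat.card_eq_fintype_card]
  exact h4

/-- Real classes. -/
theorem odd_real_classes {Y : Set N} (hinv : ∀ y ∈ Y, y⁻¹ ∈ Y)
    (h : Odd (Nat.card {c : ConjClasses N // ∃ y ∈ Y, c = ConjClasses.mk y})) :
    Odd (Nat.card {c : ConjClasses N // ∃ y ∈ {y | y ∈ Y ∧ IsConj y y⁻¹}, c = ConjClasses.mk y}) := by
  classical
  let I : ConjClasses N → ConjClasses N := Quotient.map (fun x => x⁻¹) (by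
    intro x y hxy
    obtain ⟨k, hk⟩ := isConj_iff.1 hxy
    exact isConj_iff.2 ⟨k, by rw [← hk]; group⟩)
  have hI : ∀ x : N, I (ConjClasses.mk x) = ConjClasses.mk x⁻¹ := fun x => rfl
  let F : {c : ConjClasses N // ∃ y ∈ Y, c = ConjClasses.mk y} →
      {c : ConjClasses N // ∃ y ∈ Y, c = ConjClasses.mk y} := fun c => ⟨I c.1, by
    obtain ⟨_, y, hy, rfl⟩ := c
    exact ⟨y⁻¹, hinv y hy, rfl⟩⟩
  have hF : Function.Involutive F := by
    rintro ⟨_, y, hy, rfl⟩
    apply Subtype.ext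
    show I (I (ConjClasses.mk y)) = ConjClasses.mk y
    rw [hI, hI, inv_inv]
  have h1 := Cfsg.Agent.AschCrit.Count.odd_card_of_involutive hF h
  have e : {x : {c : ConjClasses N // ∃ y ∈ Y, c = ConjClasses.mk y} // F x = x} ≃
      {c : ConjClasses N // ∃ y ∈ {y | y ∈ Y ∧ IsConj y y⁻¹}, c = ConjClasses.mk y} :=
    { toFun := fun x => ⟨x.1.1, by
        obtain ⟨⟨_, y, hy, rfl⟩, hx⟩ := x
        refine ⟨y, ⟨hy, ?_⟩, rfl⟩
        have h2 : ConjClasses.mk y⁻¹ = ConjClasses.mk y := congrArg Subtype.val hx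
        exact (ConjClasses.mk_eq_mk_iff_isConj.1 h2).symm⟩
      invFun := fun x => ⟨⟨x.1, by
        obtain ⟨_, y, hy, rfl⟩ := x
        exact ⟨y, hy.1, rfl⟩⟩, by
        obtain ⟨_, y, hy, rfl⟩ := x
        apply Subtype.ext
        show I (ConjClasses.mk y) = ConjClasses.mk y
        rw [hI]
        exact ConjClasses.mk_eq_mk_iff_isConj.2 hy.2.symm⟩
      left_inv := fun x => rfl
      right_inv := fun x => rfl }
  rw [← Nat.card_congr e]
  exact h1

end Count

section Sylow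

variable {N : Type*} [Group N] [Finite N] {p : ℕ}

/-- The elements contained in exactly one Sylow `p`-subgroup. -/
def One (p : ℕ) (N : Type*) [Group N] : Set N :=
  {y | ∃ P : Sylow p N, y ∈ P ∧ ∀ Q : Sylow p N, y ∈ Q → Q = P}

theorem One.inv {y : N} (hy : y ∈ One p N) : y⁻¹ ∈ One p N := by
  obtain ⟨P, h1, h2⟩ := hy
  exact ⟨P, inv_mem h1, fun Q hQ => h2 Q (by simpa using inv_mem hQ)⟩

/-- **The criterion.** -/
theorem ocSet_of (hp : p.Prime) (hp2 : p ≠ 2) (U : Sylow p N) {B : Subgroup N} {R : Set N}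
    (hRU : ∀ y ∈ R, y ∈ U) (h1 : (1 : N) ∉ R)
    (hr1 : ∀ y ∈ R, ∀ g : N, g⁻¹ * y * g ∈ U → g ∈ B)
    (hB : ∀ b ∈ B, ∀ u ∈ U, b * u * b⁻¹ ∈ U)
    (hr2 : ∀ b ∈ B, ∀ y ∈ R, b * y * b⁻¹ ∈ R)
    (hr3 : ∀ y ∈ U, y ∉ R → ∃ g : N, g ∉ B ∧ g⁻¹ * y * g ∈ U)
    (hr4 : ∀ y ∈ R, Odd (Nat.card (centralizer ({y} : Set N)))) {a b : ℕ} (ha : Odd a) (hb : Odd b)
    (hab : a * Nat.card R = b * Nat.card B) : OcSet N := by
  classical
  have hfp : Fact p.Prime := ⟨hp⟩
  have hBfin : Nat.card B ≠ 0 := Nat.card_pos.ne'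
  obtain ⟨y₀, hy₀⟩ : R.Nonempty := by
    rw [Set.nonempty_iff_ne_empty]
    rintro rfl
    have h0 : Nat.card (∅ : Set N) = 0 := by simp
    rw [h0, mul_zero] at hab
    rcases mul_eq_zero.1 hab.symm with h | h
    · exact hb.pos.ne' h
    · exact hBfin h
  -- conjugates of `U`
  have hconj : ∀ (g x : N), x ∈ g • U ↔ g⁻¹ * x * g ∈ U := by
    intro g x
    show x ∈ ((g • U : Sylow p N) : Subgroup N) ↔ _
    rw [Sylow.coe_subgroup_smul, Subgroup.mem_pointwise_smul_iff_inv_smul_mem, ← map_inv,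
      MulAut.smul_def, MulAut.conj_apply, inv_inv]
    rfl
  have hBsmul : ∀ g : N, g • U = U → g ∈ B := by
    intro g hg
    apply hr1 y₀ hy₀
    rw [← hconj, hg]
    exact hRU y₀ hy₀
  have hsmulB : ∀ g ∈ B, g • U = U := by
    intro g hg
    apply Sylow.ext
    ext x
    show x ∈ g • U ↔ x ∈ U
    rw [hconj]
    constructor
    · intro h
      have h2 := hB g hg _ h
      have h3 : g * (g⁻¹ * x * g) * g⁻¹ = x := by group
      rwa [h3] at h2
    · intro h
      have h2 := hB g⁻¹ (inv_mem hg) _ h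
      rwa [inv_inv] at h2
  -- `R` is the set of elements contained in `U` only
  have hR1 : ∀ y ∈ R, ∀ Q : Sylow p N, y ∈ Q → Q = U := by
    intro y hy Q hyQ
    obtain ⟨g, rfl⟩ := MulAction.exists_smul_eq N U Q
    exact hsmulB g (hr1 y hy g ((hconj g y).1 hyQ))
  have hR2 : ∀ y ∈ U, (∀ Q : Sylow p N, y ∈ Q → Q = U) → y ∈ R := by
    intro y hy hQ
    by_contra hyR
    obtain ⟨g, hg, hyg⟩ := hr3 y hy hyR
    exact hg (hBsmul g (hQ (g • U) ((hconj g y).2 hyg)))
  have hOneR : ∀ z : N, z ∈ One p N ↔ ∃ g : N, g⁻¹ * z * g ∈ R := by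
    intro z
    constructor
    · rintro ⟨P, hP, hPu⟩
      obtain ⟨g, rfl⟩ := MulAction.exists_smul_eq N U P
      refine ⟨g, hR2 _ ((hconj g z).1 hP) fun Q hQ => ?_⟩
      have h2 : z ∈ g • Q := by
        show z ∈ ((g • Q : Sylow p N) : Subgroup N)
        rw [Sylow.coe_subgroup_smul, Subgroup.mem_pointwise_smul_iff_inv_smul_mem, ← map_inv,
          MulAut.smul_def, MulAut.conj_apply, inv_inv]
        exact hQ
      have h3 := hPu _ h2
      exact smul_left_cancel g h3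
    · rintro ⟨g, hg⟩
      refine ⟨g • U, (hconj g z).2 (hRU _ hg), fun Q hQ => ?_⟩
      have h2 : g⁻¹ * z * g ∈ g⁻¹ • Q := by
        show _ ∈ ((g⁻¹ • Q : Sylow p N) : Subgroup N)
        rw [Sylow.coe_subgroup_smul, Subgroup.mem_pointwise_smul_iff_inv_smul_mem, ← map_inv,
          MulAut.smul_def, MulAut.conj_apply, inv_inv]
        have h4 : g * (g⁻¹ * z * g) * g⁻¹ = z := by group
        rw [h4]
        exact hQ
      have h3 := hR1 _ hg _ h2
      rw [← h3, smul_inv_smul]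
  have hOneconj : ∀ z ∈ One p N, ∀ g : N, g * z * g⁻¹ ∈ One p N := by
    intro z hz g
    obtain ⟨k, hk⟩ := (hOneR z).1 hz
    refine (hOneR _).2 ⟨g * k, ?_⟩
    have h4 : (g * k)⁻¹ * (g * z * g⁻¹) * (g * k) = k⁻¹ * z * k := by group
    rw [h4]
    exact hk
  have hcent : ∀ z ∈ One p N, Odd (Nat.card (centralizer ({z} : Set N))) := by
    intro z hz
    obtain ⟨g, hg⟩ := (hOneR z).1 hz
    have h2 := hr4 _ hg
    have h3 : (MulAut.conj g⁻¹) z = g⁻¹ * z * g := by rw [MulAut.conj_apply, inv_inv]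
    rw [← h3, Nat.card_congr (centEquiv (MulAut.conj g⁻¹) z).symm] at h2
    exact h2
  -- the number of elements
  have hcount : Nat.card (One p N) * Nat.card B = Nat.card N * Nat.card R := by
    choose g₀ hg₀ using fun z : One p N => (hOneR z.1).1 z.2
    let f : One p N × B → N × R := fun x =>
      (g₀ x.1 * x.2.1, ⟨x.2.1⁻¹ * ((g₀ x.1)⁻¹ * x.1.1 * g₀ x.1) * x.2.1, by
        have h2 := hr2 x.2.1⁻¹ (inv_mem x.2.2) _ (hg₀ x.1)
        rwa [inv_inv] at h2⟩)
    have hf : Function.Bijective f := by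
      constructor
      · rintro ⟨⟨z, hz⟩, ⟨b, hb⟩⟩ ⟨⟨z', hz'⟩, ⟨b', hb'⟩⟩ h
        have e1 : g₀ ⟨z, hz⟩ * b = g₀ ⟨z', hz'⟩ * b' := congrArg Prod.fst h
        have e2 : b⁻¹ * ((g₀ ⟨z, hz⟩)⁻¹ * z * g₀ ⟨z, hz⟩) * b =
            b'⁻¹ * ((g₀ ⟨z', hz'⟩)⁻¹ * z' * g₀ ⟨z', hz'⟩) * b' :=
          congrArg (fun x : N × R => x.2.1) h
        have e3 : z = z' := by
          have e4 : z = (g₀ ⟨z, hz⟩ * b) *
              (b⁻¹ * ((g₀ ⟨z, hz⟩)⁻¹ * z * g₀ ⟨z, hz⟩) * b) * (g₀ ⟨z, hz⟩ * b)⁻¹ := by group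
          rw [e4, e2, e1]
          group
        subst e3
        have e5 : b = b' := mul_left_cancel e1
        subst e5
        rfl
      · rintro ⟨g, ⟨y, hy⟩⟩
        have hz : g * y * g⁻¹ ∈ One p N := by
          refine (hOneR _).2 ⟨g, ?_⟩
          have h4 : g⁻¹ * (g * y * g⁻¹) * g = y := by group
          rw [h4]
          exact hy
        set k := g₀ ⟨g * y * g⁻¹, hz⟩ with hk
        have h2 : k⁻¹ * (g * y * g⁻¹) * k ∈ R := hg₀ ⟨g * y * g⁻¹, hz⟩
        have hkB : k⁻¹ * g ∈ B := by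
          refine hr1 _ h2 _ ?_
          have h4 : (k⁻¹ * g)⁻¹ * (k⁻¹ * (g * y * g⁻¹) * k) * (k⁻¹ * g) = y := by group
          rw [h4]
          exact hRU y hy
        refine ⟨⟨⟨g * y * g⁻¹, hz⟩, ⟨k⁻¹ * g, hkB⟩⟩, ?_⟩
        refine Prod.ext ?_ (Subtype.ext ?_)
        · show k * (k⁻¹ * g) = g
          group
        · show (k⁻¹ * g)⁻¹ * (k⁻¹ * (g * y * g⁻¹) * k) * (k⁻¹ * g) = y
          group
    have h2 := Nat.card_congr (Equiv.ofBijective f hf)
    rwa [Nat.card_prod, Nat.card_prod] at h2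
  have hab' : a * Nat.card (One p N) = b * Nat.card N := by
    apply Nat.eq_of_mul_eq_mul_right (Nat.pos_of_ne_zero hBfin)
    calc a * Nat.card (One p N) * Nat.card B = a * (Nat.card (One p N) * Nat.card B) := by ring
      _ = Nat.card N * (a * Nat.card R) := by rw [hcount]; ring
      _ = b * Nat.card N * Nat.card B := by rw [hab]; ring
  have hodd := odd_real_classes (fun y hy => One.inv hy) (odd_classes hOneconj hcent ha hb hab')
  refine ⟨{y | y ∈ One p N ∧ IsConj y y⁻¹}, ?_, ?_, hodd⟩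
  · rintro α y ⟨⟨P, hP, hPu⟩, hy⟩
    refine ⟨?_, ?_⟩
    · have hmem : ∀ (β : MulAut N) (Q : Sylow p N) (x : N), x ∈ β • Q ↔ β⁻¹ x ∈ Q := by
        intro β Q x
        show x ∈ ((β • Q : Sylow p N) : Subgroup N) ↔ _
        rw [Sylow.pointwise_smul_def, Subgroup.mem_pointwise_smul_iff_inv_smul_mem]
        rfl
      refine ⟨α • P, (hmem _ _ _).2 ?_, fun Q hQ => ?_⟩
      · rw [MulAut.inv_apply_self]
        exact hP
      · have h2 : y ∈ α⁻¹ • Q := by
          rw [hmem, inv_inv]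
          exact hQ
        rw [← hPu _ h2, smul_inv_smul]
    · rw [← map_inv]
      exact (isConj_map_iff α _ _).2 hy
  · rintro y ⟨hy, hyr⟩
    obtain ⟨g, hg⟩ := (hOneR y).1 hy
    refine ⟨?_, ?_, hyr, hcent y hy⟩
    · rintro rfl
      rw [mul_one, inv_mul_cancel] at hg
      exact h1 hg
    · obtain ⟨P, hP, -⟩ := hy
      obtain ⟨k, hk⟩ := IsPGroup.iff_orderOf.1 P.isPGroup' ⟨y, hP⟩
      rw [Subgroup.orderOf_mk] at hk
      rw [hk]
      exact (hp.odd_of_ne_two hp2).pow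

end Sylow

end Cfsg.Agent.H610.OddReg
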