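import Cfsg.Agent.H610.SpField
import Cfsg.Agent.OddOrderLocal.CyclicSub

/-!
# Real elements of odd prime order with cyclic centralizer

* `CycR N`: there are a prime `r ≠ 2` and a real element of order `r` of `N`, and the Sylow
  `r`-subgroups of `N` are cyclic;
* `cycAt_of_centralizer`: this holds if there is a real element of order `r` with cyclic centralizer;
* `psl_two_plus`, `psl_two_minus`: `PSL(2, q)`, `q` odd, for an odd prime `r` dividing `q + 1` or `q - 1`.
-/

set_option autoImplicit false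

namespace Cfsg.Agent.H610.OddCyc

open Polynomial Matrix Cfsg.Agent.H610.Singer Cfsg.Agent.H610.SpField

/-- A real element of odd prime order `r`, with cyclic Sylow `r`-subgroups. -/
def CycAt (r : ℕ) (N : Type*) [Group N] : Prop :=
  r.Prime ∧ r ≠ 2 ∧ ∃ y : N, orderOf y = r ∧ IsConj y y⁻¹ ∧
    ∀ P : Sylow r N, IsCyclic (P : Subgroup N)

/-- A real element of odd prime order `r`, with cyclic Sylow `r`-subgroups, for some `r`. -/
def CycR (N : Type*) [Group N] : Prop :=
  ∃ r : ℕ, r.Prime ∧ r ≠ 2 ∧ ∃ y : N, orderOf y = r ∧ IsConj y y⁻¹ ∧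
    ∀ P : Sylow r N, IsCyclic (P : Subgroup N)

theorem CycAt.cycR {r : ℕ} {N : Type*} [Group N] (h : CycAt r N) : CycR N := ⟨r, h⟩

/-- From a subgroup containing a Sylow `r`-subgroup. -/
theorem CycAt.of_injective {r : ℕ} {A N : Type*} [Group A] [Group N] [Finite N] (f : A →* N)
    (hf : Function.Injective f) (hi : ¬ r ∣ f.range.index) (h : CycAt r A) : CycAt r N := by
  obtain ⟨hr, hr2, y, hy, hreal, hP⟩ := h
  have hfr : Fact r.Prime := ⟨hr⟩
  have hfin : Finite A := Finite.of_injective f hf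
  refine ⟨hr, hr2, f y, by rw [orderOf_injective f hf, hy], ?_, ?_⟩
  · obtain ⟨k, hk⟩ := isConj_iff.1 hreal
    exact isConj_iff.2 ⟨f k, by rw [← map_inv f k, ← map_mul, ← map_mul, hk, map_inv]⟩
  · obtain ⟨P⟩ : Nonempty (Sylow r A) := inferInstance
    have h1 : IsPGroup r ((P : Subgroup A).map f) := P.isPGroup'.map f
    have h2 : ¬ r ∣ ((P : Subgroup A).map f).index := by
      have h3 : ((P : Subgroup A).map f).index = (P : Subgroup A).index * f.range.index := by
        rw [Subgroup.index_map, (MonoidHom.ker_eq_bot_iff f).2 hf, sup_bot_eq]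
      rw [h3, hr.dvd_mul]
      exact not_or.2 ⟨P.not_dvd_index, hi⟩
    intro Q
    have h4 : IsCyclic (h1.toSylow h2 : Subgroup N) := by
      have := hP P
      exact isCyclic_of_surjective ((P : Subgroup A).equivMapOfInjective f hf)
        ((P : Subgroup A).equivMapOfInjective f hf).surjective
    exact isCyclic_of_surjective (Sylow.equiv (h1.toSylow h2) Q)
      (Sylow.equiv (h1.toSylow h2) Q).surjective

theorem CycAt.of_equiv {r : ℕ} {A N : Type*} [Group A] [Group N] [Finite N] (e : A ≃* N)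
    (h : CycAt r A) : CycAt r N := by
  refine h.of_injective e.toMonoidHom e.injective ?_
  have h1 : e.toMonoidHom.range = ⊤ := MonoidHom.range_eq_top.2 e.surjective
  rw [h1, Subgroup.index_top]
  exact fun h2 => h.1.one_lt.ne' (Nat.dvd_one.1 h2)

theorem CycR.of_equiv {A N : Type*} [Group A] [Group N] [Finite N] (e : A ≃* N)
    (h : CycR A) : CycR N := by
  obtain ⟨r, hr⟩ := h
  exact ⟨r, CycAt.of_equiv e hr⟩

section General

variable {N : Type*} [Group N] [Finite N]

/-- If the centralizer of an element of prime order `r` is cyclic then the Sylow `r`-subgroups are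
cyclic. -/
theorem isCyclic_sylow {r : ℕ} (hr : r.Prime) {y : N} (hy : orderOf y = r)
    (hc : IsCyclic (Subgroup.centralizer ({y} : Set N))) (P : Sylow r N) :
    IsCyclic (P : Subgroup N) := by
  have hfr : Fact r.Prime := ⟨hr⟩
  -- a Sylow subgroup containing `y`
  have h1 : IsPGroup r (Subgroup.zpowers y) :=
    IsPGroup.of_card (n := 1) (by rw [Nat.card_zpowers, hy, pow_one])
  obtain ⟨Q, hQ⟩ := h1.exists_le_sylow
  have hyQ : y ∈ Q := hQ (Subgroup.mem_zpowers y)
  have hQc : IsCyclic (Q : Subgroup N) := by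
    -- a central element of order `r` of `Q`
    have hnt : Nontrivial (Q : Subgroup N) := ⟨⟨y, hyQ⟩, 1, fun h => by
      have h2 : y = 1 := congrArg Subtype.val h
      rw [h2, orderOf_one] at hy
      exact hr.one_lt.ne hy⟩
    have hcn := IsPGroup.center_nontrivial Q.isPGroup'
    obtain ⟨z, hz⟩ : ∃ z : Subgroup.center (Q : Subgroup N), orderOf z = r := by
      apply exists_prime_orderOf_dvd_card'
      obtain ⟨n, hn⟩ := (IsPGroup.iff_card.1 (Q.isPGroup'.to_subgroup (Subgroup.center _)))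
      rw [hn]
      refine dvd_pow_self r ?_
      rintro rfl
      rw [pow_zero] at hn
      have := Finite.one_lt_card_iff_nontrivial.2 hcn
      omega
    set w : N := z.1.1 with hw
    have hwo : orderOf w = r := by
      rw [hw, Subgroup.orderOf_coe, Subgroup.orderOf_coe, hz]
    have hwQ : ∀ a ∈ (Q : Subgroup N), a * w = w * a := fun a ha =>
      congrArg Subtype.val (Subgroup.mem_center_iff.1 z.2 ⟨a, ha⟩)
    have hwc : w ∈ Subgroup.centralizer ({y} : Set N) := by
      rw [Subgroup.mem_centralizer_singleton_iff]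
      exact (hwQ y hyQ).symm
    have hyc : y ∈ Subgroup.centralizer ({y} : Set N) :=
      Subgroup.mem_centralizer_singleton_iff.2 rfl
    -- `y` is a power of `w`
    have hyw : y ∈ Subgroup.zpowers w := by
      have h2 : Subgroup.zpowers w = Subgroup.zpowers y :=
        Cfsg.Agent.OddOrderLocal.CyclicSub.eq_of_card_eq_of_le_cyclic hc
          (Subgroup.zpowers_le.2 hwc) (Subgroup.zpowers_le.2 hyc)
          (by rw [Nat.card_zpowers, Nat.card_zpowers, hwo, hy])
      rw [h2]
      exact Subgroup.mem_zpowers y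
    have hle : (Q : Subgroup N) ≤ Subgroup.centralizer ({y} : Set N) := by
      intro a ha
      obtain ⟨i, rfl⟩ := hyw
      rw [Subgroup.mem_centralizer_singleton_iff]
      exact (Commute.zpow_right (show Commute a w from hwQ a ha) i).eq
    exact isCyclic_of_injective (Subgroup.inclusion hle) (Subgroup.inclusion_injective hle)
  exact isCyclic_of_surjective (Sylow.equiv Q P) (Sylow.equiv Q P).surjective

theorem cycAt_of_centralizer {r : ℕ} (hr : r.Prime) (hr2 : r ≠ 2) {y : N} (hy : orderOf y = r)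
    (hreal : IsConj y y⁻¹) (hc : IsCyclic (Subgroup.centralizer ({y} : Set N))) : CycAt r N :=
  ⟨hr, hr2, y, hy, hreal, isCyclic_sylow hr hy hc⟩

/-- Passing to a central quotient. -/
theorem centralizer_mk {r : ℕ} (hr : r.Prime) (hz : ∀ z ∈ Subgroup.center N, z ^ r = 1 → z = 1)
    {y : N} (hy : orderOf y = r) (hreal : IsConj y y⁻¹)
    (hc : IsCyclic (Subgroup.centralizer ({y} : Set N))) :
    orderOf (QuotientGroup.mk y : N ⧸ Subgroup.center N) = r ∧
      IsConj (QuotientGroup.mk y : N ⧸ Subgroup.center N) (QuotientGroup.mk y)⁻¹ ∧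
      IsCyclic (Subgroup.centralizer ({QuotientGroup.mk y} : Set (N ⧸ Subgroup.center N))) := by
  have hfr : Fact r.Prime := ⟨hr⟩
  have hyr : y ^ r = 1 := by rw [← hy, pow_orderOf_eq_one]
  have key : ∀ a : N, Commute (QuotientGroup.mk a : N ⧸ Subgroup.center N)
      (QuotientGroup.mk y) → Commute a y := by
    intro a ha
    have h1 : (QuotientGroup.mk (y * a) : N ⧸ Subgroup.center N) = QuotientGroup.mk (a * y) := by
      rw [QuotientGroup.mk_mul, QuotientGroup.mk_mul]
      exact ha.symm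
    rw [QuotientGroup.eq] at h1
    set z := (y * a)⁻¹ * (a * y) with hzd
    have h2 : a * y * a⁻¹ = y * z := by
      have h3 : a * y = y * a * z := by rw [hzd]; group
      have h4 : a * z = z * a := (Subgroup.mem_center_iff.1 h1 a)
      rw [h3, mul_assoc y, h4]
      group
    have h5 : z ^ r = 1 := by
      have h6 : (a * y * a⁻¹) ^ r = 1 := by rw [conj_pow, hyr, mul_one, mul_inv_cancel]
      have h7 : Commute y z := (Subgroup.mem_center_iff.1 h1 y)
      rw [h2, h7.mul_pow, hyr, one_mul] at h6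
      exact h6
    have h8 := hz z h1 h5
    rw [h8, mul_one] at h2
    exact mul_inv_eq_iff_eq_mul.1 h2
  refine ⟨?_, ?_, ?_⟩
  · refine orderOf_eq_prime ?_ ?_
    · rw [← QuotientGroup.mk_pow, hyr, QuotientGroup.mk_one]
    · intro h
      rw [QuotientGroup.eq_one_iff] at h
      have h2 := hz y h hyr
      rw [h2, orderOf_one] at hy
      exact hr.one_lt.ne hy
  · obtain ⟨k, hk⟩ := isConj_iff.1 hreal
    refine isConj_iff.2 ⟨QuotientGroup.mk k, ?_⟩
    rw [← QuotientGroup.mk_inv, ← QuotientGroup.mk_inv, ← QuotientGroup.mk_mul,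
      ← QuotientGroup.mk_mul, hk]
  · let f : Subgroup.centralizer ({y} : Set N) →*
        Subgroup.centralizer ({QuotientGroup.mk y} : Set (N ⧸ Subgroup.center N)) :=
      { toFun := fun a => ⟨QuotientGroup.mk a.1, by
          rw [Subgroup.mem_centralizer_singleton_iff, ← QuotientGroup.mk_mul,
            ← QuotientGroup.mk_mul, Subgroup.mem_centralizer_singleton_iff.1 a.2]⟩
        map_one' := rfl
        map_mul' := fun _ _ => rfl }
    refine isCyclic_of_surjective f ?_
    rintro ⟨b, hb⟩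
    obtain ⟨a, rfl⟩ := QuotientGroup.mk_surjective b
    refine ⟨⟨a, ?_⟩, rfl⟩
    rw [Subgroup.mem_centralizer_singleton_iff] at hb ⊢
    exact (key a hb).eq

end General

/-! ### `SL(2, q)` -/

section SLTwo

variable {F : Type*} [Field F] [Fintype F]

/-- The matrices commuting with a matrix with irreducible minimal polynomial, in a group. -/
theorem isCyclic_of_irreducible {ι : Type*} [Fintype ι] [DecidableEq ι] [Nonempty ι]
    {u : Matrix ι ι F} (h1 : Irreducible (minpoly F u))
    (h2 : (minpoly F u).natDegree = Fintype.card ι) {C : Type*} [Group C] [Finite C]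
    (f : C →* Matrix ι ι F) (hf : Function.Injective f) (hcomm : ∀ c, Commute (f c) u) :
    IsCyclic C := by
  classical
  have hv : (Pi.single (Classical.arbitrary ι) 1 : ι → F) ≠ 0 := by
    intro h
    have := congrFun h (Classical.arbitrary ι)
    simp at this
  have hcyc := cyc_of_irreducible rfl h1 h2 hv
  -- every commuting matrix is a polynomial in `u`
  have hpoly : ∀ c : C, ∃ P : F[X], f c = aeval u P := by
    intro c
    obtain ⟨P, hP⟩ := hcyc (f c *ᵥ Pi.single (Classical.arbitrary ι) 1)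
    refine ⟨P, ?_⟩
    apply Matrix.ext_of_mulVec_single
    intro i
    obtain ⟨Q, hQ⟩ := hcyc (Pi.single i 1)
    rw [hQ, mulVec_mulVec, mulVec_mulVec, (commute_aeval (hcomm c) Q).eq, ← mulVec_mulVec, hP,
      mulVec_mulVec, ← map_mul, ← map_mul, mul_comm]
  choose P hP using hpoly
  have hfact : Fact (Irreducible (minpoly F u)) := ⟨h1⟩
  have hmk : ∀ A B : F[X], AdjoinRoot.mk (minpoly F u) A = AdjoinRoot.mk (minpoly F u) B ↔
      aeval u A = aeval u B := by
    intro A B
    rw [AdjoinRoot.mk_eq_mk, ← sub_eq_zero, ← map_sub, ← minpoly.dvd_iff]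
  let g : C →* AdjoinRoot (minpoly F u) :=
    { toFun := fun c => AdjoinRoot.mk _ (P c)
      map_one' := by
        rw [← map_one (AdjoinRoot.mk (minpoly F u)), hmk, ← hP, map_one, map_one]
      map_mul' := fun c d => by
        rw [← map_mul, hmk, ← hP, map_mul, map_mul, hP c, hP d] }
  refine isCyclic_of_injective_ringHom g ?_
  intro c d hcd
  exact hf (by rw [hP c, hP d]; exact (hmk _ _).1 hcd)

/-- Central elements of `SL(2, F)` of odd order are trivial. -/
theorem center_odd {r : ℕ} (hr : Odd r) {z : SpecialLinearGroup (Fin 2) F}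
    (hz : z ∈ Subgroup.center (SpecialLinearGroup (Fin 2) F)) (h : z ^ r = 1) : z = 1 := by
  obtain ⟨c, hc, hcz⟩ := Matrix.SpecialLinearGroup.mem_center_iff.1 hz
  rw [Fintype.card_fin] at hc
  have h2 : z ^ 2 = 1 := by
    have h3 : (z ^ 2).1 = z.1 ^ 2 := rfl
    apply Subtype.ext
    rw [h3, ← hcz, ← map_pow, hc, map_one]
    rfl
  obtain ⟨k, hk⟩ := hr
  rw [hk, pow_add, pow_mul, h2, one_pow, one_mul, pow_one] at h
  exact h

/-- From `SL(2, F)` to `PSL(2, F)`. -/
theorem of_sl {r : ℕ} (hr : r.Prime) (hr2 : r ≠ 2) {y : SpecialLinearGroup (Fin 2) F}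
    (hy : orderOf y = r) (hreal : IsConj y y⁻¹)
    (hc : IsCyclic (Subgroup.centralizer ({y} : Set (SpecialLinearGroup (Fin 2) F)))) :
    CycAt r (ProjectiveSpecialLinearGroup (Fin 2) F) := by
  obtain ⟨h1, h2, h3⟩ := centralizer_mk hr
    (fun z hz h => center_odd (hr.odd_of_ne_two hr2) hz h) hy hreal hc
  exact cycAt_of_centralizer hr hr2 h1 h2 h3

theorem psl_two_plus (h2 : (2 : F) ≠ 0) {r : ℕ} (hr : r.Prime) (hr2 : r ≠ 2)
    (hd : r ∣ Fintype.card F + 1) : CycAt r (ProjectiveSpecialLinearGroup (Fin 2) F) := by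
  classical
  have hfr : Fact r.Prime := ⟨hr⟩
  have h2r : (2 : ZMod r) ≠ 0 := by
    intro h
    have h3 : ((2 : ℕ) : ZMod r) = 0 := by exact_mod_cast h
    rw [ZMod.natCast_eq_zero_iff] at h3
    exact hr2 ((Nat.prime_dvd_prime_iff_eq hr Nat.prime_two).1 h3)
  have hq : ((Fintype.card F : ℕ) : ZMod r) = -1 := by
    have h3 : ((Fintype.card F + 1 : ℕ) : ZMod r) = 0 := (ZMod.natCast_eq_zero_iff _ _).2 hd
    push_cast at h3
    linear_combination h3
  have hord : orderOf ((Fintype.card F : ℕ) : ZMod r) = 2 := by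
    rw [hq]
    have : Fact (Nat.Prime 2) := ⟨Nat.prime_two⟩
    refine orderOf_eq_prime (by norm_num) fun h => h2r ?_
    linear_combination (-1) * h
  obtain ⟨y, hyr, hy1, hreal⟩ := exists_sl_two h2 hr hord
  have hyM : (y.1) ^ r = 1 := by
    have := congrArg Subtype.val hyr
    simpa using this
  have hyM1 : y.1 ≠ 1 := fun h => hy1 (Subtype.ext h)
  obtain ⟨h5, h6⟩ := Singer.irreducible_minpoly (F := F) (n := 2) le_rfl (Fintype.card_fin 2) hr
    hord hyM hyM1
  refine of_sl hr hr2 (orderOf_eq_prime hyr hy1) hreal ?_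
  refine isCyclic_of_irreducible h5 (h6.trans (Fintype.card_fin 2).symm)
    ({ toFun := fun c => c.1.1, map_one' := rfl, map_mul' := fun _ _ => rfl } :
      Subgroup.centralizer ({y} : Set (SpecialLinearGroup (Fin 2) F)) →*
        Matrix (Fin 2) (Fin 2) F) ?_ ?_
  · intro c d hcd
    exact Subtype.ext (Subtype.ext hcd)
  · intro c
    have h7 := Subgroup.mem_centralizer_singleton_iff.1 c.2
    exact congrArg Subtype.val h7

theorem psl_two_minus {r : ℕ} (hr : r.Prime) (hr2 : r ≠ 2)
    (hd : r ∣ Fintype.card F - 1) : CycAt r (ProjectiveSpecialLinearGroup (Fin 2) F) := by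
  classical
  have hfr : Fact r.Prime := ⟨hr⟩
  have hd' : r ∣ Nat.card Fˣ := by
    rw [Nat.card_eq_fintype_card, Fintype.card_units]
    exact hd
  obtain ⟨a, ha⟩ := exists_prime_orderOf_dvd_card' r hd'
  have har : (a : F) ^ r = 1 := by
    rw [← Units.val_pow_eq_pow_val, ← ha, pow_orderOf_eq_one, Units.val_one]
  have ha2 : (a : F) ^ 2 ≠ 1 := by
    intro h
    rw [← Units.val_pow_eq_pow_val, Units.val_eq_one] at h
    have h5 := orderOf_dvd_of_pow_eq_one h
    rw [ha] at h5
    exact hr2 ((Nat.prime_dvd_prime_iff_eq hr Nat.prime_two).1 h5)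
  have ha0 : (a : F) ≠ 0 := a.ne_zero
  have hainv : (a : F) ≠ (a : F)⁻¹ := by
    intro h
    apply ha2
    rw [pow_two]
    nth_rewrite 1 [h]
    exact inv_mul_cancel₀ ha0
  let y : SpecialLinearGroup (Fin 2) F := ⟨!![(a : F), 0; 0, (a : F)⁻¹], by
    rw [Matrix.det_fin_two_of]; field_simp; ring⟩
  have hypow : ∀ n : ℕ, (y ^ n).1 = !![(a : F) ^ n, 0; 0, ((a : F)⁻¹) ^ n] := by
    intro n
    induction n with
    | zero => 
      rw [pow_zero]
      ext i j
      fin_cases i <;> fin_cases j <;> simp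
    | succ n ih =>
      have h3 : (y ^ (n + 1)).1 = (y ^ n).1 * !![(a : F), 0; 0, (a : F)⁻¹] := by
        rw [pow_succ]
        rfl
      rw [h3, ih]
      ext i j
      fin_cases i <;> fin_cases j <;> simp [Matrix.mul_apply, Fin.sum_univ_two, pow_succ]
  have hyr : y ^ r = 1 := by
    apply Subtype.ext
    rw [hypow, har, inv_pow, har, inv_one]
    ext i j
    fin_cases i <;> fin_cases j <;> simp
  have hy1 : y ≠ 1 := by
    intro h
    apply ha2
    have h3 := congrFun (congrFun (congrArg Subtype.val h) 0) 0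
    have h4 : (a : F) = 1 := by simpa [y] using h3
    rw [h4, one_pow]
  have hreal : IsConj y y⁻¹ := by
    let w : SpecialLinearGroup (Fin 2) F := ⟨!![0, 1; -1, 0], by simp⟩
    refine isConj_iff.2 ⟨w, ?_⟩
    rw [mul_inv_eq_iff_eq_mul]
    apply Subtype.ext
    show !![0, 1; -1, 0] * !![(a : F), 0; 0, (a : F)⁻¹] = (y⁻¹).1 * !![0, 1; -1, 0]
    rw [Matrix.SpecialLinearGroup.coe_inv, Matrix.adjugate_fin_two]
    ext i j
    fin_cases i <;> fin_cases j <;> simp [Matrix.mul_apply, Fin.sum_univ_two, y]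
  refine of_sl hr hr2 (orderOf_eq_prime hyr hy1) hreal ?_
  have hcent : ∀ c ∈ Subgroup.centralizer ({y} : Set (SpecialLinearGroup (Fin 2) F)),
      c.1 0 1 = 0 ∧ c.1 1 0 = 0 ∧ c.1 0 0 * c.1 1 1 = 1 := by
    intro c hc
    rw [Subgroup.mem_centralizer_singleton_iff] at hc
    have h3 : c.1 * !![(a : F), 0; 0, (a : F)⁻¹] = !![(a : F), 0; 0, (a : F)⁻¹] * c.1 :=
      congrArg Subtype.val hc
    have h4 := congrFun (congrFun h3 0) 1
    have h5 := congrFun (congrFun h3 1) 0
    simp [Matrix.mul_apply, Fin.sum_univ_two] at h4 h5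
    have h6 : c.1 0 1 = 0 := by
      have h7 : c.1 0 1 * ((a : F)⁻¹ - a) = 0 := by rw [mul_sub, h4]; ring
      exact (mul_eq_zero.1 h7).resolve_right (sub_ne_zero.2 hainv.symm)
    have h7 : c.1 1 0 = 0 := by
      have h8 : c.1 1 0 * ((a : F) - (a : F)⁻¹) = 0 := by rw [mul_sub, h5]; ring
      exact (mul_eq_zero.1 h8).resolve_right (sub_ne_zero.2 hainv)
    refine ⟨h6, h7, ?_⟩
    have h8 := c.2
    rw [Matrix.det_fin_two, h6, h7, mul_zero, sub_zero] at h8
    exact h8
  let g : Subgroup.centralizer ({y} : Set (SpecialLinearGroup (Fin 2) F)) →* F :=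
    { toFun := fun c => c.1.1 0 0
      map_one' := by simp
      map_mul' := fun c d => by
        show (c.1.1 * d.1.1) 0 0 = _
        rw [Matrix.mul_apply, Fin.sum_univ_two, (hcent c.1 c.2).1, zero_mul, add_zero] }
  refine isCyclic_of_injective_ringHom g ?_
  intro c d hcd
  have h3 : c.1.1 0 0 = d.1.1 0 0 := hcd
  obtain ⟨c1, c2, c3⟩ := hcent c.1 c.2
  obtain ⟨d1, d2, d3⟩ := hcent d.1 d.2
  have h4 : c.1.1 1 1 = d.1.1 1 1 := by
    have h5 : c.1.1 0 0 ≠ 0 := left_ne_zero_of_mul_eq_one c3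
    apply mul_left_cancel₀ h5
    rw [c3, h3, d3]
  apply Subtype.ext
  apply Subtype.ext
  ext i j
  fin_cases i <;> fin_cases j
  · exact h3
  · exact c1.trans d1.symm
  · exact c2.trans d2.symm
  · exact h4

/-- `PSL(2, q)` for `q ≥ 5` odd. -/
theorem psl_two (h : Odd (Fintype.card F)) (h5 : 5 ≤ Fintype.card F) :
    CycR (ProjectiveSpecialLinearGroup (Fin 2) F) := by
  have h2 : (2 : F) ≠ 0 := by
    intro h2
    have hchar : CharP F 2 := CharTwo.of_one_ne_zero_of_two_eq_zero one_ne_zero h2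
    have h3 := (FiniteField.even_card_iff_char_two (F := F)).1 (ringChar.eq F 2)
    rw [Nat.odd_iff] at h
    omega
  obtain ⟨k, hk⟩ := h
  rcases Nat.even_or_odd k with hk2 | hk2
  · obtain ⟨r, hr, hrd⟩ := Nat.exists_prime_and_dvd (n := k + 1) (by omega)
    have hr2 : r ≠ 2 := by
      rintro rfl
      rw [Nat.even_iff] at hk2
      omega
    exact (psl_two_plus h2 hr hr2 (by rw [hk]; exact hrd.trans ⟨2, by ring⟩)).cycR
  · obtain ⟨r, hr, hrd⟩ := Nat.exists_prime_and_dvd (n := k) (by omega)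
    have hr2 : r ≠ 2 := by
      rintro rfl
      rw [Nat.odd_iff] at hk2
      omega
    exact (psl_two_minus hr hr2 (by rw [hk]; exact hrd.trans ⟨2, by simp [mul_comm]⟩)).cycR

end SLTwo

end Cfsg.Agent.H610.OddCyc
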