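import Mathlib

/-!
# Odd number of classes of real `p`-elements with centralizer of odd order

* `Yset p N`: the `p`-elements `y ≠ 1` of `N` with `|C_N(y)|` odd;
* `OcAt p N`: `p` is an odd prime, the elements of `Yset p N` are real and form an odd number of
  conjugacy classes;
* `ocAt_of`: the criterion for `S / Z(S)`, where `S` is a normal subgroup of `Γ` such that cubes of
  elements of `Γ` lie in `S Z(Γ)`.
-/

set_option autoImplicit false

namespace Cfsg.Agent.H610.OddOC

open Subgroup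

/-- The `p`-elements `y ≠ 1` with centralizer of odd order. -/
def Yset (p : ℕ) (N : Type*) [Group N] : Set N :=
  {y | y ≠ 1 ∧ (∃ k : ℕ, y ^ p ^ k = 1) ∧ Odd (Nat.card (centralizer ({y} : Set N)))}

/-- The elements of `Yset p N` are real and form an odd number of classes. -/
def OcAt (p : ℕ) (N : Type*) [Group N] : Prop :=
  p.Prime ∧ p ≠ 2 ∧ (∀ y ∈ Yset p N, IsConj y y⁻¹) ∧
    Odd (Nat.card {c : ConjClasses N // ∃ y ∈ Yset p N, c = ConjClasses.mk y})

section Equiv

variable {N M : Type*} [Group N] [Group M]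

/-- Centralizers under isomorphisms. -/
def centEquiv (e : N ≃* M) (y : N) :
    centralizer ({y} : Set N) ≃ centralizer ({e y} : Set M) where
  toFun a := ⟨e a.1, by
    have h := mem_centralizer_singleton_iff.1 a.2
    rw [mem_centralizer_singleton_iff, ← map_mul, ← map_mul, h]⟩
  invFun a := ⟨e.symm a.1, by
    have h := mem_centralizer_singleton_iff.1 a.2
    rw [mem_centralizer_singleton_iff]
    apply e.injective
    rw [map_mul, map_mul, e.apply_symm_apply, h]⟩
  left_inv a := Subtype.ext (e.symm_apply_apply _)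
  right_inv a := Subtype.ext (e.apply_symm_apply _)

theorem mem_Yset_iff {p : ℕ} (e : N ≃* M) (y : N) : e y ∈ Yset p M ↔ y ∈ Yset p N := by
  unfold Yset
  simp only [Set.mem_ofPred_eq]
  rw [Nat.card_congr (centEquiv e y).symm, ne_eq, MulEquiv.map_eq_one_iff]
  have h : (∃ k : ℕ, (e y) ^ p ^ k = 1) ↔ ∃ k : ℕ, y ^ p ^ k = 1 := by
    refine exists_congr fun k => ?_
    rw [← map_pow, MulEquiv.map_eq_one_iff]
  rw [h]

theorem isConj_map_iff (e : N ≃* M) (x y : N) : IsConj (e x) (e y) ↔ IsConj x y := by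
  constructor
  · intro h
    obtain ⟨k, hk⟩ := isConj_iff.1 h
    refine isConj_iff.2 ⟨e.symm k, ?_⟩
    apply e.injective
    rw [map_mul, map_mul, map_inv, e.apply_symm_apply, hk]
  · intro h
    obtain ⟨k, hk⟩ := isConj_iff.1 h
    exact isConj_iff.2 ⟨e k, by rw [← map_inv e k, ← map_mul, ← map_mul, hk]⟩

theorem OcAt.of_equiv {p : ℕ} (e : N ≃* M) (h : OcAt p N) : OcAt p M := by
  obtain ⟨h1, h2, h3, h4⟩ := h
  refine ⟨h1, h2, ?_, ?_⟩
  · intro y hy
    obtain ⟨x, rfl⟩ := e.surjective y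
    have := h3 x ((mem_Yset_iff e x).1 hy)
    rw [← map_inv, isConj_map_iff]
    exact this
  · let f : {c : ConjClasses N // ∃ y ∈ Yset p N, c = ConjClasses.mk y} →
        {c : ConjClasses M // ∃ y ∈ Yset p M, c = ConjClasses.mk y} := fun c =>
      ⟨ConjClasses.map e.toMonoidHom c.1, by
        obtain ⟨c, y, hy, rfl⟩ := c
        exact ⟨e y, (mem_Yset_iff e y).2 hy, rfl⟩⟩
    have hf : Function.Bijective f := by
      constructor
      · rintro ⟨c, y, hy, rfl⟩ ⟨d, z, hz, rfl⟩ hcd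
        apply Subtype.ext
        have h5 : ConjClasses.mk (e y) = ConjClasses.mk (e z) := congrArg Subtype.val hcd
        rw [ConjClasses.mk_eq_mk_iff_isConj, isConj_map_iff] at h5
        exact ConjClasses.mk_eq_mk_iff_isConj.2 h5
      · rintro ⟨d, z, hz, rfl⟩
        obtain ⟨x, rfl⟩ := e.surjective z
        exact ⟨⟨ConjClasses.mk x, x, (mem_Yset_iff e x).1 hz, rfl⟩, rfl⟩
    rw [← Nat.card_congr (Equiv.ofBijective f hf)]
    exact h4

end Equiv

section Main

variable {Γ S : Type*} [Group Γ] [Finite Γ] [Group S] (ι : S →* Γ) (hι : Function.Injective ι)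
  (hn : ∀ (γ : Γ) (s : S), ∃ s' : S, ι s' = γ * ι s * γ⁻¹)

omit [Finite Γ] in
include hn in
theorem range_normal : ι.range.Normal := by
  refine ⟨?_⟩
  rintro _ ⟨s, rfl⟩ γ
  obtain ⟨s', hs'⟩ := hn γ s
  exact ⟨s', hs'⟩

include hι hn in
/-- The action of `γ` on `S`. -/
theorem exists_aut (γ : Γ) : ∃ α : S ≃* S, ∀ s, ι (α s) = γ * ι s * γ⁻¹ := by
  have hnorm := range_normal ι hn
  let e : S ≃* ι.range := MonoidHom.ofInjective hι
  refine ⟨(e.trans (MulAut.conjNormal γ)).trans e.symm, fun s => ?_⟩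
  have h1 : (e (e.symm (MulAut.conjNormal γ (e s))) : ι.range) = MulAut.conjNormal γ (e s) :=
    e.apply_symm_apply _
  have h2 := congrArg Subtype.val h1
  rw [MulAut.conjNormal_apply] at h2
  exact h2

include hι hn in
/-- The action of `γ` on `S / Z(S)`. -/
theorem exists_aut_quot (γ : Γ) : ∃ (α : S ≃* S) (β : (S ⧸ center S) ≃* (S ⧸ center S)),
    (∀ s, ι (α s) = γ * ι s * γ⁻¹) ∧ ∀ s : S, β (QuotientGroup.mk s) = QuotientGroup.mk (α s) := by
  obtain ⟨α, hα⟩ := exists_aut ι hι hn γ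
  have hc : (center S).map (α : S →* S) = center S := by
    ext x
    constructor
    · rintro ⟨y, hy, rfl⟩
      rw [mem_center_iff]
      intro z
      obtain ⟨w, rfl⟩ := α.surjective z
      have h3 := mem_center_iff.1 hy w
      show α w * α y = α y * α w
      rw [← map_mul, ← map_mul, h3]
    · intro hx
      refine ⟨α.symm x, ?_, α.apply_symm_apply x⟩
      rw [SetLike.mem_coe, mem_center_iff]
      intro z
      apply α.injective
      rw [map_mul, map_mul, α.apply_symm_apply]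
      exact mem_center_iff.1 hx (α z)
  exact ⟨α, QuotientGroup.congr (center S) (center S) α hc, hα, fun s => rfl⟩

variable {p : ℕ} (hp : p.Prime) (hp2 : p ≠ 2)
  (h3 : ∀ γ : Γ, ∃ s : S, ∃ c ∈ center Γ, γ ^ 3 = ι s * c)
  (hZ : ∀ z ∈ center S, z ^ p = 1 → z = 1)

include hZ in
theorem center_pow (k : ℕ) (z : S) (hz : z ∈ center S) (h : z ^ p ^ k = 1) : z = 1 := by
  induction k with
  | zero => simpa using h
  | succ k ih =>
    apply ih
    apply hZ _ (pow_mem hz _)
    rw [← pow_mul, ← pow_succ]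
    exact h

include hZ in
/-- Lifting `p`-elements. -/
theorem exists_lift [Finite S] {y : S ⧸ center S} {k : ℕ} (h : y ^ p ^ k = 1) :
    ∃ s : S, s ^ p ^ k = 1 ∧ QuotientGroup.mk s = y := by
  obtain ⟨s, rfl⟩ := QuotientGroup.mk_surjective y
  rw [← QuotientGroup.mk_pow, QuotientGroup.eq_one_iff] at h
  have hinj : Function.Injective (fun z : center S => z ^ p ^ k) := by
    intro a b hab
    have h4 : (a⁻¹ * b) ^ p ^ k = 1 := by
      have h5 : a ^ p ^ k = b ^ p ^ k := hab
      have hc : Commute a⁻¹ b := Subtype.ext (mem_center_iff.1 b.2 _)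
      rw [hc.mul_pow, inv_pow, h5, inv_mul_cancel]
    have h6 : (a⁻¹ * b : center S) = 1 := by
      apply Subtype.ext
      apply center_pow hZ k _ (a⁻¹ * b).2
      have := congrArg Subtype.val h4
      simpa using this
    exact inv_mul_eq_one.1 h6
  obtain ⟨z, hz⟩ := Finite.injective_iff_surjective.1 hinj ⟨s ^ p ^ k, h⟩
  have hz' : z.1 ^ p ^ k = s ^ p ^ k := by
    have := congrArg Subtype.val hz
    simpa using this
  refine ⟨s * z.1⁻¹, ?_, ?_⟩
  · have hc : Commute s z.1⁻¹ := (mem_center_iff.1 (inv_mem z.2) s)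
    rw [hc.mul_pow, inv_pow, hz', mul_inv_cancel]
  · rw [eq_comm, QuotientGroup.eq, ← mul_assoc, inv_mul_cancel, one_mul]
    exact inv_mem z.2

include hZ in
/-- Uniqueness of the lift. -/
theorem lift_unique {s t : S} {k : ℕ} (hs : s ^ p ^ k = 1) (ht : t ^ p ^ k = 1)
    (h : (QuotientGroup.mk s : S ⧸ center S) = QuotientGroup.mk t) : s = t := by
  rw [QuotientGroup.eq] at h
  have h1 : (s⁻¹ * t) ^ p ^ k = 1 := by
    have h2 : t = s * (s⁻¹ * t) := by group
    have hc : Commute s (s⁻¹ * t) := mem_center_iff.1 h s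
    have h4 : t ^ p ^ k = s ^ p ^ k * (s⁻¹ * t) ^ p ^ k := by
      conv_lhs => rw [h2]
      rw [hc.mul_pow]
    rw [hs, ht, one_mul] at h4
    exact h4.symm
  exact inv_mul_eq_one.1 (center_pow hZ k _ h h1)

include hι hn hp hp2 h3 hZ in
/-- **The criterion.** -/
theorem ocAt_of (s₀ : S) (hs₀ : s₀ ^ p = 1) (h₀₁ : s₀ ≠ 1) (hreal : IsConj s₀ s₀⁻¹)
    (hodd : Odd (Nat.card (centralizer ({QuotientGroup.mk s₀} : Set (S ⧸ center S)))))
    (hY : ∀ s : S, s ≠ 1 → (∃ k : ℕ, s ^ p ^ k = 1) → (∃ γ : Γ, ι s = γ * ι s₀ * γ⁻¹) ∨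
      ∃ t : S, t ^ 2 = 1 ∧ t ∉ center S ∧ Commute t s) : OcAt p (S ⧸ center S) := by
  classical
  have hfp : Fact p.Prime := ⟨hp⟩
  have hfin : Finite S := Finite.of_injective ι hι
  -- the elements of `Yset`
  have hYs : ∀ y ∈ Yset p (S ⧸ center S), ∃ (s : S) (γ : Γ), QuotientGroup.mk s = y ∧
      s ^ p = 1 ∧ ι s = γ * ι s₀ * γ⁻¹ := by
    rintro y ⟨hy1, ⟨k, hk⟩, hyodd⟩
    obtain ⟨s, hs, rfl⟩ := exists_lift hZ hk
    have hs1 : s ≠ 1 := by
      rintro rfl
      exact hy1 rfl
    rcases hY s hs1 ⟨k, hs⟩ with ⟨γ, hγ⟩ | ⟨t, ht2, htc, hts⟩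
    · refine ⟨s, γ, rfl, ?_, hγ⟩
      apply hι
      rw [map_pow, hγ, conj_pow, ← map_pow, hs₀, map_one, mul_one, mul_inv_cancel]
    · exfalso
      have h4 : (QuotientGroup.mk t : S ⧸ center S) ∈
          centralizer ({QuotientGroup.mk s} : Set (S ⧸ center S)) := by
        rw [mem_centralizer_singleton_iff, ← QuotientGroup.mk_mul, ← QuotientGroup.mk_mul, hts.eq]
      have h5 : orderOf (⟨QuotientGroup.mk t, h4⟩ :
          centralizer ({QuotientGroup.mk s} : Set (S ⧸ center S))) = 2 := by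
        have : Fact (Nat.Prime 2) := ⟨Nat.prime_two⟩
        refine orderOf_eq_prime ?_ ?_
        · apply Subtype.ext
          show (QuotientGroup.mk t : S ⧸ center S) ^ 2 = 1
          rw [← QuotientGroup.mk_pow, ht2, QuotientGroup.mk_one]
        · intro h6
          have h7 := congrArg Subtype.val h6
          exact htc ((QuotientGroup.eq_one_iff t).1 h7)
      have h6 := orderOf_dvd_natCard (⟨QuotientGroup.mk t, h4⟩ :
          centralizer ({QuotientGroup.mk s} : Set (S ⧸ center S)))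
      rw [h5] at h6
      rw [← Nat.not_even_iff_odd, even_iff_two_dvd] at hyodd
      exact hyodd h6
  have h₀Y : QuotientGroup.mk s₀ ∈ Yset p (S ⧸ center S) := by
    refine ⟨?_, ⟨1, by rw [pow_one, ← QuotientGroup.mk_pow, hs₀, QuotientGroup.mk_one]⟩, hodd⟩
    intro h
    rw [QuotientGroup.eq_one_iff] at h
    exact h₀₁ (hZ s₀ h hs₀)
  refine ⟨hp, hp2, ?_, ?_⟩
  · intro y hy
    obtain ⟨s, γ, rfl, -, hγ⟩ := hYs y hy
    obtain ⟨α, hα⟩ := exists_aut ι hι hn γ
    have hs : s = α s₀ := hι (by rw [hγ, hα])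
    obtain ⟨k, hk⟩ := isConj_iff.1 hreal
    refine isConj_iff.2 ⟨QuotientGroup.mk (α k), ?_⟩
    rw [← QuotientGroup.mk_inv, ← QuotientGroup.mk_inv, ← QuotientGroup.mk_mul,
      ← QuotientGroup.mk_mul, hs, ← map_inv, ← map_mul, ← map_mul, hk, map_inv]
  · -- the classes correspond to the cosets of `H`
    have hnorm := range_normal ι hn
    set H : Subgroup Γ := ι.range ⊔ centralizer ({ι s₀} : Set Γ) with hH
    choose α β hα hβ using exists_aut_quot ι hι hn
    have hαp : ∀ γ, (α γ s₀) ^ p ^ 1 = 1 := fun γ => by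
      rw [pow_one, ← map_pow, hs₀, map_one]
    let f : Γ → {c : ConjClasses (S ⧸ center S) // ∃ y ∈ Yset p (S ⧸ center S),
        c = ConjClasses.mk y} := fun γ =>
      ⟨ConjClasses.mk (QuotientGroup.mk (α γ s₀)), QuotientGroup.mk (α γ s₀), by
        rw [← hβ]
        exact (mem_Yset_iff (β γ) _).2 h₀Y, rfl⟩
    have hfiff : ∀ γ δ : Γ, f γ = f δ ↔ γ⁻¹ * δ ∈ H := by
      intro γ δ
      constructor
      · intro h
        have h4 : ConjClasses.mk (QuotientGroup.mk (α γ s₀) : S ⧸ center S) =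
          ConjClasses.mk (QuotientGroup.mk (α δ s₀)) := congrArg Subtype.val h
        rw [ConjClasses.mk_eq_mk_iff_isConj] at h4
        obtain ⟨k, hk⟩ := isConj_iff.1 h4
        obtain ⟨a, rfl⟩ := QuotientGroup.mk_surjective k
        rw [← QuotientGroup.mk_inv, ← QuotientGroup.mk_mul, ← QuotientGroup.mk_mul] at hk
        have h5 : a * α γ s₀ * a⁻¹ = α δ s₀ := by
          refine lift_unique hZ (k := 1) ?_ (hαp δ) hk
          rw [conj_pow, hαp, mul_one, mul_inv_cancel]
        have h6 := congrArg ι h5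
        rw [map_mul, map_mul, hα, hα, map_inv] at h6
        -- `δ⁻¹ a γ` centralizes `ι s₀`
        have h7 : δ⁻¹ * ι a * γ ∈ centralizer ({ι s₀} : Set Γ) := by
          rw [mem_centralizer_singleton_iff]
          have h8 : ι a * (γ * ι s₀ * γ⁻¹) = δ * ι s₀ * δ⁻¹ * ι a := by
            rw [← h6]
            group
          calc δ⁻¹ * ι a * γ * ι s₀ = δ⁻¹ * (ι a * (γ * ι s₀ * γ⁻¹)) * γ := by group
            _ = δ⁻¹ * (δ * ι s₀ * δ⁻¹ * ι a) * γ := by rw [h8]
            _ = ι s₀ * (δ⁻¹ * ι a * γ) := by group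
        have h8 : γ⁻¹ * δ = (γ⁻¹ * ι a * γ) * (δ⁻¹ * ι a * γ)⁻¹ := by group
        rw [h8]
        refine mul_mem (le_sup_left (a := ι.range) ?_) (inv_mem (le_sup_right (a := ι.range) h7))
        have h9 := hnorm.conj_mem (ι a) ⟨a, rfl⟩ γ⁻¹
        rwa [inv_inv] at h9
      · intro h
        obtain ⟨_, ⟨a, rfl⟩, c, hc, hac⟩ := mem_sup_of_normal_left.1 h
        apply Subtype.ext
        show ConjClasses.mk (QuotientGroup.mk (α γ s₀) : S ⧸ center S) =
          ConjClasses.mk (QuotientGroup.mk (α δ s₀))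
        rw [ConjClasses.mk_eq_mk_iff_isConj]
        refine isConj_iff.2 ⟨QuotientGroup.mk (α γ a), ?_⟩
        rw [← QuotientGroup.mk_inv, ← QuotientGroup.mk_mul, ← QuotientGroup.mk_mul]
        congr 1
        apply hι
        have hδ : δ = γ * (ι a * c) := by rw [hac]; group
        have hcs : c * ι s₀ = ι s₀ * c := mem_centralizer_singleton_iff.1 hc
        rw [← map_inv, ← map_mul, ← map_mul, hα, hα, map_mul, map_mul, map_inv, hδ]
        have h4 : γ * (ι a * c) * ι s₀ * (γ * (ι a * c))⁻¹ =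
            γ * ι a * (c * ι s₀) * c⁻¹ * (ι a)⁻¹ * γ⁻¹ := by group
        rw [h4, hcs]
        group
    let g : Γ ⧸ H → {c : ConjClasses (S ⧸ center S) // ∃ y ∈ Yset p (S ⧸ center S),
        c = ConjClasses.mk y} := Quotient.lift f fun γ δ hγδ =>
      (hfiff γ δ).2 (QuotientGroup.leftRel_apply.1 hγδ)
    have hg : Function.Bijective g := by
      constructor
      · intro x y
        obtain ⟨γ, rfl⟩ := QuotientGroup.mk_surjective x
        obtain ⟨δ, rfl⟩ := QuotientGroup.mk_surjective y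
        intro h
        exact QuotientGroup.eq.2 ((hfiff γ δ).1 h)
      · rintro ⟨c, y, hy, rfl⟩
        obtain ⟨s, γ, rfl, -, hγ⟩ := hYs y hy
        have hs : s = α γ s₀ := hι (by rw [hγ, hα])
        refine ⟨QuotientGroup.mk γ, Subtype.ext ?_⟩
        show ConjClasses.mk (QuotientGroup.mk (α γ s₀) : S ⧸ center S) =
          ConjClasses.mk (QuotientGroup.mk s)
        rw [hs]
    rw [← Nat.card_congr (Equiv.ofBijective g hg)]
    -- the index of `H` is odd
    have h2 : Fact (Nat.Prime 2) := ⟨Nat.prime_two⟩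
    obtain ⟨P⟩ : Nonempty (Sylow 2 Γ) := inferInstance
    have hPH : (P : Subgroup Γ) ≤ H := by
      intro x hx
      obtain ⟨k, hk⟩ := (IsPGroup.iff_orderOf.1 P.isPGroup') ⟨x, hx⟩
      rw [Subgroup.orderOf_mk] at hk
      have hx3 : x ^ 3 ∈ H := by
        obtain ⟨s, c, hc, hsc⟩ := h3 x
        rw [hsc]
        exact mul_mem (le_sup_left (a := ι.range) ⟨s, rfl⟩)
          (le_sup_right (a := ι.range) (center_le_centralizer _ hc))
      have hcop : Nat.Coprime (orderOf x) 3 := by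
        rw [hk]
        exact Nat.Coprime.pow_left _ (by norm_num)
      have h4 : x ∈ zpowers (x ^ 3) := by
        rw [mem_zpowers_pow_iff]
        exact hcop.symm
      exact (zpowers_le.2 hx3) h4
    have h4 : H.index ∣ (P : Subgroup Γ).index := index_dvd_of_le hPH
    have h5 : ¬ 2 ∣ (P : Subgroup Γ).index := P.not_dvd_index
    show Odd H.index
    rw [← Nat.not_even_iff_odd, even_iff_two_dvd]
    exact fun h => h5 (h.trans h4)

end Main

end Cfsg.Agent.H610.OddOC
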