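import Cfsg.Agent.H610.RealOdd

/-!
# Matrices of prime order `r`, where the order of `q` modulo `r` is the degree

* `Cyc u v`: every vector is a polynomial in `u` applied to `v`;
* `Cm u`: the matrices commuting with `u` commute;
* `exists_cyc`: a matrix `u ≠ 1` of degree `n ≥ 2` over a field with `q` elements and with `u ^ r = 1`,
  where `q` has order `n` modulo the prime `r`, has a cyclic vector;
* `realClosed_of_comm`: the criterion for central quotients of matrix groups.
-/

set_option autoImplicit false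

namespace Cfsg.Agent.H610.Singer

open Polynomial Matrix

section Comm

variable {F : Type*} [Field F] {ι : Type*} [Fintype ι] [DecidableEq ι]

/-- Every vector is a polynomial in `u` applied to `v`. -/
def Cyc (u : Matrix ι ι F) (v : ι → F) : Prop := ∀ w : ι → F, ∃ p : F[X], w = aeval u p *ᵥ v

/-- The matrices commuting with `u` commute. -/
def Cm (u : Matrix ι ι F) : Prop := ∀ a b : Matrix ι ι F, Commute a u → Commute b u → Commute a b

theorem commute_aeval {a u : Matrix ι ι F} (h : Commute a u) (p : F[X]) :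
    Commute a (aeval u p) := by
  induction p using Polynomial.induction_on' with
  | add p q hp hq => rw [map_add]; exact hp.add_right hq
  | monomial n c =>
    rw [aeval_monomial]
    exact (Algebra.commute_algebraMap_right c a).mul_right (h.pow_right n)

theorem Cyc.cm {u : Matrix ι ι F} {v : ι → F} (h : Cyc u v) : Cm u := by
  intro a b ha hb
  obtain ⟨P, hP⟩ := h (b *ᵥ v)
  have key : ∀ w, b *ᵥ w = aeval u P *ᵥ w := by
    intro w
    obtain ⟨Q, rfl⟩ := h w
    rw [mulVec_mulVec, mulVec_mulVec, (commute_aeval hb Q).eq, ← mulVec_mulVec, hP, mulVec_mulVec,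
      ← map_mul, ← map_mul, mul_comm]
  have hbP : b = aeval u P := by
    apply Matrix.ext_of_mulVec_single
    intro i
    exact key _
  rw [hbP]
  exact commute_aeval ha P

/-- Transport along an algebra isomorphism. -/
theorem Cm.of_equiv {κ : Type*} [Fintype κ] [DecidableEq κ] (e : Matrix ι ι F ≃* Matrix κ κ F)
    {u : Matrix ι ι F} (h : Cm u) : Cm (e u) := by
  intro a b ha hb
  have h1 := h (e.symm a) (e.symm b) (by
    have := ha.map e.symm
    rwa [e.symm_apply_apply] at this) (by
    have := hb.map e.symm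
    rwa [e.symm_apply_apply] at this)
  have := h1.map e
  rwa [e.apply_symm_apply, e.apply_symm_apply] at this

/-- Extension of the field. -/
theorem Cyc.map {E : Type*} [Field E] (f : F →+* E) {u : Matrix ι ι F} {v : ι → F} (h : Cyc u v) :
    Cyc (u.map f) (f ∘ v) := by
  classical
  intro w
  choose P hP using fun i : ι => h (Pi.single i 1)
  refine ⟨∑ i, C (w i) * (P i).map f, ?_⟩
  have h1 : ∀ i, aeval (u.map f) ((P i).map f) *ᵥ (f ∘ v) = Pi.single i 1 := by
    intro i
    have h2 : aeval (u.map f) ((P i).map f) = (aeval u (P i)).map f := by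
      have h3 : ((aeval u (P i) : Matrix ι ι F)).map f = f.mapMatrix (aeval u (P i)) := rfl
      rw [h3, aeval_def, aeval_def, eval₂_map, hom_eval₂]
      congr 1
      ext c i j
      simp [Matrix.algebraMap_matrix_apply]
      split_ifs <;> simp
    have h4 : (aeval u (P i)).map f *ᵥ (f ∘ v) = f ∘ (aeval u (P i) *ᵥ v) := by
      ext j
      simp [Matrix.mulVec, dotProduct]
    rw [h2, h4, ← hP i]
    ext j
    by_cases hj : j = i
    · subst hj; simp
    · simp [hj]
  rw [map_sum, sum_mulVec]
  ext j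
  rw [Finset.sum_apply]
  have h5 : ∀ i, (aeval (u.map f) (C (w i) * (P i).map f) *ᵥ (f ∘ v)) j =
      w i * (Pi.single i 1 : ι → E) j := by
    intro i
    rw [map_mul, aeval_C, ← mulVec_mulVec, h1, Algebra.algebraMap_eq_smul_one, smul_mulVec,
      one_mulVec]
    simp
  rw [Finset.sum_congr rfl fun i _ => h5 i]
  simp [Pi.single_apply]

theorem isUnit_map {E : Type*} [Field E] (f : F →+* E) {u : Matrix ι ι F} (h : IsUnit (u - 1)) :
    IsUnit (u.map f - 1) := by
  have h1 : u.map f - 1 = f.mapMatrix (u - 1) := by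
    rw [map_sub, map_one]
    rfl
  rw [h1]
  exact h.map f.mapMatrix

/-- Adding a summand of degree one. -/
theorem Cm.fromBlocks {u : Matrix ι ι F} (h : Cm u) (h1 : IsUnit (u - 1)) :
    Cm (Matrix.fromBlocks u 0 0 (1 : Matrix Unit Unit F)) := by
  have key : ∀ a : Matrix (ι ⊕ Unit) (ι ⊕ Unit) F,
      Commute a (Matrix.fromBlocks u 0 0 (1 : Matrix Unit Unit F)) →
      Commute a.toBlocks₁₁ u ∧ a.toBlocks₁₂ = 0 ∧ a.toBlocks₂₁ = 0 := by
    intro a ha
    have h2 : a * Matrix.fromBlocks u 0 0 (1 : Matrix Unit Unit F) =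
      Matrix.fromBlocks u 0 0 (1 : Matrix Unit Unit F) * a := ha
    conv_lhs at h2 => rw [← Matrix.fromBlocks_toBlocks a]
    conv_rhs at h2 => rw [← Matrix.fromBlocks_toBlocks a]
    rw [Matrix.fromBlocks_multiply, Matrix.fromBlocks_multiply, Matrix.fromBlocks_inj] at h2
    simp only [Matrix.mul_zero, Matrix.zero_mul, add_zero, zero_add, Matrix.mul_one,
      Matrix.one_mul] at h2
    obtain ⟨h3, h4, h5, -⟩ := h2
    refine ⟨h3, ?_, ?_⟩
    · have h6 : (u - 1) * a.toBlocks₁₂ = 0 := by rw [Matrix.sub_mul, Matrix.one_mul, ← h4, sub_self]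
      obtain ⟨v, hv⟩ := h1
      have h7 : (v⁻¹ : (Matrix ι ι F)ˣ).1 * (u - 1) = 1 := by rw [← hv]; exact v.inv_mul
      calc a.toBlocks₁₂ = ((v⁻¹ : (Matrix ι ι F)ˣ).1 * (u - 1)) * a.toBlocks₁₂ := by
            rw [h7, Matrix.one_mul]
        _ = 0 := by rw [Matrix.mul_assoc, h6, Matrix.mul_zero]
    · have h6 : a.toBlocks₂₁ * (u - 1) = 0 := by rw [Matrix.mul_sub, Matrix.mul_one, h5, sub_self]
      obtain ⟨v, hv⟩ := h1
      have h7 : (u - 1) * (v⁻¹ : (Matrix ι ι F)ˣ).1 = 1 := by rw [← hv]; exact v.mul_inv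
      calc a.toBlocks₂₁ = a.toBlocks₂₁ * ((u - 1) * (v⁻¹ : (Matrix ι ι F)ˣ).1) := by
            rw [h7, Matrix.mul_one]
        _ = 0 := by rw [← Matrix.mul_assoc, h6, Matrix.zero_mul]
  intro a b ha hb
  obtain ⟨a1, a2, a3⟩ := key a ha
  obtain ⟨b1, b2, b3⟩ := key b hb
  show a * b = b * a
  rw [← Matrix.fromBlocks_toBlocks a, ← Matrix.fromBlocks_toBlocks b, a2, a3, b2, b3,
    Matrix.fromBlocks_multiply, Matrix.fromBlocks_multiply, Matrix.fromBlocks_inj]
  simp only [Matrix.mul_zero, Matrix.zero_mul, add_zero, zero_add, true_and]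
  refine ⟨h _ _ a1 b1, ?_⟩
  ext i j
  simp [Matrix.mul_apply, mul_comm]

end Comm

section Irr

variable {F : Type*} [Field F] [Fintype F] {ι : Type*} [Fintype ι] [DecidableEq ι]

theorem irreducible_minpoly {n : ℕ} (hn : 2 ≤ n) (hι : Fintype.card ι = n) {r : ℕ} (hr : r.Prime)
    (hord : orderOf ((Fintype.card F : ℕ) : ZMod r) = n) {u : Matrix ι ι F} (hu : u ^ r = 1)
    (hu1 : u ≠ 1) : Irreducible (minpoly F u) ∧ (minpoly F u).natDegree = n := by
  classical
  obtain ⟨p, hpchar⟩ := CharP.exists F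
  have := hpchar
  obtain ⟨⟨m, hm⟩, hp, hcard⟩ := FiniteField.card F p
  simp only [PNat.mk_coe] at hcard
  have : Fact p.Prime := ⟨hp⟩
  have : Fact r.Prime := ⟨hr⟩
  have hpr : p ≠ r := by
    rintro rfl
    rw [hcard] at hord
    have h1 : (((p ^ m : ℕ)) : ZMod p) = 0 := by
      rw [Nat.cast_pow, ZMod.natCast_self, zero_pow hm.ne']
    rw [h1, orderOf_zero] at hord
    omega
  have hcop : p.Coprime r := (Nat.coprime_primes hp hr).2 hpr
  have hint : IsIntegral F u := Algebra.IsIntegral.isIntegral u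
  set f := minpoly F u with hf
  have hfmon : f.Monic := minpoly.monic hint
  have hfdvd : f ∣ X ^ r - 1 := by
    apply minpoly.dvd
    simp [hu]
  have hfac : (X ^ r - 1 : F[X]) = (X - 1) * cyclotomic r F := by
    rw [← cyclotomic_prime_mul_X_sub_one F r, mul_comm]
  have hnc : ¬ IsCoprime f (cyclotomic r F) := by
    intro hc
    have h1 : f ∣ X - 1 := by
      apply hc.dvd_of_dvd_mul_right
      rw [← hfac]; exact hfdvd
    have h2 : aeval u (X - 1 : F[X]) = 0 := by
      obtain ⟨g, hg⟩ := h1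
      rw [hg, map_mul, hf, minpoly.aeval, zero_mul]
    apply hu1
    have h3 : u - 1 = 0 := by simpa using h2
    exact sub_eq_zero.1 h3
  have hex : ∃ g : F[X], Irreducible g ∧ g ∣ f ∧ g ∣ cyclotomic r F := by
    have hgcd : ¬ IsUnit (EuclideanDomain.gcd f (cyclotomic r F)) := by
      intro h
      exact hnc (EuclideanDomain.gcd_isUnit_iff.1 h)
    have hg0 : EuclideanDomain.gcd f (cyclotomic r F) ≠ 0 := by
      intro h
      rw [EuclideanDomain.gcd_eq_zero_iff] at h
      exact hfmon.ne_zero h.1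
    obtain ⟨g, hg, hgd⟩ := WfDvdMonoid.exists_irreducible_factor hgcd hg0
    exact ⟨g, hg, hgd.trans (EuclideanDomain.gcd_dvd_left _ _), hgd.trans (EuclideanDomain.gcd_dvd_right _ _)⟩
  obtain ⟨g, hgirr, hgf, hgc⟩ := hex
  have hgdeg : g.natDegree = n := by
    rw [natDegree_of_dvd_cyclotomic_of_irreducible hcard hcop hgc hgirr, ← hord, hcard,
      ← orderOf_units]
    rfl
  have hfdeg : f.natDegree ≤ n := by
    have h2 := natDegree_le_of_dvd (Matrix.minpoly_dvd_charpoly u) (Matrix.charpoly_monic u).ne_zero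
    rwa [Matrix.charpoly_natDegree_eq_dim, hι] at h2
  have hfeq : f.natDegree = n := le_antisymm hfdeg (hgdeg ▸ natDegree_le_of_dvd hgf hfmon.ne_zero)
  refine ⟨?_, hfeq⟩
  have hassoc : Associated g f := by
    obtain ⟨c, hc⟩ := hgf
    have hc0 : c ≠ 0 := by
      rintro rfl
      rw [mul_zero] at hc
      exact hfmon.ne_zero hc
    have hdeg : c.natDegree = 0 := by
      have h1 := natDegree_mul hgirr.ne_zero hc0
      rw [← hc, hfeq, hgdeg] at h1
      omega
    refine associated_of_dvd_dvd ⟨c, hc⟩ ?_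
    have hcu : IsUnit c := by
      rw [Polynomial.isUnit_iff]
      refine ⟨c.coeff 0, ?_, (eq_C_of_natDegree_eq_zero hdeg).symm⟩
      rw [isUnit_iff_ne_zero]
      intro h
      apply hc0
      rw [eq_C_of_natDegree_eq_zero hdeg, h, C_0]
    rw [hc]
    exact (hcu.mul_right_dvd).2 dvd_rfl
  exact hassoc.irreducible hgirr

/-- **A cyclic vector.** -/
theorem cyc_of_irreducible {n : ℕ} (hι : Fintype.card ι = n) {u : Matrix ι ι F}
    (h1 : Irreducible (minpoly F u)) (h2 : (minpoly F u).natDegree = n) {v : ι → F} (hv : v ≠ 0) :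
    Cyc u v := by
  have hint : IsIntegral F u := Algebra.IsIntegral.isIntegral u
  let φ : (Fin n → F) →ₗ[F] (ι → F) :=
    (((Matrix.mulVecBilin F F).flip v).comp
      ((aeval u : F[X] →ₐ[F] Matrix ι ι F).toLinearMap.comp (degreeLT F n).subtype)).comp
      (degreeLTEquiv F n).symm.toLinearMap
  have hφ : ∀ c, φ c = aeval u ((degreeLTEquiv F n).symm c : F[X]) *ᵥ v := fun c => rfl
  have hinj : Function.Injective φ := by
    rw [injective_iff_map_eq_zero]
    intro c hc
    rw [hφ] at hc
    set p : F[X] := ((degreeLTEquiv F n).symm c : F[X]) with hp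
    have hdeg : p.degree < n := mem_degreeLT.1 ((degreeLTEquiv F n).symm c).2
    have hp0 : p = 0 := by
      by_contra hp0
      have h3 : IsCoprime (minpoly F u) p := by
        refine h1.coprime_iff_not_dvd.2 fun h => ?_
        have h4 := natDegree_le_of_dvd h hp0
        rw [h2] at h4
        rw [degree_eq_natDegree hp0] at hdeg
        have : p.natDegree < n := by exact_mod_cast hdeg
        omega
      obtain ⟨a, b, hab⟩ := h3
      apply hv
      have h5 := congrArg (fun t : F[X] => aeval u t *ᵥ v) hab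
      simp only [map_add, map_mul, minpoly.aeval, mul_zero, zero_add, map_one, one_mulVec] at h5
      rw [← h5, ← mulVec_mulVec, hc, mulVec_zero]
    have h6 : (degreeLTEquiv F n).symm c = 0 := Subtype.ext hp0
    exact (LinearEquiv.map_eq_zero_iff _).1 h6
  have hsurj : Function.Surjective φ := by
    refine (LinearMap.injective_iff_surjective_of_finrank_eq_finrank ?_).1 hinj
    rw [Module.finrank_fin_fun, Module.finrank_fintype_fun_eq_card, hι]
  intro w
  obtain ⟨c, hc⟩ := hsurj w
  exact ⟨_, hc.symm⟩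

/-- The element minus one is invertible. -/
theorem isUnit_sub_one {n : ℕ} (hn : 2 ≤ n) {u : Matrix ι ι F}
    (h1 : Irreducible (minpoly F u)) (h2 : (minpoly F u).natDegree = n) : IsUnit (u - 1) := by
  have h3 : IsCoprime (minpoly F u) (X - 1) := by
    refine h1.coprime_iff_not_dvd.2 fun h => ?_
    have h4 := natDegree_le_of_dvd h (X_sub_C_ne_zero 1)
    have h5 : (X - 1 : F[X]).natDegree = 1 := natDegree_X_sub_C 1
    omega
  obtain ⟨a, b, hab⟩ := h3
  have h5 := congrArg (fun t : F[X] => aeval u t) hab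
  simp only [map_add, map_mul, minpoly.aeval, mul_zero, zero_add, map_one, map_sub, aeval_X] at h5
  exact IsUnit.of_mul_eq_one_right _ h5

end Irr

/-- **Criterion** for central quotients of matrix groups. -/
theorem realClosed_of_comm {F : Type*} [Field F] {ι : Type*} [Fintype ι] [DecidableEq ι]
    {G : Type*} [Group G] [Finite G] (M : G →* Matrix ι ι F) (hinj : Function.Injective M)
    (hcenter : ∀ z ∈ Subgroup.center G, ∃ c : F, M z = c • 1)
    {r : ℕ} (hr : r.Prime) (hr2 : r ≠ 2)
    (hscal : ∀ c : F, c ^ r = 1 → (∃ z : G, M z = c • 1) → c = 1)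
    (y : G) (hy : y ^ r = 1) (hy1 : y ≠ 1)
    (hcomm : ∀ a b : G, Commute a y → Commute b y → Commute a b)
    (hreal : IsConj y y⁻¹) : RealClosed (G ⧸ Subgroup.center G) := by
  rcases isEmpty_or_nonempty ι with hι | hι
  · exfalso
    apply hy1
    apply hinj
    exact Subsingleton.elim _ _
  have hz1 : ∀ z ∈ Subgroup.center G, z ^ r = 1 → z = 1 := by
    intro z hz hzr
    obtain ⟨c, hc⟩ := hcenter z hz
    have h1 : c ^ r = 1 := by
      have h2 : M (z ^ r) = c ^ r • 1 := by rw [map_pow, hc, _root_.smul_pow, one_pow]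
      rw [hzr, map_one] at h2
      obtain ⟨i⟩ := hι
      have h3 := congrFun (congrFun h2 i) i
      simpa using h3.symm
    have h2 := hscal c h1 ⟨z, hc⟩
    apply hinj
    rw [hc, h2, one_smul, map_one]
  refine RealClosed.of_comm (y := QuotientGroup.mk y) ?_ ?_ ?_ ?_
  · intro h
    rw [QuotientGroup.eq_one_iff] at h
    exact hy1 (hz1 y h hy)
  · have h1 : (QuotientGroup.mk y : G ⧸ Subgroup.center G) ^ r = 1 := by
      rw [← QuotientGroup.mk_pow, hy, QuotientGroup.mk_one]
    exact (hr.odd_of_ne_two hr2).of_dvd_nat (orderOf_dvd_of_pow_eq_one h1)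
  · obtain ⟨k, hk⟩ := isConj_iff.1 hreal
    refine isConj_iff.2 ⟨QuotientGroup.mk k, ?_⟩
    rw [← QuotientGroup.mk_inv, ← QuotientGroup.mk_inv, ← QuotientGroup.mk_mul,
      ← QuotientGroup.mk_mul, hk]
  · have key : ∀ a : G, Commute (QuotientGroup.mk a : G ⧸ Subgroup.center G)
        (QuotientGroup.mk y) → Commute a y := by
      intro a ha
      have h1 : (QuotientGroup.mk (y * a) : G ⧸ Subgroup.center G) = QuotientGroup.mk (a * y) := by
        rw [QuotientGroup.mk_mul, QuotientGroup.mk_mul]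
        exact ha.symm
      rw [QuotientGroup.eq] at h1
      set z := (y * a)⁻¹ * (a * y) with hz
      have h2 : a * y * a⁻¹ = y * z := by
        have h3 : a * y = y * a * z := by rw [hz]; group
        have h4 : a * z = z * a := (Subgroup.mem_center_iff.1 h1 a)
        rw [h3, mul_assoc y, h4]
        group
      have h5 : z ^ r = 1 := by
        have h6 : (a * y * a⁻¹) ^ r = 1 := by rw [conj_pow, hy, mul_one, mul_inv_cancel]
        have h7 : Commute y z := (Subgroup.mem_center_iff.1 h1 y)
        rw [h2, h7.mul_pow, hy, one_mul] at h6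
        exact h6
      have h8 := hz1 z h1 h5
      rw [h8, mul_one] at h2
      exact mul_inv_eq_iff_eq_mul.1 h2
    intro g h
    obtain ⟨a, rfl⟩ := QuotientGroup.mk_surjective g
    obtain ⟨b, rfl⟩ := QuotientGroup.mk_surjective h
    intro ha hb
    have h1 := hcomm a b (key a ha) (key b hb)
    show _ * _ = _ * _
    rw [← QuotientGroup.mk_mul, h1.eq, QuotientGroup.mk_mul]

end Cfsg.Agent.H610.Singer
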