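import Cfsg.Agent.H610.RealOdd
import Cfsg.Agent.H610.ChevRegular

/-!
# `G₂(q)`, `q` odd, has a real element with centralizer of odd order
-/

set_option autoImplicit false

namespace Cfsg.Agent.H610.TableG2

open Cfsg Cfsg.Lie Cfsg.Agent.ChevalleyStructure.Elts Cfsg.Agent.H610.ChevRegular

variable {F : Type*} [Field F]

theorem inList : InList chevG2 := by simp

theorem cartan_vals : chevG2.cartan 0 (chevG2.simple 0) = 2 ∧ chevG2.cartan 1 (chevG2.simple 1) = 2 ∧
    Odd (chevG2.cartan 0 (chevG2.simple 1)) ∧ Odd (chevG2.cartan 1 (chevG2.simple 0)) := by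
  refine ⟨by decide, by decide, by decide, by decide⟩

theorem g2 [Fintype F] (hF : Odd (Fintype.card F)) : RealOdd (chevG2.group F) := by
  have hD := inList
  have h0 : 0 < chevG2.rank := by decide
  have h1 : 1 < chevG2.rank := by decide
  have hlt : ∀ i < chevG2.rank, i = 0 ∨ i = 1 := by
    intro i hi
    have : chevG2.rank = 2 := rfl
    omega
  obtain ⟨c00, c11, c01, c10⟩ := cartan_vals
  let a : GL chevG2.Idx F := xG hD (chevG2.simple 0) 1
  let b : GL chevG2.Idx F := xG hD (chevG2.simple 1) 1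
  let h : GL chevG2.Idx F := hG hD (chevG2.simple 0) (-1) * hG hD (chevG2.simple 1) (-1)
  have hn : (-1 : F) ≠ 0 := neg_ne_zero.2 one_ne_zero
  have hχ := chi_mul hD (chi_hG hD h0 hn) (chi_hG hD h1 hn)
  have ha : a ∈ chevG2.group F := xG_mem_group hD _ _
  have hb : b ∈ chevG2.group F := xG_mem_group hD _ _
  have hh : h ∈ chevG2.group F := mul_mem (hG_mem_group hD _ _) (hG_mem_group hD _ _)
  have hy : Reg hD (a * b) := by
    refine ⟨mul_mem (xG_mem_posUnipotent hD (Cfsg.Agent.ChevalleyStructure.RootVec.simple_pos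
      (checked hD) h0) _) (xG_mem_posUnipotent hD (Cfsg.Agent.ChevalleyStructure.RootVec.simple_pos
      (checked hD) h1) _), fun i hi => ⟨1, one_ne_zero, ?_⟩⟩
    rcases hlt i hi with rfl | rfl
    · have := comp_mul hD hi (comp_simple hD 0 (1 : F)) (comp_simple_ne hD h0 h1 one_ne_zero 1)
      rwa [add_zero] at this
    · have := comp_mul hD hi (comp_simple_ne hD h1 h0 zero_ne_one (1 : F)) (comp_simple hD 1 1)
      rwa [zero_add] at this
  have hya : h * a * h⁻¹ = a⁻¹ := by
    rw [hχ.conj _ (Cfsg.Agent.ChevalleyStructure.RootVec.simple_lt (checked hD) h0), xG_inv, c00,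
      c10.neg_one_zpow]
    norm_num
  have hyb : h * b * h⁻¹ = b⁻¹ := by
    rw [hχ.conj _ (Cfsg.Agent.ChevalleyStructure.RootVec.simple_lt (checked hD) h1), xG_inv, c11,
      c01.neg_one_zpow]
    norm_num
  refine ⟨⟨a * b, mul_mem ha hb⟩, ?_, ?_, odd_centralizer hF hD le_rfl _ hy⟩
  · intro h
    have h2 : a * b = 1 := congrArg Subtype.val h
    obtain ⟨t, ht, h3⟩ := hy.2 0 h0
    rw [h2] at h3
    exact ht (comp_unique hD h0 h3 (comp_one hD 0))
  · exact isConj_inv (G := chevG2.group F) (a := ⟨a, ha⟩) (b := ⟨b, hb⟩) (h := ⟨h, hh⟩)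
      (Subtype.ext hya) (Subtype.ext hyb)

end Cfsg.Agent.H610.TableG2
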